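import Cfsg.Agent.Lib.AltDeg.Natural

set_option autoImplicit false

/-!
# Canonical lifts of the 3-cycles
-/

namespace Cfsg.Agent.AltDeg

universe u v

variable {r : ℕ} {k : Type u} [Field k] {V : Type v} [AddCommGroup V] [Module k V]

lemma exists_c3_conj (hr : 5 ≤ r) {a b c a' b' c' : Fin r} (hab : a ≠ b) (hac : a ≠ c)
    (hbc : b ≠ c) (hab' : a' ≠ b') (hac' : a' ≠ c') (hbc' : b' ≠ c') :
    ∃ σ : Alt r, σ * c3 a b c * σ⁻¹ = c3 a' b' c' := by
  obtain ⟨σ, hσ⟩ := exists_alt_map ![a, b, c] ![a', b', c'] (injective_triple hab hac hbc)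
    (injective_triple hab' hac' hbc') (by simpa using hr)
  refine ⟨σ, ?_⟩
  rw [c3_conj σ hab hbc]
  congr
  · exact hσ 0
  · exact hσ 1
  · exact hσ 2

lemma sc_mul_cube (d : kˣ) (X : (Module.End k V)ˣ) :
    sc d * X * (sc d * X) * (sc d * X) = sc (d * d * d) * (X * X * X) := by
  have h := (commute_sc d X).symm.mul_pow 3
  simpa [pow_succ, mul_assoc] using h

namespace PRep

variable (ρ : PRep r k V)

/-- Lifts of the centraliser of a 3-cycle centralise its lifts. -/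
theorem c3_centralised (hr : 8 ≤ r) {a b c : Fin r} (hab : a ≠ b) (hac : a ≠ c) (hbc : b ≠ c)
    {X : (Module.End k V)ˣ} (hX : ρ.IsLift (c3 a b c) X) :
    ∀ h, Commute (c3 a b c) h → h ∈ ρ.centLift (c3 a b c) X := by
  intro h hh
  set g := c3 a b c with hg
  have hg' : g ∈ ρ.centLift g X := ρ.mem_centLift_of (Commute.refl g) hX (Commute.refl X)
  have hsupp : suppIn ({a, b, c} : Finset (Fin r))ᶜ ≤ ρ.centLift g X := by
    refine ρ.suppIn_le_centLift ?_ hX fun q hq => ?_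
    · rw [Finset.card_compl, Fintype.card_fin]
      have h3 : ({a, b, c} : Finset (Fin r)).card ≤ 3 := Finset.card_le_three
      omega
    · show g * q = q * g
      rw [← mul_inv_eq_iff_eq_mul]
      have h1 := c3_conj (a := a) (b := b) (c := c) q hab hbc
      rw [hq a (by simp), hq b (by simp), hq c (by simp), ← hg] at h1
      rw [mul_inv_eq_iff_eq_mul] at h1 ⊢
      exact h1.symm
  have hcase : ∀ q : Alt r, Commute g q → (q : Equiv.Perm (Fin r)) a = a →
      q ∈ ρ.centLift g X := by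
    intro q hq hqa
    have hb : (q : Equiv.Perm (Fin r)) b = b := by
      have := congrArg (fun x : Alt r => (x : Equiv.Perm (Fin r)) a) hq.eq
      simp only [alt_mul_apply, hqa] at this
      rw [hg, c3_apply_a hab hac hbc] at this
      exact this.symm
    have hc : (q : Equiv.Perm (Fin r)) c = c := by
      have := congrArg (fun x : Alt r => (x : Equiv.Perm (Fin r)) b) hq.eq
      simp only [alt_mul_apply, hb] at this
      rw [hg, c3_apply_b hab hac hbc] at this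
      exact this.symm
    refine hsupp fun x hx => ?_
    simp only [Finset.mem_compl, Finset.mem_insert, Finset.mem_singleton, not_not] at hx
    rcases hx with rfl | rfl | rfl
    · exact hqa
    · exact hb
    · exact hc
  have hmem : (h : Equiv.Perm (Fin r)) a = a ∨ (h : Equiv.Perm (Fin r)) a = b ∨
      (h : Equiv.Perm (Fin r)) a = c := by
    by_contra hno
    simp only [not_or] at hno
    have := congrArg (fun x : Alt r => (x : Equiv.Perm (Fin r)) a) hh.eq
    simp only [alt_mul_apply] at this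
    rw [hg, c3_apply_ne hab hbc hno.1 hno.2.1 hno.2.2, c3_apply_a hab hac hbc] at this
    exact hab ((h : Equiv.Perm (Fin r)).injective this)
  rcases hmem with h0 | h1 | h2
  · exact hcase h hh h0
  · have := hcase (g⁻¹ * h) ((Commute.refl g).inv_right.mul_right hh) (by
      rw [alt_mul_apply, h1]
      exact alt_inv_apply_of_eq g (c3_apply_a hab hac hbc))
    simpa using mul_mem hg' this
  · have := hcase (g * h) ((Commute.refl g).mul_right hh) (by
      rw [alt_mul_apply, h2]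
      exact c3_apply_c hab hac hbc)
    simpa using mul_mem (inv_mem hg') this

/-- Over an algebraically closed field there is an equivariant family of lifts of order three. -/
theorem exists_cycLift [IsAlgClosed k] (hr : 8 ≤ r) : Nonempty (CycLift ρ) := by
  obtain ⟨a, b, c, hab, hac, hbc⟩ : ∃ a b c : Fin r, a ≠ b ∧ a ≠ c ∧ b ≠ c :=
    ⟨⟨0, by omega⟩, ⟨1, by omega⟩, ⟨2, by omega⟩, by simp [Fin.ext_iff], by simp [Fin.ext_iff],
      by simp [Fin.ext_iff]⟩
  set g := c3 a b c with hg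
  have hg3 : g * g * g = 1 := by
    rw [← inv_eq_iff_mul_eq_one]
    rw [_root_.mul_inv_rev, c3_inv hab hac hbc]
    apply alt_ext
    intro x
    rw [alt_mul_apply]
    by_cases ha : x = a
    · subst ha; rw [c3_apply_a hac hab hbc.symm, c3_apply_b hac hab hbc.symm,
        c3_apply_a hab hac hbc]
    by_cases hb : x = b
    · subst hb; rw [c3_apply_c hac hab hbc.symm, c3_apply_a hac hab hbc.symm,
        c3_apply_b hab hac hbc]
    by_cases hc : x = c
    · subst hc; rw [c3_apply_b hac hab hbc.symm, c3_apply_c hac hab hbc.symm,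
        c3_apply_c hab hac hbc]
    rw [c3_apply_ne hac hbc.symm ha hc hb, c3_apply_ne hac hbc.symm ha hc hb,
      c3_apply_ne hab hbc ha hb hc]
  obtain ⟨X₀, hX₀, hX₀3⟩ : ∃ X₀, ρ.IsLift g X₀ ∧ X₀ * X₀ * X₀ = 1 := by
    have h1 := ρ.lift_mul (ρ.lift_mul (ρ.lift_T g) (ρ.lift_T g)) (ρ.lift_T g)
    rw [hg3] at h1
    obtain ⟨l, hl⟩ := ρ.lift_unique ρ.lift_one h1
    rw [mul_one] at hl
    obtain ⟨m, hm⟩ := IsAlgClosed.exists_pow_nat_eq ((l⁻¹ : kˣ) : k) (show 0 < 3 by omega)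
    have hm0 : m ≠ 0 := by
      intro h
      rw [h, zero_pow (by omega)] at hm
      exact (l⁻¹).ne_zero hm.symm
    refine ⟨sc (Units.mk0 m hm0) * ρ.T g, ⟨_, rfl⟩, ?_⟩
    set M := Units.mk0 m hm0
    have hM : M * M * M = l⁻¹ := by
      ext
      simp only [Units.val_mul, M, Units.val_mk0]
      rw [← hm]; ring
    rw [sc_mul_cube, hl, ← _root_.map_mul, hM, inv_mul_cancel, map_one]
  obtain ⟨σ, hσ⟩ := exists_c3_conj (by omega) hab hac hbc hac hab hbc.symm
  rw [← hg, ← c3_inv hab hac hbc, ← hg] at hσ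
  obtain ⟨X, hX, hX3, hXinv⟩ : ∃ X, ρ.IsLift g X ∧ X * X * X = 1 ∧
      ρ.T σ * X * (ρ.T σ)⁻¹ = X⁻¹ := by
    have h1 : ρ.IsLift g⁻¹ (ρ.T σ * X₀ * (ρ.T σ)⁻¹) := hσ ▸ ρ.lift_conj (ρ.lift_T σ) hX₀
    obtain ⟨d, hd⟩ := ρ.lift_unique (ρ.lift_inv hX₀) h1
    have hd3 : sc (d * d * d) = (1 : (Module.End k V)ˣ) := by
      have h2 : (sc d * X₀⁻¹) * (sc d * X₀⁻¹) * (sc d * X₀⁻¹) = 1 := by
        rw [← hd]
        calc ρ.T σ * X₀ * (ρ.T σ)⁻¹ * (ρ.T σ * X₀ * (ρ.T σ)⁻¹) * (ρ.T σ * X₀ * (ρ.T σ)⁻¹)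
            = ρ.T σ * (X₀ * X₀ * X₀) * (ρ.T σ)⁻¹ := by group
          _ = 1 := by rw [hX₀3]; group
      have h3 : X₀⁻¹ * X₀⁻¹ * X₀⁻¹ = 1 := by
        rw [show X₀⁻¹ * X₀⁻¹ * X₀⁻¹ = (X₀ * X₀ * X₀)⁻¹ by group, hX₀3, inv_one]
      rw [sc_mul_cube, h3, mul_one] at h2
      exact h2
    refine ⟨sc d * X₀, ρ.lift_sc_mul hX₀ d, ?_, ?_⟩
    · rw [sc_mul_cube, hd3, hX₀3, one_mul]
    · calc ρ.T σ * (sc d * X₀) * (ρ.T σ)⁻¹ = sc d * (ρ.T σ * X₀ * (ρ.T σ)⁻¹) := by
            rw [← mul_assoc (ρ.T σ), ← sc_comm]; group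
        _ = sc (d * d * d) * (sc d⁻¹ * X₀⁻¹) := by
            rw [hd, ← mul_assoc, ← mul_assoc, ← _root_.map_mul, ← _root_.map_mul,
              mul_inv_cancel_right]
        _ = (sc d * X₀)⁻¹ := by rw [hd3, one_mul, mul_inv_rev, ← map_inv, sc_comm]
  have hc := ρ.c3_centralised hr hab hac hbc hX
  rw [← hg] at hc
  have hex : ∀ {a' b' c' : Fin r}, a' ≠ b' → a' ≠ c' → b' ≠ c' →
      ∃ τ, τ * g * τ⁻¹ = c3 a' b' c' :=
    fun h1 h2 h3 => exists_c3_conj (by omega) hab hac hbc h1 h2 h3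
  refine ⟨{ ξ := fun a' b' c' => ρ.classLift g X (c3 a' b' c')
            lift := fun a' b' c' h1 h2 h3 => isLift_classLift hX hc (hex h1 h2 h3)
            rot := fun a' b' c' h1 h2 h3 => by simp only [c3_rot h1 h2 h3]
            inv := ?_
            cube := ?_
            conj := ?_ }⟩
  · intro a' b' c' h1 h2 h3
    obtain ⟨τ, hτ⟩ := hex h1 h2 h3
    rw [classLift_eq hc hτ (ρ.lift_T τ),
      classLift_eq hc (σ := τ * σ) (by
        rw [← c3_inv h1 h2 h3, ← hτ,
          show τ * σ * g * (τ * σ)⁻¹ = τ * (σ * g * σ⁻¹) * τ⁻¹ by group, hσ]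
        group) (ρ.lift_mul (ρ.lift_T τ) (ρ.lift_T σ))]
    calc ρ.T τ * ρ.T σ * X * (ρ.T τ * ρ.T σ)⁻¹
        = ρ.T τ * (ρ.T σ * X * (ρ.T σ)⁻¹) * (ρ.T τ)⁻¹ := by group
      _ = _ := by rw [hXinv]; group
  · intro a' b' c' h1 h2 h3
    obtain ⟨τ, hτ⟩ := hex h1 h2 h3
    rw [classLift_eq hc hτ (ρ.lift_T τ), conj_pow, pow_succ, pow_two, hX3]
    group
  · intro a' b' c' h1 h2 h3 τ Y hY
    rw [classLift_conj hc (hex h1 h2 h3) hY, c3_conj τ h1 h3]

end PRep

/-- The degree bound for `Alt r`: at least `r - 2`, and `r - 1` if `r` is non-zero in `k`. -/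
def AltBound (r : ℕ) (k : Type u) (V : Type v) [Field k] [AddCommGroup V] [Module k V] : Prop :=
  r - 2 ≤ Module.finrank k V ∧ ((r : k) ≠ 0 → r - 1 ≤ Module.finrank k V)

lemma altBound_of_le {n : ℕ} (h : r - 1 ≤ n) (hn : n ≤ Module.finrank k V) : AltBound r k V :=
  ⟨by omega, fun _ => by omega⟩

namespace CycLift

variable {ρ : PRep r k V} (L : CycLift ρ)

/-- Canonical lifts of disjoint 3-cycles commute. -/
lemma commute_disjoint {a b c d e f : Fin r} (hab : a ≠ b) (hac : a ≠ c) (hbc : b ≠ c)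
    (hde : d ≠ e) (hdf : d ≠ f) (hef : e ≠ f) (hd : d ≠ a ∧ d ≠ b ∧ d ≠ c)
    (he : e ≠ a ∧ e ≠ b ∧ e ≠ c) (hf : f ≠ a ∧ f ≠ b ∧ f ≠ c) :
    Commute (L.ξ a b c) (L.ξ d e f) := by
  have h := L.conj a b c hab hac hbc (c3 d e f) (L.ξ d e f) (L.lift d e f hde hdf hef)
  rw [c3_apply_ne hde hef (Ne.symm hd.1) (Ne.symm he.1) (Ne.symm hf.1),
    c3_apply_ne hde hef (Ne.symm hd.2.1) (Ne.symm he.2.1) (Ne.symm hf.2.1),
    c3_apply_ne hde hef (Ne.symm hd.2.2) (Ne.symm he.2.2) (Ne.symm hf.2.2),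
    mul_inv_eq_iff_eq_mul] at h
  exact h.symm

/-- The square of a product of two canonical lifts sharing two points is scalar. -/
lemma sq_scalar {a b c d : Fin r} (hab : a ≠ b) (hac : a ≠ c) (had : a ≠ d) (hbc : b ≠ c)
    (hbd : b ≠ d) (hcd : c ≠ d) :
    ∃ e : kˣ, L.ξ a b c * L.ξ a b d * (L.ξ a b c * L.ξ a b d) = sc e := by
  have hp : c3 a b c * c3 a b d * (c3 a b c * c3 a b d) = 1 := by
    have h1 : c3 a b c * c3 a b d = d2 a c b d := by
      apply alt_ext
      intro x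
      rw [alt_mul_apply]
      by_cases hxa : x = a
      · subst hxa; rw [c3_apply_a hab had hbd, c3_apply_b hab hac hbc, d2_apply_a hac hbd hab had]
      by_cases hxb : x = b
      · subst hxb; rw [c3_apply_b hab had hbd, c3_apply_ne hab hbc had.symm hbd.symm hcd.symm,
          d2_apply_c hac hbd had hcd]
      by_cases hxc : x = c
      · subst hxc; rw [c3_apply_ne hab hbd hac.symm hbc.symm hcd, c3_apply_c hab hac hbc,
          d2_apply_b hac hbd hbc.symm hcd]
      by_cases hxd : x = d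
      · subst hxd; rw [c3_apply_c hab had hbd, c3_apply_a hab hac hbc,
          d2_apply_d hac hbd hab hbc.symm]
      rw [c3_apply_ne hab hbd hxa hxb hxd, c3_apply_ne hab hbc hxa hxb hxc,
        d2_apply_ne hac hbd hxa hxc hxb hxd]
    rw [h1, d2_mul_self hac hbd hab had hbc.symm hcd]
  have h2 := ρ.lift_mul (ρ.lift_mul (L.lift a b c hab hac hbc) (L.lift a b d hab had hbd))
    (ρ.lift_mul (L.lift a b c hab hac hbc) (L.lift a b d hab had hbd))
  rw [hp] at h2
  obtain ⟨e, he⟩ := ρ.lift_unique ρ.lift_one h2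
  exact ⟨e, by rw [he, mul_one]⟩

/-- Canonical lifts sharing two points do not commute. -/
lemma not_commute {a b c d : Fin r} (hab : a ≠ b) (hac : a ≠ c) (had : a ≠ d) (hbc : b ≠ c)
    (hbd : b ≠ d) (hcd : c ≠ d) : ¬ Commute (L.ξ a b c) (L.ξ a b d) := by
  refine ρ.not_commute_of_not_commute ?_ (L.lift a b c hab hac hbc) (L.lift a b d hab had hbd)
  intro h
  have := congrArg (fun x : Alt r => (x : Equiv.Perm (Fin r)) a) h.eq
  simp only [alt_mul_apply] at this
  rw [c3_apply_a hab had hbd, c3_apply_a hab hac hbc, c3_apply_b hab hac hbc,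
    c3_apply_b hab had hbd] at this
  exact hcd this

end CycLift

end Cfsg.Agent.AltDeg
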