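import Cfsg.Agent.Lib.AltDeg.Quadratic

set_option autoImplicit false

/-!
# The degree bound in characteristic different from three
-/

namespace Cfsg.Agent.AltDeg

open Module

universe u v

variable {r : ℕ} {k : Type u} [Field k] {V : Type v} [AddCommGroup V] [Module k V]

/-- `C(m,j) ≥ m` for `0 < j < m`. -/
lemma le_choose_of_lt : ∀ (m j : ℕ), 0 < j → j < m → m ≤ m.choose j := by
  intro m
  induction m with
  | zero => intro j _ h; omega
  | succ m ih =>
    intro j hj hjm
    obtain ⟨i, rfl⟩ := Nat.exists_eq_succ_of_ne_zero (Nat.pos_iff_ne_zero.mp hj)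
    rw [Nat.choose_succ_succ]
    by_cases hi : i = 0
    · subst hi; simp
    by_cases him : i + 1 = m
    · subst him
      rw [Nat.choose_self, Nat.choose_succ_self_right]
    · have h1 := ih (i + 1) (by omega) (by omega)
      have h2 : 0 < m.choose i := Nat.choose_pos (by omega)
      show m + 1 ≤ m.choose i + m.choose (i + 1)
      omega

lemma ne_inv_of_cube {c : k} (h : c ^ 3 = 1) (h1 : c ≠ 1) : c ≠ c⁻¹ := by
  intro he
  have hc : c ≠ 0 := by rintro rfl; simp at h
  have : c * c = 1 := by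
    nth_rewrite 2 [he]
    exact mul_inv_cancel₀ hc
  apply h1
  calc c = c * (c * c) := by rw [this, mul_one]
    _ = c ^ 3 := by ring
    _ = 1 := h

namespace CycLift

variable {ρ : PRep r k V} (L : CycLift ρ)

lemma cube_apply {a b c : Fin r} (hab : a ≠ b) (hac : a ≠ c) (hbc : b ≠ c) (v : V) :
    (L.ξ a b c : Module.End k V) ((L.ξ a b c : Module.End k V)
      ((L.ξ a b c : Module.End k V) v)) = v := by
  rw [← mul_apply_units, ← mul_apply_units, show L.ξ a b c * L.ξ a b c * L.ξ a b c =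
    L.ξ a b c ^ 3 from (pow_three' _).symm, L.cube a b c hab hac hbc]
  rfl

lemma eigen_cube {a b c : Fin r} (hab : a ≠ b) (hac : a ≠ c) (hbc : b ≠ c) {v : V} (hv : v ≠ 0)
    {e : k} (he : (L.ξ a b c : Module.End k V) v = e • v) : e ^ 3 = 1 := by
  have h := L.cube_apply hab hac hbc v
  rw [he, map_smul, he, map_smul, map_smul, he, smul_smul, smul_smul] at h
  rw [show e ^ 3 = e * (e * e) by ring]
  have h' : (e * (e * e)) • v = (1 : k) • v := by rw [one_smul, ← mul_assoc, h]
  exact smul_left_injective k hv h'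

/-- In characteristic not three `ker (x - 1)` meets `im (x - 1)` trivially. -/
lemma eigen_ne_one (h3 : (3 : k) ≠ 0) {a b c : Fin r} (hab : a ≠ b) (hac : a ≠ c) (hbc : b ≠ c)
    (u : V) {e : k} {v : V} (hv : v ≠ 0) (hvu : v = (L.ξ a b c : Module.End k V) u - u)
    (he : (L.ξ a b c : Module.End k V) v = e • v) : e ≠ 1 := by
  rintro rfl
  rw [one_smul] at he
  have hu := L.cube_apply hab hac hbc u
  set X := (L.ξ a b c : Module.End k V) with hX
  have h1 : X u = v + u := by rw [hvu]; abel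
  have h2 : X (X (X u)) = v + v + v + u := by
    rw [h1, map_add, he, h1, map_add, he, map_add, he, h1]; abel
  rw [hu] at h2
  have h4 : (3 : k) • v = 0 := by
    have : v + v + v = 0 := by simpa using h2.symm
    rw [← this]
    module
  exact hv ((smul_eq_zero.mp h4).resolve_left h3)

lemma exists_eigen [IsAlgClosed k] [FiniteDimensional k V] (h3 : (3 : k) ≠ 0) {a b c : Fin r}
    (hab : a ≠ b) (hac : a ≠ c) (hbc : b ≠ c) :
    ∃ v : V, v ≠ 0 ∧ ∃ e : k, e ≠ 1 ∧ e ^ 3 = 1 ∧
      (L.ξ a b c : Module.End k V) v = e • v := by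
  set X := (L.ξ a b c : Module.End k V) with hX
  have hne : LinearMap.range (X - 1) ≠ ⊥ := by
    intro h
    rw [LinearMap.range_eq_bot, sub_eq_zero] at h
    have h1 : L.ξ a b c = 1 := Units.ext h
    have h2 := L.lift a b c hab hac hbc
    rw [h1, ← map_one (sc (k := k) (V := V))] at h2
    exact c3_ne_one hab hac hbc (ρ.lift_scalar h2)
  obtain ⟨v, hv, hv0, μ, hμ⟩ := exists_joint_eigen (S := Unit) (fun _ => X)
    (fun _ _ => Commute.refl X) _ hne (fun _ w hw => by
      obtain ⟨u, rfl⟩ := hw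
      exact ⟨X u, by simp [LinearMap.sub_apply, map_sub]⟩)
  obtain ⟨u, hu⟩ := hv
  exact ⟨v, hv0, μ (), L.eigen_ne_one h3 hab hac hbc u hv0
    (by rw [← hu, LinearMap.sub_apply]; rfl) (hμ ()), L.eigen_cube hab hac hbc hv0 (hμ ()), hμ ()⟩

/-- Quadratic action of disjoint pairs gives the natural module. -/
theorem natural_of_disjoint [IsAlgClosed k] [FiniteDimensional k V] (h3 : (3 : k) ≠ 0)
    (hr : 9 ≤ r)
    (hQ : ∀ a b c d e f : Fin r, a ≠ b → a ≠ c → b ≠ c → d ≠ e → d ≠ f → e ≠ f →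
      (d ≠ a ∧ d ≠ b ∧ d ≠ c) → (e ≠ a ∧ e ≠ b ∧ e ≠ c) → (f ≠ a ∧ f ≠ b ∧ f ≠ c) →
      ∀ w, (L.ξ d e f : Module.End k V) ((L.ξ a b c : Module.End k V) w - w) =
        (L.ξ a b c : Module.End k V) w - w) : AltBound r k V := by
  -- eigenvectors are fixed off their triple
  have hfix : ∀ {a b c : Fin r}, a ≠ b → a ≠ c → b ≠ c → ∀ {v : V} {e : k}, e ≠ 1 →
      (L.ξ a b c : Module.End k V) v = e • v → L.FixedOff {a, b, c} v := by
    intro a b c hab hac hbc v e he hv x y w hx hy hw hxy hxw hyw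
    simp only [Finset.mem_insert, Finset.mem_singleton, not_or] at hx hy hw
    have h := hQ a b c x y w hab hac hbc hxy hxw hyw hx hy hw v
    rw [hv, show e • v - v = (e - 1) • v by rw [sub_smul, one_smul], map_smul] at h
    exact smul_right_injective V (sub_ne_zero.mpr he) h
  have hex : ∀ T : Finset (Fin r), T.card = 3 → ∃ w, w ≠ 0 ∧ L.FixedOff T w := by
    intro T hT
    obtain ⟨a, b, c, hab, hac, hbc, rfl⟩ := Finset.card_eq_three.mp hT
    obtain ⟨v, hv, e, he, -, hve⟩ := L.exists_eigen h3 hab hac hbc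
    exact ⟨v, hv, hfix hab hac hbc he hve⟩
  let p : Fin 6 → Fin r := fun i => ⟨i.1, by omega⟩
  have hp : ∀ i j, i ≠ j → p i ≠ p j := fun i j h hij => h (by simpa [p, Fin.ext_iff] using hij)
  have h01 := hp 0 1 (by decide)
  have h03 := hp 0 3 (by decide)
  have h04 := hp 0 4 (by decide)
  have h13 := hp 1 3 (by decide)
  have h14 := hp 1 4 (by decide)
  have h34 := hp 3 4 (by decide)
  have h32 := hp 3 2 (by decide)
  have h42 := hp 4 2 (by decide)
  have h02 := hp 0 2 (by decide)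
  have h12 := hp 1 2 (by decide)
  obtain ⟨v, hv, c, hc1, hc3, hvc⟩ := L.exists_eigen h3 h01 h03 h13
  have hvfix := hfix h01 h03 h13 hc1 hvc
  set H := L.ξ (p 3) (p 4) (p 2) with hH
  set z := v - (H : Module.End k V) v with hzdef
  have hk : ∀ j, j ≠ p 0 → j ≠ p 1 → j ≠ p 3 → j ≠ p 4 →
      z = v - (L.ξ (p 3) (p 4) j : Module.End k V) v := by
    intro j hj0 hj1 hj3 hj4
    rw [hzdef]
    congr 1
    by_cases hj2 : j = p 2
    · rw [hj2]
    set K := L.ξ (p 3) (p 4) j with hK
    have hperm : (c3 (p 3) (p 4) (p 2))⁻¹ * c3 (p 3) (p 4) j = c3 (p 4) j (p 2) := by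
      rw [c3_inv h34 h32 h42]
      apply alt_ext
      intro x
      rw [alt_mul_apply]
      by_cases hx3 : x = p 3
      · subst hx3
        rw [c3_apply_a h34 (Ne.symm hj3) (Ne.symm hj4), c3_apply_c h32 h34 h42.symm,
          c3_apply_ne (Ne.symm hj4) hj2 h34 (Ne.symm hj3) h32]
      by_cases hx4 : x = p 4
      · subst hx4
        rw [c3_apply_b h34 (Ne.symm hj3) (Ne.symm hj4), c3_apply_ne h32 h42.symm hj3 hj2 hj4,
          c3_apply_a (Ne.symm hj4) h42 hj2]
      by_cases hxj : x = j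
      · subst hxj
        rw [c3_apply_c h34 (Ne.symm hj3) (Ne.symm hj4), c3_apply_a h32 h34 h42.symm,
          c3_apply_b (Ne.symm hj4) h42 hj2]
      by_cases hx2 : x = p 2
      · subst hx2
        rw [c3_apply_ne h34 (Ne.symm hj4) h32.symm h42.symm hxj, c3_apply_b h32 h34 h42.symm,
          c3_apply_c (Ne.symm hj4) h42 hj2]
      rw [c3_apply_ne h34 (Ne.symm hj4) hx3 hx4 hxj, c3_apply_ne h32 h42.symm hx3 hx2 hx4,
        c3_apply_ne (Ne.symm hj4) hj2 hx4 hxj hx2]
    have hlift := ρ.lift_mul (ρ.lift_inv (L.lift _ _ _ h34 h32 h42))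
      (L.lift _ _ _ h34 (Ne.symm hj3) (Ne.symm hj4))
    rw [hperm] at hlift
    obtain ⟨d, hd⟩ := ρ.lift_unique (L.lift _ _ _ (Ne.symm hj4) h42 hj2) hlift
    obtain ⟨T, hT, hTS⟩ := exists_triple_avoid ({p 2, p 3, p 4, j} : Finset (Fin r)) (by
      have h0 : ({p 2, p 3, p 4, j} : Finset (Fin r)).card ≤ 4 := Finset.card_le_four
      omega)
    obtain ⟨u, hu0, hu⟩ := hex T hT
    have o2 : p 2 ∉ T := fun h => hTS _ h (by simp)
    have o3 : p 3 ∉ T := fun h => hTS _ h (by simp)
    have o4 : p 4 ∉ T := fun h => hTS _ h (by simp)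
    have oj : j ∉ T := fun h => hTS _ h (by simp)
    have hd1 : d = 1 := by
      have h := congrArg (fun X : (Module.End k V)ˣ => (X : Module.End k V) u) hd
      simp only [mul_apply_units, sc_apply] at h
      rw [hu _ _ _ o3 o4 oj h34 (Ne.symm hj3) (Ne.symm hj4),
        hu _ _ _ o4 oj o2 (Ne.symm hj4) h42 hj2] at h
      have h' := hu _ _ _ o3 o4 o2 h34 h32 h42
      rw [← h', inv_apply_units, h'] at h
      exact Units.ext (smul_left_injective k hu0 (by simpa using h.symm))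
    rw [hd1, map_one, one_mul] at hd
    have h := congrArg (fun X : (Module.End k V)ˣ => (X : Module.End k V) v) hd
    simp only [mul_apply_units] at h
    rw [hvfix _ _ _ (by simp [h04.symm, h14.symm, h34.symm]) (by simp [hj0, hj1, hj3])
      (by simp [h02.symm, h12.symm, h32.symm]) (Ne.symm hj4) h42 hj2] at h
    rw [← apply_inv_units H ((K : Module.End k V) v), h]
  have hz : z ≠ 0 := by
    intro h0
    have hHv : (H : Module.End k V) v = v := (sub_eq_zero.mp h0).symm
    have hv4 : (L.ξ (p 0) (p 1) (p 4) : Module.End k V) v = c • v := by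
      have h := L.conj (p 0) (p 1) (p 3) h01 h03 h13 (c3 (p 3) (p 4) (p 2)) H
        (L.lift _ _ _ h34 h32 h42)
      rw [c3_apply_ne h34 h42 h03 h04 h02, c3_apply_ne h34 h42 h13 h14 h12,
        c3_apply_a h34 h32 h42] at h
      have hHi : ((H⁻¹ : (Module.End k V)ˣ) : Module.End k V) v = v := by
        conv_lhs => rw [← hHv, inv_apply_units]
      rw [← h, mul_apply_units, mul_apply_units, hHi, hvc, map_smul, hHv]
    obtain ⟨e, he⟩ := L.sq_scalar h01 h03 h04 h13 h14 h34
    obtain ⟨T, hT, hTS⟩ := exists_triple_avoid ({p 0, p 1, p 3, p 4} : Finset (Fin r)) (by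
      have h0' : ({p 0, p 1, p 3, p 4} : Finset (Fin r)).card ≤ 4 := Finset.card_le_four
      omega)
    obtain ⟨u, hu0, hu⟩ := hex T hT
    have o0 : p 0 ∉ T := fun h => hTS _ h (by simp)
    have o1 : p 1 ∉ T := fun h => hTS _ h (by simp)
    have o3 : p 3 ∉ T := fun h => hTS _ h (by simp)
    have o4 : p 4 ∉ T := fun h => hTS _ h (by simp)
    have h1 := congrArg (fun X : (Module.End k V)ˣ => (X : Module.End k V) u) he
    simp only [mul_apply_units, sc_apply] at h1
    rw [hu _ _ _ o0 o1 o4 h01 h04 h14, hu _ _ _ o0 o1 o3 h01 h03 h13,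
      hu _ _ _ o0 o1 o4 h01 h04 h14, hu _ _ _ o0 o1 o3 h01 h03 h13] at h1
    have he1 : (e : k) = 1 := smul_left_injective k hu0 (by simpa using h1.symm)
    have h2 := congrArg (fun X : (Module.End k V)ˣ => (X : Module.End k V) v) he
    simp only [mul_apply_units, sc_apply] at h2
    simp only [he1, one_smul, hv4, hvc, map_smul, smul_smul] at h2
    have h5 : c * c * c * c = 1 := smul_left_injective k hv (by
      simp only [one_smul]; exact h2)
    apply hc1
    calc c = c * c ^ 3 := by rw [hc3, mul_one]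
      _ = c * c * c * c := by ring
      _ = 1 := h5
  have hzfix : L.FixedOff {p 3, p 4} z := by
    intro x y w hx hy hw hxy hxw hyw
    simp only [Finset.mem_insert, Finset.mem_singleton, not_or] at hx hy hw
    obtain ⟨j, hj⟩ := exists_ne_of_card ({p 0, p 1, p 3, p 4, x, y, w} : Finset (Fin r)) (by
      have h1 := Finset.card_insert_le (p 0) ({p 1, p 3, p 4, x, y, w} : Finset (Fin r))
      have h2 : ({p 1, p 3, p 4, x, y, w} : Finset (Fin r)).card ≤ 6 := Finset.card_le_six
      omega)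
    simp only [Finset.mem_insert, Finset.mem_singleton, not_or] at hj
    rw [hk j hj.1 hj.2.1 hj.2.2.1 hj.2.2.2.1,
      ← neg_sub ((L.ξ (p 3) (p 4) j : Module.End k V) v) v, map_neg,
      hQ (p 3) (p 4) j x y w h34 (Ne.symm hj.2.2.1) (Ne.symm hj.2.2.2.1) hxy hxw hyw
        ⟨hx.1, hx.2, Ne.symm hj.2.2.2.2.1⟩ ⟨hy.1, hy.2, Ne.symm hj.2.2.2.2.2.1⟩
        ⟨hw.1, hw.2, Ne.symm hj.2.2.2.2.2.2⟩ v]
  refine L.natural_bound hr hex h34 hz hzfix fun e he3 he4 => ?_
  have hgen : ∀ j, j ≠ p 0 → j ≠ p 1 → j ≠ p 3 → j ≠ p 4 →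
      z + (L.ξ (p 3) (p 4) j : Module.End k V) z +
        (L.ξ (p 3) (p 4) j : Module.End k V) ((L.ξ (p 3) (p 4) j : Module.End k V) z) = 0 := by
    intro j hj0 hj1 hj3 hj4
    rw [hk j hj0 hj1 hj3 hj4, map_sub, map_sub, L.cube_apply h34 (Ne.symm hj3) (Ne.symm hj4)]
    abel
  by_cases he : e = p 0 ∨ e = p 1
  · obtain ⟨w, hw⟩ := exists_ne_of_card ({p 0, p 1, p 2, p 3, p 4, e} : Finset (Fin r))
      (lt_of_le_of_lt Finset.card_le_six (by omega))
    simp only [Finset.mem_insert, Finset.mem_singleton, not_or] at hw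
    have he2 : p 2 ≠ e := by
      rcases he with rfl | rfl
      · exact h02.symm
      · exact h12.symm
    set Y := L.ξ (p 2) e w
    have hYl := L.lift (p 2) e w he2 (Ne.symm hw.2.2.1) (Ne.symm hw.2.2.2.2.2)
    have hYz : (Y : Module.End k V) z = z := hzfix _ _ _ (by simp [h32.symm, h42.symm])
      (by simp [he3, he4]) (by simp [hw.2.2.2.1, hw.2.2.2.2.1]) he2 (Ne.symm hw.2.2.1)
      (Ne.symm hw.2.2.2.2.2)
    have hc := L.conj (p 3) (p 4) (p 2) h34 h32 h42 _ Y hYl
    rw [c3_apply_ne he2 (Ne.symm hw.2.2.2.2.2) h32 (Ne.symm he3) (Ne.symm hw.2.2.2.1),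
      c3_apply_ne he2 (Ne.symm hw.2.2.2.2.2) h42 (Ne.symm he4) (Ne.symm hw.2.2.2.2.1),
      c3_apply_a he2 (Ne.symm hw.2.2.1) (Ne.symm hw.2.2.2.2.2)] at hc
    have hYi : ((Y⁻¹ : (Module.End k V)ˣ) : Module.End k V) z = z := by
      conv_lhs => rw [← hYz, inv_apply_units]
    have hg := congrArg (fun x => (Y : Module.End k V) x)
      (hgen (p 2) h02.symm h12.symm h32.symm h42.symm)
    simp only [map_add, map_zero, hYz] at hg
    rw [← hc, mul_apply_units, mul_apply_units, hYi, mul_apply_units, mul_apply_units,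
      inv_apply_units]
    exact hg
  · rw [not_or] at he
    exact hgen e he.1 he.2 he3 he4

end CycLift

end Cfsg.Agent.AltDeg
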