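import Mathlib
import Cfsg.Agent.EqLemmas

set_option autoImplicit false

/-!
# Eigenvector counting and the dimension of Clifford modules in arbitrary characteristic
-/

namespace Cfsg.Agent.AltDeg

open Module Polynomial

variable {k V : Type*} [Field k] [AddCommGroup V] [Module k V]

/-- Common eigenvectors with pairwise distinct eigenvalue functions are independent. -/
theorem indep_of_eigen {ι S : Type*} (v : ι → V) (A : S → Module.End k V) (μ : ι → S → k)
    (hv : ∀ i s, A s (v i) = μ i s • v i) (hne : ∀ i, v i ≠ 0) (hμ : Function.Injective μ) :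
    LinearIndependent k v := by
  classical
  rw [linearIndependent_iff']
  intro t
  induction t using Finset.induction_on with
  | empty => simp
  | insert a t hat ih =>
    intro g hg
    have hzero : ∀ i ∈ t, g i = 0 := by
      intro i hi
      have hia : i ≠ a := fun h => hat (h ▸ hi)
      obtain ⟨s, hs⟩ := Function.ne_iff.mp (fun h => hia (hμ h) : μ i ≠ μ a)
      have h1 : ∑ j ∈ insert a t, (g j * (μ j s - μ a s)) • v j = 0 := by
        have h2 := congrArg (fun w => A s w - μ a s • w) hg
        simp only [map_sum, Finset.smul_sum, map_zero, smul_zero, sub_zero,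
          ← Finset.sum_sub_distrib] at h2
        rw [← h2]
        refine Finset.sum_congr rfl fun j _ => ?_
        rw [map_smul, hv, smul_smul, smul_smul, ← sub_smul]
        congr 1
        ring
      rw [Finset.sum_insert hat, sub_self, mul_zero, zero_smul, zero_add] at h1
      exact (mul_eq_zero.mp (ih _ h1 i hi)).resolve_right (sub_ne_zero.mpr hs)
    intro i hi
    rcases Finset.mem_insert.mp hi with rfl | hi
    · rw [Finset.sum_insert hat,
        Finset.sum_eq_zero (fun j hj => by rw [hzero j hj, zero_smul]), add_zero] at hg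
      exact (smul_eq_zero.mp hg).resolve_right (hne i)
    · exact hzero i hi

/-- The number of distinct joint eigenvalue functions is at most the dimension. -/
theorem card_le_of_eigen [FiniteDimensional k V] {ι S : Type*} [Fintype ι] (v : ι → V)
    (A : S → Module.End k V) (μ : ι → S → k) (hv : ∀ i s, A s (v i) = μ i s • v i)
    (hne : ∀ i, v i ≠ 0) (hμ : Function.Injective μ) : Fintype.card ι ≤ finrank k V :=
  (indep_of_eigen v A μ hv hne hμ).fintype_card_le_finrank

/-- Commuting operators on a non-zero invariant subspace have a common eigenvector there. -/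
theorem exists_joint_eigen [IsAlgClosed k] [FiniteDimensional k V] {S : Type*} [Finite S]
    (A : S → Module.End k V) (hcom : ∀ s t, Commute (A s) (A t)) (W : Submodule k V) (hW : W ≠ ⊥)
    (hinv : ∀ s, ∀ w ∈ W, A s w ∈ W) :
    ∃ v ∈ W, v ≠ 0 ∧ ∃ μ : S → k, ∀ s, A s v = μ s • v := by
  classical
  haveI := Fintype.ofFinite S
  suffices key : ∀ t : Finset S, ∃ W' ≤ W, W' ≠ ⊥ ∧ (∀ s, ∀ w ∈ W', A s w ∈ W') ∧
      ∀ s ∈ t, ∃ c : k, ∀ w ∈ W', A s w = c • w by
    obtain ⟨W', hle, hne, -, hsc⟩ := key Finset.univ
    obtain ⟨v, hv, hv0⟩ := Submodule.exists_mem_ne_zero_of_ne_bot hne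
    choose μ hμ using fun s => hsc s (Finset.mem_univ s)
    exact ⟨v, hle hv, hv0, μ, fun s => hμ s v hv⟩
  intro t
  induction t using Finset.induction_on with
  | empty => exact ⟨W, le_rfl, hW, hinv, by simp⟩
  | insert a t hat ih =>
    obtain ⟨W', hle, hne, hinv', hsc⟩ := ih
    haveI : Nontrivial W' := Submodule.nontrivial_iff_ne_bot.mpr hne
    obtain ⟨c, hc⟩ := Module.End.exists_eigenvalue ((A a).restrict (hinv' a))
    obtain ⟨v, hv⟩ := hc.exists_hasEigenvector
    refine ⟨W' ⊓ (A a).eigenspace c, inf_le_left.trans hle, ?_, ?_, ?_⟩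
    · refine Submodule.ne_bot_iff _ |>.mpr ⟨(v : V), ⟨v.2, ?_⟩, ?_⟩
      · rw [SetLike.mem_coe, Module.End.mem_eigenspace_iff]
        have := congrArg (fun x : W' => (x : V)) hv.apply_eq_smul
        simpa using this
      · exact fun h => hv.2 (Subtype.ext h)
    · rintro s w ⟨hw, hw'⟩
      refine ⟨hinv' s w hw, ?_⟩
      rw [SetLike.mem_coe, Module.End.mem_eigenspace_iff] at hw' ⊢
      rw [← Module.End.mul_apply, (hcom a s).eq, Module.End.mul_apply, hw', map_smul]
    · intro s hs
      rcases Finset.mem_insert.mp hs with rfl | hs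
      · exact ⟨c, fun w hw => Module.End.mem_eigenspace_iff.mp hw.2⟩
      · obtain ⟨d, hd⟩ := hsc s hs
        exact ⟨d, fun w hw => hd w hw.1⟩

variable {U : Type*} [AddCommGroup U] [Module k U]

/-- The anticommutator form radical of `φ` on `W`. -/
def cliffRad (φ : U →ₗ[k] Module.End k V) (W : Submodule k U) : Submodule k U where
  carrier := {w | w ∈ W ∧ ∀ u ∈ W, φ w * φ u + φ u * φ w = 0}
  zero_mem' := ⟨W.zero_mem, by simp⟩
  add_mem' := fun {a b} ha hb => ⟨W.add_mem ha.1 hb.1, fun u hu => by
    rw [map_add, add_mul, mul_add]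
    rw [add_add_add_comm, ha.2 u hu, hb.2 u hu, add_zero]⟩
  smul_mem' := fun c a ha => ⟨W.smul_mem c ha.1, fun u hu => by
    rw [map_smul, smul_mul_assoc, mul_smul_comm, ← smul_add, ha.2 u hu, smul_zero]⟩

lemma anticomm_scalar (φ : U →ₗ[k] Module.End k V)
    (hsq : ∀ w, ∃ a : k, φ w * φ w = a • 1) (x y : U) :
    ∃ b : k, φ x * φ y + φ y * φ x = b • 1 := by
  obtain ⟨a, ha⟩ := hsq (x + y)
  obtain ⟨b, hb⟩ := hsq x
  obtain ⟨c, hc⟩ := hsq y
  refine ⟨a - b - c, ?_⟩
  rw [map_add, add_mul, mul_add, mul_add] at ha
  rw [sub_smul, sub_smul, ← ha, ← hb, ← hc]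
  abel

/-- A module for a family of operators with scalar squares whose anticommutator form has rank at
least `2 s` has dimension at least `2 ^ s`; any characteristic. -/
theorem clifford_bound [IsAlgClosed k] [FiniteDimensional k V] [FiniteDimensional k U]
    (φ : U →ₗ[k] Module.End k V) (hsq : ∀ w, ∃ a : k, φ w * φ w = a • 1) :
    ∀ (s : ℕ) (W : Submodule k U) (P : Submodule k V),
      (∀ w ∈ W, ∀ v ∈ P, φ w v ∈ P) → P ≠ ⊥ →
      finrank k (cliffRad φ W) + 2 * s ≤ finrank k W → 2 ^ s ≤ finrank k P := by
  intro s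
  induction s with
  | zero =>
    intro W P _ hP _
    rw [pow_zero, Nat.one_le_iff_ne_zero]
    exact fun h => hP (Submodule.finrank_eq_zero.mp h)
  | succ s ih =>
    intro W P hPi hP hrk
    set R := cliffRad φ W with hR
    have hRW : R ≤ W := fun x hx => hx.1
    obtain ⟨w, hwW, hwR⟩ : ∃ w ∈ W, w ∉ R := by
      by_contra hno
      push Not at hno
      have := Submodule.finrank_mono (show W ≤ R from hno)
      omega
    obtain ⟨e, heW, heR, he⟩ : ∃ e ∈ W, e ∉ R ∧ φ e * φ e = 0 := by
      obtain ⟨a, ha⟩ := hsq w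
      by_cases ha0 : a = 0
      · exact ⟨w, hwW, hwR, by rw [ha, ha0, zero_smul]⟩
      obtain ⟨u, huW, hu⟩ : ∃ u ∈ W, u ∉ R ⊔ Submodule.span k {w} := by
        by_contra hno
        push Not at hno
        have h1 := Submodule.finrank_mono (show W ≤ R ⊔ Submodule.span k {w} from hno)
        have h2 := Submodule.finrank_add_le_finrank_add_finrank R (Submodule.span k {w})
        have hw0 : w ≠ 0 := fun h => hwR (h ▸ R.zero_mem)
        rw [finrank_span_singleton hw0] at h2
        omega
      obtain ⟨b, hb⟩ := anticomm_scalar φ hsq w u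
      obtain ⟨c, hc⟩ := hsq u
      obtain ⟨t, ht⟩ := IsAlgClosed.exists_root (C a * X ^ 2 + C b * X + C c)
        (by rw [degree_quadratic ha0]; decide)
      simp only [IsRoot.def, eval_add, eval_mul, eval_C, eval_pow, eval_X] at ht
      refine ⟨t • w + u, W.add_mem (W.smul_mem t hwW) huW, ?_, ?_⟩
      · intro h
        apply hu
        have h' : u = (t • w + u) + (-t) • w := by rw [neg_smul]; abel
        rw [h']
        exact Submodule.add_mem_sup h
          (Submodule.smul_mem _ _ (Submodule.mem_span_singleton_self w))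
      · have : φ (t • w + u) * φ (t • w + u) = (t * t) • (φ w * φ w) +
            t • (φ w * φ u + φ u * φ w) + φ u * φ u := by
          simp only [map_add, map_smul, add_mul, mul_add, smul_mul_assoc, mul_smul_comm, smul_smul,
            smul_add]
          abel
        rw [this, ha, hb, hc, smul_smul, smul_smul, ← add_smul, ← add_smul,
          show t * t * a + t * b + c = a * t ^ 2 + b * t + c by ring, ht, zero_smul]
    obtain ⟨f₀, hf₀W, hf₀⟩ : ∃ u ∈ W, φ e * φ u + φ u * φ e ≠ 0 := by
      by_contra hno
      push Not at hno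
      exact heR ⟨heW, hno⟩
    obtain ⟨β, hβ⟩ := anticomm_scalar φ hsq e f₀
    have hβ0 : β ≠ 0 := fun h => hf₀ (by rw [hβ, h, zero_smul])
    obtain ⟨γ, hγ⟩ := hsq (β⁻¹ • f₀)
    set f := β⁻¹ • f₀ - γ • e with hfdef
    have hfW : f ∈ W := W.sub_mem (W.smul_mem _ hf₀W) (W.smul_mem _ heW)
    have hef1 : φ e * φ (β⁻¹ • f₀) + φ (β⁻¹ • f₀) * φ e = 1 := by
      rw [map_smul, mul_smul_comm, smul_mul_assoc, ← smul_add, hβ, smul_smul,
        inv_mul_cancel₀ hβ0, one_smul]
    have hef : φ e * φ f + φ f * φ e = 1 := by
      rw [hfdef, map_sub, map_smul φ γ, mul_sub, sub_mul, mul_smul_comm, smul_mul_assoc, he,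
        smul_zero, sub_zero, sub_zero, hef1]
    have hff : φ f * φ f = 0 := by
      rw [hfdef, map_sub, map_smul φ γ, mul_sub, sub_mul, sub_mul]
      simp only [mul_smul_comm, smul_mul_assoc, he, smul_zero, sub_zero, hγ]
      rw [sub_sub, ← smul_add, hef1, sub_self]
    set W' : Submodule k U :=
      { carrier := {u | u ∈ W ∧ φ e * φ u + φ u * φ e = 0 ∧ φ f * φ u + φ u * φ f = 0}
        zero_mem' := ⟨W.zero_mem, by simp, by simp⟩
        add_mem' := fun {x y} hx hy => ⟨W.add_mem hx.1 hy.1,
          by rw [map_add, mul_add, add_mul, add_add_add_comm, hx.2.1, hy.2.1, add_zero],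
          by rw [map_add, mul_add, add_mul, add_add_add_comm, hx.2.2, hy.2.2, add_zero]⟩
        smul_mem' := fun c x hx => ⟨W.smul_mem c hx.1,
          by rw [map_smul, smul_mul_assoc, mul_smul_comm, ← smul_add, hx.2.1, smul_zero],
          by rw [map_smul, smul_mul_assoc, mul_smul_comm, ← smul_add, hx.2.2, smul_zero]⟩ }
      with hW'def
    have hdec : ∀ u ∈ W, ∃ u' ∈ W', ∃ a b : k, u = u' + (a • e + b • f) := by
      intro u hu
      obtain ⟨x, hx⟩ := anticomm_scalar φ hsq e u
      obtain ⟨y, hy⟩ := anticomm_scalar φ hsq f u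
      refine ⟨u - (y • e + x • f), ⟨W.sub_mem hu (W.add_mem (W.smul_mem _ heW) (W.smul_mem _ hfW)),
        ?_, ?_⟩, y, x, by abel⟩
      · calc φ e * φ (u - (y • e + x • f)) + φ (u - (y • e + x • f)) * φ e
            = (φ e * φ u + φ u * φ e) - (y • (φ e * φ e) + y • (φ e * φ e)) -
                x • (φ e * φ f + φ f * φ e) := by
              simp only [map_sub, map_add, map_smul, mul_sub, sub_mul, mul_add, add_mul,
                mul_smul_comm, smul_mul_assoc, smul_add]
              abel
          _ = 0 := by rw [hx, he, hef, smul_zero, add_zero, sub_zero, sub_self]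
      · calc φ f * φ (u - (y • e + x • f)) + φ (u - (y • e + x • f)) * φ f
            = (φ f * φ u + φ u * φ f) - y • (φ e * φ f + φ f * φ e) -
                (x • (φ f * φ f) + x • (φ f * φ f)) := by
              simp only [map_sub, map_add, map_smul, mul_sub, sub_mul, mul_add, add_mul,
                mul_smul_comm, smul_mul_assoc, smul_add]
              abel
          _ = 0 := by rw [hy, hff, hef, smul_zero, add_zero, sub_zero, sub_self]
    have hdimW : finrank k W ≤ finrank k W' + 2 := by
      have hle : W ≤ W' ⊔ (Submodule.span k {e} ⊔ Submodule.span k {f}) := by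
        intro u hu
        obtain ⟨u', hu', a, b, rfl⟩ := hdec u hu
        exact Submodule.add_mem_sup hu' (Submodule.add_mem_sup
          (Submodule.smul_mem _ _ (Submodule.mem_span_singleton_self e))
          (Submodule.smul_mem _ _ (Submodule.mem_span_singleton_self f)))
      have h1 := Submodule.finrank_mono hle
      have h2 := Submodule.finrank_add_le_finrank_add_finrank W'
        (Submodule.span k {e} ⊔ Submodule.span k {f})
      have h3 := Submodule.finrank_add_le_finrank_add_finrank (Submodule.span k {e})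
        (Submodule.span k {f})
      have h4 : finrank k (Submodule.span k {e}) ≤ 1 :=
        (finrank_span_le_card _).trans (by simp)
      have h5 : finrank k (Submodule.span k {f}) ≤ 1 :=
        (finrank_span_le_card _).trans (by simp)
      omega
    have hrad : cliffRad φ W' ≤ R := by
      rintro w ⟨hw, hw'⟩
      refine ⟨hw.1, fun u hu => ?_⟩
      obtain ⟨u', hu', a, b, rfl⟩ := hdec u hu
      calc φ w * φ (u' + (a • e + b • f)) + φ (u' + (a • e + b • f)) * φ w
          = (φ w * φ u' + φ u' * φ w) + a • (φ e * φ w + φ w * φ e) +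
              b • (φ f * φ w + φ w * φ f) := by
            simp only [map_add, map_smul, mul_add, add_mul, mul_smul_comm, smul_mul_assoc,
              smul_add]
            abel
        _ = 0 := by rw [hw' u' hu', hw.2.1, hw.2.2, smul_zero, smul_zero, add_zero, add_zero]
    have hradd := Submodule.finrank_mono hrad
    set P' : Submodule k V := P ⊓ LinearMap.ker (φ e) with hP'def
    have hP' : P' ≠ ⊥ := by
      obtain ⟨v, hv, hv0⟩ := Submodule.exists_mem_ne_zero_of_ne_bot hP
      rw [Submodule.ne_bot_iff]
      by_cases hev : φ e v = 0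
      · exact ⟨v, ⟨hv, hev⟩, hv0⟩
      · exact ⟨φ e v, ⟨hPi e heW v hv, by
          rw [SetLike.mem_coe, LinearMap.mem_ker, ← Module.End.mul_apply, he,
            LinearMap.zero_apply]⟩, hev⟩
    have hPi' : ∀ w ∈ W', ∀ v ∈ P', φ w v ∈ P' := by
      rintro w hw v ⟨hv, hev⟩
      refine ⟨hPi w hw.1 v hv, ?_⟩
      rw [SetLike.mem_coe, LinearMap.mem_ker] at hev ⊢
      have := LinearMap.congr_fun hw.2.1 v
      rw [LinearMap.add_apply, Module.End.mul_apply, Module.End.mul_apply, hev, map_zero,
        add_zero, LinearMap.zero_apply] at this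
      exact this
    have h2P : 2 * finrank k P' ≤ finrank k P := by
      have hdisj : P' ⊓ P'.map (φ f) = ⊥ := by
        rw [Submodule.eq_bot_iff]
        rintro x ⟨⟨-, hx⟩, y, ⟨-, hy⟩, rfl⟩
        rw [SetLike.mem_coe, LinearMap.mem_ker] at hx hy
        have := LinearMap.congr_fun hef y
        rw [LinearMap.add_apply, Module.End.mul_apply, Module.End.mul_apply, hx, hy, map_zero,
          add_zero, Module.End.one_apply] at this
        rw [← this, map_zero]
      have hinj : finrank k (P'.map (φ f)) = finrank k P' := by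
        have hI : Function.Injective ((φ f).domRestrict P') := by
          rw [← LinearMap.ker_eq_bot, Submodule.eq_bot_iff]
          rintro ⟨y, hy⟩ hy'
          rw [LinearMap.mem_ker, LinearMap.domRestrict_apply] at hy'
          have he' : φ e y = 0 := hy.2
          have := LinearMap.congr_fun hef y
          rw [LinearMap.add_apply, Module.End.mul_apply, Module.End.mul_apply, hy', he', map_zero,
            map_zero, add_zero, Module.End.one_apply] at this
          exact Subtype.ext this.symm
        rw [← LinearMap.range_domRestrict, LinearMap.finrank_range_of_inj hI]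
      have hle : P' ⊔ P'.map (φ f) ≤ P := by
        refine sup_le inf_le_left ?_
        rintro x ⟨y, hy, rfl⟩
        exact hPi f hfW y hy.1
      have := Submodule.finrank_sup_add_finrank_inf_eq P' (P'.map (φ f))
      rw [hdisj, finrank_bot, hinj] at this
      have := Submodule.finrank_mono hle
      omega
    have hrec := ih W' P' hPi' hP' (by omega)
    calc 2 ^ (s + 1) = 2 * 2 ^ s := by ring
      _ ≤ 2 * finrank k P' := Nat.mul_le_mul_left 2 hrec
      _ ≤ finrank k P := h2P

end Cfsg.Agent.AltDeg
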