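import Cfsg.Agent.Lib.AltDeg.Involution
import Cfsg.Agent.Lib.AltDeg.Clifford

set_option autoImplicit false

/-!
# Commuting four-groups: canonical lifts of the double transpositions
-/

namespace Cfsg.Agent.AltDeg

open Module

universe u v

variable {r : ℕ} {k : Type u} [Field k] {V : Type v} [AddCommGroup V] [Module k V]

/-- The `j`-th point of the `i`-th pair. -/
def pp (i : Fin (r / 2)) (j : Fin 2) : Fin r := ⟨2 * i.1 + j.1, by omega⟩

lemma pp_inj {i i' : Fin (r / 2)} {j j' : Fin 2} (h : pp i j = pp i' j') : i = i' ∧ j = j' := by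
  simp only [pp, Fin.ext_iff] at h
  constructor <;> ext <;> omega

lemma pp_ne {i i' : Fin (r / 2)} {j j' : Fin 2} (h : i ≠ i' ∨ j ≠ j') : pp i j ≠ pp i' j' :=
  fun he => h.elim (fun h => h (pp_inj he).1) (fun h => h (pp_inj he).2)

/-- The double transposition of two pairs. -/
def gp (i l : Fin (r / 2)) : Alt r := d2 (pp i 0) (pp i 1) (pp l 0) (pp l 1)

lemma quad_pp {i l : Fin (r / 2)} (h : i ≠ l) : Quad (pp i 0) (pp i 1) (pp l 0) (pp l 1) :=
  ⟨pp_ne (Or.inr (by decide)), pp_ne (Or.inl h), pp_ne (Or.inl h), pp_ne (Or.inl h),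
    pp_ne (Or.inl h), pp_ne (Or.inr (by decide))⟩

lemma gp_symm {i l : Fin (r / 2)} (h : i ≠ l) : gp l i = gp i l := (quad_pp h).d2_cdab

lemma gp_coe {i l : Fin (r / 2)} (h : i ≠ l) :
    (gp i l : Equiv.Perm (Fin r)) =
      Equiv.swap (pp i 0) (pp i 1) * Equiv.swap (pp l 0) (pp l 1) :=
  d2_coe (quad_pp h).hab (quad_pp h).hcd

lemma pair_swaps_commute {i l : Fin (r / 2)} (h : i ≠ l) :
    Commute (Equiv.swap (pp i 0) (pp i 1)) (Equiv.swap (pp l 0) (pp l 1)) := by
  refine Equiv.Perm.Disjoint.commute ?_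
  rw [Equiv.Perm.disjoint_iff_disjoint_support,
    Equiv.Perm.support_swap (quad_pp h).hab, Equiv.Perm.support_swap (quad_pp h).hcd]
  simp [pp_ne (Or.inl h), pp_ne (Or.inl (Ne.symm h))]

lemma gp_mul {i l n : Fin (r / 2)} (hil : i ≠ l) (hln : l ≠ n) (hin : i ≠ n) :
    gp i l * gp l n = gp i n := by
  apply Subtype.ext
  rw [Subgroup.coe_mul, gp_coe hil, gp_coe hln, gp_coe hin, mul_assoc, ← mul_assoc (Equiv.swap (pp l 0) (pp l 1)),
    Equiv.swap_mul_self, one_mul]

lemma gp_commute {i l m n : Fin (r / 2)} (hil : i ≠ l) (hmn : m ≠ n) :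
    Commute (gp i l) (gp m n) := by
  have hc : ∀ x y : Fin (r / 2),
      Commute (Equiv.swap (pp x 0) (pp x 1)) (Equiv.swap (pp y 0) (pp y 1)) := fun x y => by
    by_cases hxy : x = y
    · subst hxy; exact Commute.refl _
    · exact pair_swaps_commute hxy
  apply Subtype.ext
  show (gp i l : Equiv.Perm (Fin r)) * (gp m n : Equiv.Perm (Fin r)) = _
  rw [Subgroup.coe_mul, gp_coe hil, gp_coe hmn]
  exact (((hc i m).mul_right (hc i n)).mul_left ((hc l m).mul_right (hc l n))).eq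

lemma gp_conj {i l i' l' : Fin (r / 2)} (h : i ≠ l) (τ : Alt r)
    (hi : Equiv.swap ((τ : Equiv.Perm (Fin r)) (pp i 0)) ((τ : Equiv.Perm (Fin r)) (pp i 1)) =
      Equiv.swap (pp i' 0) (pp i' 1))
    (hl : Equiv.swap ((τ : Equiv.Perm (Fin r)) (pp l 0)) ((τ : Equiv.Perm (Fin r)) (pp l 1)) =
      Equiv.swap (pp l' 0) (pp l' 1)) (h' : i' ≠ l') :
    τ * gp i l * τ⁻¹ = gp i' l' := by
  rw [gp, d2_conj τ (quad_pp h).hab (quad_pp h).hcd]
  apply Subtype.ext
  rw [d2_coe (fun hh => (quad_pp h).hab ((τ : Equiv.Perm (Fin r)).injective hh))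
      (fun hh => (quad_pp h).hcd ((τ : Equiv.Perm (Fin r)).injective hh)),
    gp_coe h', hi, hl]

namespace PRep

variable (ρ : PRep r k V)

/-- The four-groups lift to abelian groups. -/
def Comm4 : Prop :=
  ∀ a b c d, Quad a b c d → ∀ X Y, ρ.IsLift (d2 a b c d) X → ρ.IsLift (d2 a c b d) Y →
    Commute X Y

variable {ρ}

lemma Comm4.mem_centLift (hC : ρ.Comm4) (hr : 9 ≤ r) {a b c d : Fin r} (q : Quad a b c d)
    {X : (Module.End k V)ˣ} (hX : ρ.IsLift (d2 a b c d) X) :
    ∀ h, Commute (d2 a b c d) h → h ∈ ρ.centLift (d2 a b c d) X := by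
  set u := d2 a b c d with hu
  -- the four-group on `a b c d`
  have hacbd : d2 a c b d ∈ ρ.centLift u X :=
    ρ.mem_centLift_of q.commute_acbd (ρ.lift_T _) (hC a b c d q X _ hX (ρ.lift_T _))
  have hadbc : d2 a d b c ∈ ρ.centLift u X := by
    have h1 := hC a b d c q.perm_abdc X (ρ.T (d2 a d b c)) (q.d2_abdc ▸ hX) (ρ.lift_T _)
    exact ρ.mem_centLift_of (by rw [hu, ← q.d2_abdc]; exact q.perm_abdc.commute_acbd) (ρ.lift_T _) h1
  have hself : u ∈ ρ.centLift u X := ρ.mem_centLift_of (Commute.refl u) hX (Commute.refl X)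
  have hoff : suppIn ({a, b, c, d} : Finset (Fin r))ᶜ ≤ ρ.centLift u X := by
    refine ρ.suppIn_le_centLift ?_ hX fun h hh => ?_
    · rw [Finset.card_compl, Fintype.card_fin]
      have h4 : ({a, b, c, d} : Finset (Fin r)).card ≤ 4 := Finset.card_le_four
      omega
    · show u * h = h * u
      have h1 := d2_conj h q.hab q.hcd
      rw [hh a (by simp), hh b (by simp), hh c (by simp), hh d (by simp),
        mul_inv_eq_iff_eq_mul, ← hu] at h1
      exact h1.symm
  -- a four-cycle squaring to `u` links the two kinds of four-groups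
  have hedge : ∀ e f : Fin r, e ≠ f → e ∉ ({a, b, c, d} : Finset (Fin r)) →
      f ∉ ({a, b, c, d} : Finset (Fin r)) → d2 c d e f ∈ ρ.centLift u X := by
    intro e f hef he hf
    simp only [Finset.mem_insert, Finset.mem_singleton, not_or] at he hf
    have qe : Quad c d e f := ⟨q.hcd, Ne.symm he.2.2.1, Ne.symm hf.2.2.1, Ne.symm he.2.2.2,
      Ne.symm hf.2.2.2, hef⟩
    have p := q.perm_acbd
    set w := d2 a c b d * d2 c d e f with hw
    have hw2 : w * w = u := by
      apply alt_ext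
      intro x
      rw [hw, alt_mul_apply, alt_mul_apply, alt_mul_apply]
      by_cases ha : x = a
      · subst ha
        rw [qe.apply_ne q.hac q.had (Ne.symm he.1) (Ne.symm hf.1), p.apply_a, qe.apply_a,
          p.apply_d, hu, q.apply_a]
      by_cases hb : x = b
      · subst hb
        rw [qe.apply_ne q.hbc q.hbd (Ne.symm he.2.1) (Ne.symm hf.2.1), p.apply_c, qe.apply_b,
          p.apply_b, hu, q.apply_b]
      by_cases hc : x = c
      · subst hc
        rw [qe.apply_a, p.apply_d, qe.apply_ne q.hbc q.hbd (Ne.symm he.2.1) (Ne.symm hf.2.1),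
          p.apply_c, hu, q.apply_c]
      by_cases hd : x = d
      · subst hd
        rw [qe.apply_b, p.apply_b, qe.apply_ne q.hac q.had (Ne.symm he.1) (Ne.symm hf.1),
          p.apply_a, hu, q.apply_d]
      by_cases hxe : x = e
      · subst hxe
        rw [qe.apply_c, p.apply_ne hf.1 hf.2.2.1 hf.2.1 hf.2.2.2, qe.apply_d,
          p.apply_ne ha hc hb hd, hu, q.apply_ne ha hb hc hd]
      by_cases hxf : x = f
      · subst hxf
        rw [qe.apply_d, p.apply_ne he.1 he.2.2.1 he.2.1 he.2.2.2, qe.apply_c,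
          p.apply_ne ha hc hb hd, hu, q.apply_ne ha hb hc hd]
      rw [qe.apply_ne hc hd hxe hxf, p.apply_ne ha hc hb hd, qe.apply_ne hc hd hxe hxf,
        p.apply_ne ha hc hb hd, hu, q.apply_ne ha hb hc hd]
    have hwm : w ∈ ρ.centLift u X := by
      have hl := ρ.lift_mul (ρ.lift_T w) (ρ.lift_T w)
      rw [hw2] at hl
      obtain ⟨c', hc'⟩ := ρ.lift_unique hl hX
      refine ρ.mem_centLift_of ?_ (ρ.lift_T w) ?_
      · rw [← hw2]; exact (Commute.refl w).mul_left (Commute.refl w)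
      · rw [hc']
        exact (commute_sc c' _).symm.mul_left ((Commute.refl _).mul_left (Commute.refl _))
    have h2 := mul_mem (inv_mem hacbd) hwm
    rwa [hw, inv_mul_cancel_left] at h2
  intro h hh
  have hset : (h : Equiv.Perm (Fin r)) a = a ∨ (h : Equiv.Perm (Fin r)) a = b ∨
      (h : Equiv.Perm (Fin r)) a = c ∨ (h : Equiv.Perm (Fin r)) a = d := by
    by_contra hno
    simp only [not_or] at hno
    have := congrArg (fun x : Alt r => (x : Equiv.Perm (Fin r)) a) hh.eq
    simp only [alt_mul_apply] at this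
    rw [hu, q.apply_ne hno.1 hno.2.1 hno.2.2.1 hno.2.2.2, q.apply_a] at this
    exact q.hab ((h : Equiv.Perm (Fin r)).injective this)
  have hfix : ∀ g, Commute u g → (g : Equiv.Perm (Fin r)) a = a → g ∈ ρ.centLift u X := by
    intro g hg hga
    have hcg : ∀ x, (u : Equiv.Perm (Fin r)) ((g : Equiv.Perm (Fin r)) x) =
        (g : Equiv.Perm (Fin r)) ((u : Equiv.Perm (Fin r)) x) := fun x =>
      congrArg (fun z : Alt r => (z : Equiv.Perm (Fin r)) x) hg.eq
    have hgb : (g : Equiv.Perm (Fin r)) b = b := by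
      have := hcg a
      rw [hga, hu, q.apply_a] at this
      exact this.symm
    have hgc : (g : Equiv.Perm (Fin r)) c = c ∨ (g : Equiv.Perm (Fin r)) c = d := by
      by_contra hno
      simp only [not_or] at hno
      have := hcg c
      have na : (g : Equiv.Perm (Fin r)) c ≠ a := fun hh' =>
        q.hac.symm ((g : Equiv.Perm (Fin r)).injective (hh'.trans hga.symm))
      have nb : (g : Equiv.Perm (Fin r)) c ≠ b := fun hh' =>
        q.hbc.symm ((g : Equiv.Perm (Fin r)).injective (hh'.trans hgb.symm))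
      rw [hu, q.apply_ne na nb hno.1 hno.2, q.apply_c] at this
      exact q.hcd ((g : Equiv.Perm (Fin r)).injective this)
    have hmem : ∀ g' : Alt r, (g' : Equiv.Perm (Fin r)) a = a → (g' : Equiv.Perm (Fin r)) b = b →
        (g' : Equiv.Perm (Fin r)) c = c → (g' : Equiv.Perm (Fin r)) d = d →
        g' ∈ ρ.centLift u X := fun g' h1 h2 h3 h4 => hoff (fun x hx => by
      simp only [Finset.mem_compl, Finset.mem_insert, Finset.mem_singleton, not_not] at hx
      rcases hx with rfl | rfl | rfl | rfl <;> assumption)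
    have hgd : (g : Equiv.Perm (Fin r)) d =
        (u : Equiv.Perm (Fin r)) ((g : Equiv.Perm (Fin r)) c) := by
      rw [hcg c, hu, q.apply_c]
    rcases hgc with hgc | hgc
    · exact hmem g hga hgb hgc (by rw [hgd, hgc, hu, q.apply_c])
    · obtain ⟨e, he⟩ := exists_ne_of_card ({a, b, c, d} : Finset (Fin r))
        (lt_of_le_of_lt Finset.card_le_four (by omega))
      obtain ⟨f, hf⟩ := exists_ne_of_card ({a, b, c, d, e} : Finset (Fin r))
        (lt_of_le_of_lt Finset.card_le_five (by omega))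
      simp only [Finset.mem_insert, Finset.mem_singleton, not_or] at he hf
      have hcdm := hedge e f (Ne.symm hf.2.2.2.2) (by simp [he]) (by simp [hf])
      have qe : Quad c d e f := ⟨q.hcd, Ne.symm he.2.2.1, Ne.symm hf.2.2.1, Ne.symm he.2.2.2,
        Ne.symm hf.2.2.2.1, Ne.symm hf.2.2.2.2⟩
      have := hmem (d2 c d e f * g) (by
          rw [alt_mul_apply, hga, qe.apply_ne q.hac q.had (Ne.symm he.1) (Ne.symm hf.1)])
        (by rw [alt_mul_apply, hgb, qe.apply_ne q.hbc q.hbd (Ne.symm he.2.1) (Ne.symm hf.2.1)])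
        (by rw [alt_mul_apply, hgc, qe.apply_b])
        (by rw [alt_mul_apply, hgd, hgc, hu, q.apply_d, qe.apply_a])
      simpa using mul_mem (inv_mem hcdm) this
  rcases hset with h0 | h0 | h0 | h0
  · exact hfix h hh h0
  · have := hfix (u * h) ((Commute.refl u).mul_right hh)
      (by rw [alt_mul_apply, h0, hu, q.apply_b])
    simpa using mul_mem (inv_mem hself) this
  · have := hfix (d2 a c b d * h) (hacbd.1.mul_right hh)
      (by rw [alt_mul_apply, h0, q.perm_acbd.apply_b])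
    simpa using mul_mem (inv_mem hacbd) this
  · have := hfix (d2 a d b c * h) (hadbc.1.mul_right hh)
      (by rw [alt_mul_apply, h0, q.perm_adbc.apply_b])
    simpa using mul_mem (inv_mem hadbc) this

end PRep

/-- An equivariant commuting family of lifts of the double transpositions. -/
structure InvLift (ρ : PRep r k V) where
  U : Alt r → (Module.End k V)ˣ
  lift : ∀ a b c d, Quad a b c d → ρ.IsLift (d2 a b c d) (U (d2 a b c d))
  sq : ∀ a b c d, Quad a b c d → U (d2 a b c d) * U (d2 a b c d) = 1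
  conj : ∀ a b c d, Quad a b c d → ∀ τ Y, ρ.IsLift τ Y →
    Y * U (d2 a b c d) * Y⁻¹ = U (τ * d2 a b c d * τ⁻¹)
  comm : ∀ a b c d a' b' c' d', Quad a b c d → Quad a' b' c' d' →
    Commute (d2 a b c d) (d2 a' b' c' d') → Commute (U (d2 a b c d)) (U (d2 a' b' c' d'))
  prod : ∀ i l n, i ≠ l → l ≠ n → i ≠ n → U (gp i l) * U (gp l n) = U (gp i n)

/-- Existence of the canonical lifts. -/
theorem exists_invLift [IsAlgClosed k] [Nontrivial V] {ρ : PRep r k V} (hC : ρ.Comm4)
    (hr : 9 ≤ r) : Nonempty (InvLift ρ) := by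
  let o : Fin (r / 2) := ⟨0, by omega⟩
  let o1 : Fin (r / 2) := ⟨1, by omega⟩
  let o2 : Fin (r / 2) := ⟨2, by omega⟩
  have h01 : o ≠ o1 := by simp [o, o1]
  have h12 : o1 ≠ o2 := by simp [o1, o2]
  have h02 : o ≠ o2 := by simp [o, o2]
  set g := gp o o1 with hg
  obtain ⟨X, hX, hX2⟩ := ρ.exists_lift_sq (quad_pp h01).mul_self (1 : kˣ)
  rw [map_one] at hX2
  have hc : ∀ h, Commute g h → h ∈ ρ.centLift g X := hC.mem_centLift hr (quad_pp h01) hX
  have hex : ∀ {a b c d : Fin r}, Quad a b c d → ∃ σ, σ * g * σ⁻¹ = d2 a b c d := fun q => by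
    obtain ⟨σ, hσ, -⟩ := (quad_pp h01).exists_conj q (by omega)
    exact ⟨σ, hσ⟩
  set U₀ : Alt r → (Module.End k V)ˣ := fun x => ρ.classLift g X x with hU₀
  have hlift : ∀ {a b c d : Fin r}, Quad a b c d → ρ.IsLift (d2 a b c d) (U₀ (d2 a b c d)) :=
    fun q => PRep.isLift_classLift hX hc (hex q)
  have hsq : ∀ {a b c d : Fin r}, Quad a b c d →
      U₀ (d2 a b c d) * U₀ (d2 a b c d) = 1 := fun q => by
    obtain ⟨σ, hσ⟩ := hex q
    rw [hU₀]
    simp only
    rw [PRep.classLift_eq hc hσ (ρ.lift_T σ)]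
    calc ρ.T σ * X * (ρ.T σ)⁻¹ * (ρ.T σ * X * (ρ.T σ)⁻¹) = ρ.T σ * (X * X) * (ρ.T σ)⁻¹ := by group
      _ = 1 := by rw [hX2]; group
  have hconj : ∀ {a b c d : Fin r}, Quad a b c d → ∀ τ Y, ρ.IsLift τ Y →
      Y * U₀ (d2 a b c d) * Y⁻¹ = U₀ (τ * d2 a b c d * τ⁻¹) :=
    fun q τ Y hY => PRep.classLift_conj hc (hex q) hY
  have hcomm : ∀ {a b c d a' b' c' d' : Fin r}, Quad a b c d → Quad a' b' c' d' →
      Commute (d2 a b c d) (d2 a' b' c' d') →
      Commute (U₀ (d2 a b c d)) (U₀ (d2 a' b' c' d')) :=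
    fun q q' hcc => ((hC.mem_centLift hr q (hlift q)) _ hcc).2 _ (hlift q')
  -- the sign in the product relation
  have hl := ρ.lift_mul (hlift (quad_pp h01)) (hlift (quad_pp h12))
  have hmul : d2 (pp o 0) (pp o 1) (pp o1 0) (pp o1 1) * d2 (pp o1 0) (pp o1 1) (pp o2 0) (pp o2 1)
      = gp o o2 := gp_mul h01 h12 h02
  rw [hmul] at hl
  obtain ⟨s, hs⟩ := ρ.lift_unique (hlift (quad_pp h02)) hl
  have hs2 : s * s = 1 := by
    have h1 := hcomm (quad_pp h01) (quad_pp h12) (gp_commute h01 h12)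
    have h2 : (U₀ (gp o o1) * U₀ (gp o1 o2)) * (U₀ (gp o o1) * U₀ (gp o1 o2)) = 1 := by
      calc (U₀ (gp o o1) * U₀ (gp o1 o2)) * (U₀ (gp o o1) * U₀ (gp o1 o2))
          = U₀ (gp o o1) * (U₀ (gp o1 o2) * U₀ (gp o o1)) * U₀ (gp o1 o2) := by group
        _ = (U₀ (gp o o1) * U₀ (gp o o1)) * (U₀ (gp o1 o2) * U₀ (gp o1 o2)) := by
            rw [show U₀ (gp o1 o2) * U₀ (gp o o1) = U₀ (gp o o1) * U₀ (gp o1 o2) from h1.eq.symm]
            group
        _ = 1 := by rw [gp, gp, hsq (quad_pp h01), hsq (quad_pp h12), one_mul]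
    have hs' : U₀ (gp o o1) * U₀ (gp o1 o2) = sc s * U₀ (gp o o2) := hs
    rw [hs'] at h2
    have h3 : sc s * U₀ (gp o o2) * (sc s * U₀ (gp o o2)) = sc (s * s) := by
      calc sc s * U₀ (gp o o2) * (sc s * U₀ (gp o o2))
          = sc s * (U₀ (gp o o2) * sc s) * U₀ (gp o o2) := by group
        _ = sc (s * s) * (U₀ (gp o o2) * U₀ (gp o o2)) := by
            rw [← sc_comm, _root_.map_mul]; group
        _ = _ := by rw [gp, hsq (quad_pp h02), mul_one]
    rw [h3, ← map_one (sc (k := k) (V := V))] at h2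
    exact sc_inj h2
  refine ⟨{ U := fun x => sc s * U₀ x
            lift := fun a b c d q => ρ.lift_sc_mul (hlift q) s
            sq := fun a b c d q => ?_
            conj := fun a b c d q τ Y hY => ?_
            comm := fun a b c d a' b' c' d' q q' hcc => ?_
            prod := ?_ }⟩
  · calc sc s * U₀ (d2 a b c d) * (sc s * U₀ (d2 a b c d))
        = sc s * (U₀ (d2 a b c d) * sc s) * U₀ (d2 a b c d) := by group
      _ = sc (s * s) * (U₀ (d2 a b c d) * U₀ (d2 a b c d)) := by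
          rw [← sc_comm, _root_.map_mul]; group
      _ = 1 := by rw [hs2, map_one, hsq q, one_mul]
  · rw [← hconj q τ Y hY, ← mul_assoc, ← sc_comm]; group
  · exact ((commute_sc s (sc s : (Module.End k V)ˣ)).mul_left (commute_sc s _)).mul_right
      ((commute_sc s _).symm.mul_left (hcomm q q' hcc))
  · intro i l n hil hln hin
    -- a permutation carrying the first three pairs onto `i, l, n`
    obtain ⟨τ, hτ⟩ := exists_alt_map
      (fun x : Fin 3 × Fin 2 => pp (![o, o1, o2] x.1) x.2)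
      (fun x : Fin 3 × Fin 2 => pp (![i, l, n] x.1) x.2)
      (fun x y h => Prod.ext (injective_triple h01 h02 h12 (pp_inj h).1) (pp_inj h).2)
      (fun x y h => Prod.ext (injective_triple hil hin hln (pp_inj h).1) (pp_inj h).2)
      (by simp; omega)
    have sw : ∀ j : Fin 3, Equiv.swap ((τ : Equiv.Perm (Fin r)) (pp (![o, o1, o2] j) 0))
        ((τ : Equiv.Perm (Fin r)) (pp (![o, o1, o2] j) 1)) =
        Equiv.swap (pp (![i, l, n] j) 0) (pp (![i, l, n] j) 1) := fun j => by
      rw [hτ (j, 0), hτ (j, 1)]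
    set Y := ρ.T τ
    have tr : ∀ {x y x' y' : Fin (r / 2)}, x ≠ y → τ * gp x y * τ⁻¹ = gp x' y' →
        U₀ (gp x' y') = Y * U₀ (gp x y) * Y⁻¹ := fun {x y x' y'} hxy he => by
      rw [← he]; exact (hconj (quad_pp hxy) τ Y (ρ.lift_T τ)).symm
    have e1 : U₀ (gp i l) = Y * U₀ (gp o o1) * Y⁻¹ := tr h01 (gp_conj h01 τ (sw 0) (sw 1) hil)
    have e2 : U₀ (gp l n) = Y * U₀ (gp o1 o2) * Y⁻¹ := tr h12 (gp_conj h12 τ (sw 1) (sw 2) hln)
    have e3 : U₀ (gp i n) = Y * U₀ (gp o o2) * Y⁻¹ := tr h02 (gp_conj h02 τ (sw 0) (sw 2) hin)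
    have hs' : U₀ (gp o o1) * U₀ (gp o1 o2) = sc s * U₀ (gp o o2) := hs
    show sc s * U₀ (gp i l) * (sc s * U₀ (gp l n)) = sc s * U₀ (gp i n)
    calc sc s * U₀ (gp i l) * (sc s * U₀ (gp l n))
        = sc s * (U₀ (gp i l) * sc s) * U₀ (gp l n) := by group
      _ = sc (s * s) * (Y * (U₀ (gp o o1) * U₀ (gp o1 o2)) * Y⁻¹) := by
          rw [← sc_comm, e1, e2, _root_.map_mul]; group
      _ = sc s * U₀ (gp i n) := by
          rw [hs2, map_one, one_mul, hs', e3, ← mul_assoc, ← sc_comm]; group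

end Cfsg.Agent.AltDeg
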