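import Cfsg.Agent.Lib.AltDeg.Canon

set_option autoImplicit false

/-!
# Double transpositions and their lifts
-/

namespace Cfsg.Agent.AltDeg

open Module

universe u v

variable {r : ℕ} {k : Type u} [Field k] {V : Type v} [AddCommGroup V] [Module k V]

/-- Four distinct points. -/
structure Quad (a b c d : Fin r) : Prop where
  hab : a ≠ b
  hac : a ≠ c
  had : a ≠ d
  hbc : b ≠ c
  hbd : b ≠ d
  hcd : c ≠ d

namespace Quad

variable {a b c d : Fin r}

lemma perm_acbd (q : Quad a b c d) : Quad a c b d :=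
  ⟨q.hac, q.hab, q.had, q.hbc.symm, q.hcd, q.hbd⟩

lemma perm_adbc (q : Quad a b c d) : Quad a d b c :=
  ⟨q.had, q.hab, q.hac, q.hbd.symm, q.hcd.symm, q.hbc⟩

lemma perm_abdc (q : Quad a b c d) : Quad a b d c :=
  ⟨q.hab, q.had, q.hac, q.hbd, q.hbc, q.hcd.symm⟩

lemma perm_cdab (q : Quad a b c d) : Quad c d a b :=
  ⟨q.hcd, q.hac.symm, q.hbc.symm, q.had.symm, q.hbd.symm, q.hab⟩

lemma injective (q : Quad a b c d) : Function.Injective ![a, b, c, d] := by
  intro i j
  fin_cases i <;> fin_cases j <;> simp [q.hab, q.hab.symm, q.hac, q.hac.symm, q.had, q.had.symm,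
    q.hbc, q.hbc.symm, q.hbd, q.hbd.symm, q.hcd, q.hcd.symm]

lemma apply_a (q : Quad a b c d) : (d2 a b c d : Equiv.Perm (Fin r)) a = b :=
  d2_apply_a q.hab q.hcd q.hac q.had

lemma apply_b (q : Quad a b c d) : (d2 a b c d : Equiv.Perm (Fin r)) b = a :=
  d2_apply_b q.hab q.hcd q.hbc q.hbd

lemma apply_c (q : Quad a b c d) : (d2 a b c d : Equiv.Perm (Fin r)) c = d :=
  d2_apply_c q.hab q.hcd q.had q.hbd

lemma apply_d (q : Quad a b c d) : (d2 a b c d : Equiv.Perm (Fin r)) d = c :=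
  d2_apply_d q.hab q.hcd q.hac q.hbc

lemma apply_ne (q : Quad a b c d) {x : Fin r} (ha : x ≠ a) (hb : x ≠ b) (hc : x ≠ c)
    (hd : x ≠ d) : (d2 a b c d : Equiv.Perm (Fin r)) x = x :=
  d2_apply_ne q.hab q.hcd ha hb hc hd

lemma mul_self (q : Quad a b c d) : d2 a b c d * d2 a b c d = 1 :=
  d2_mul_self q.hab q.hcd q.hac q.had q.hbc q.hbd

lemma inv_eq (q : Quad a b c d) : (d2 a b c d)⁻¹ = d2 a b c d :=
  inv_eq_of_mul_eq_one_right q.mul_self

lemma d2_abdc (q : Quad a b c d) : d2 a b d c = d2 a b c d := by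
  apply Subtype.ext
  rw [d2_coe q.hab q.hcd.symm, d2_coe q.hab q.hcd, Equiv.swap_comm d c]

lemma d2_cdab (q : Quad a b c d) : d2 c d a b = d2 a b c d := by
  apply alt_ext
  intro x
  by_cases ha : x = a
  · subst ha; rw [q.apply_a, q.perm_cdab.apply_c]
  by_cases hb : x = b
  · subst hb; rw [q.apply_b, q.perm_cdab.apply_d]
  by_cases hc : x = c
  · subst hc; rw [q.apply_c, q.perm_cdab.apply_a]
  by_cases hd : x = d
  · subst hd; rw [q.apply_d, q.perm_cdab.apply_b]
  rw [q.apply_ne ha hb hc hd, q.perm_cdab.apply_ne hc hd ha hb]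

/-- The two double transpositions of the four points commute. -/
lemma commute_acbd (q : Quad a b c d) : Commute (d2 a b c d) (d2 a c b d) := by
  apply alt_ext
  intro x
  rw [alt_mul_apply, alt_mul_apply]
  have p := q.perm_acbd
  by_cases ha : x = a
  · subst ha; rw [p.apply_a, q.apply_c, q.apply_a, p.apply_c]
  by_cases hb : x = b
  · subst hb; rw [p.apply_c, q.apply_d, q.apply_b, p.apply_a]
  by_cases hc : x = c
  · subst hc; rw [p.apply_b, q.apply_a, q.apply_c, p.apply_d]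
  by_cases hd : x = d
  · subst hd; rw [p.apply_d, q.apply_b, q.apply_d, p.apply_b]
  rw [p.apply_ne ha hc hb hd, q.apply_ne ha hb hc hd, p.apply_ne ha hc hb hd]

/-- A double transposition is conjugate to every other one. -/
lemma exists_conj (q : Quad a b c d) {a' b' c' d' : Fin r} (q' : Quad a' b' c' d') (hr : 6 ≤ r) :
    ∃ σ : Alt r, σ * d2 a b c d * σ⁻¹ = d2 a' b' c' d' ∧
      σ * d2 a c b d * σ⁻¹ = d2 a' c' b' d' := by
  obtain ⟨σ, hσ⟩ := exists_alt_map ![a, b, c, d] ![a', b', c', d'] q.injective q'.injective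
    (by simpa using hr)
  have h0 : (σ : Equiv.Perm (Fin r)) a = a' := hσ 0
  have h1 : (σ : Equiv.Perm (Fin r)) b = b' := hσ 1
  have h2 : (σ : Equiv.Perm (Fin r)) c = c' := hσ 2
  have h3 : (σ : Equiv.Perm (Fin r)) d = d' := hσ 3
  exact ⟨σ, by rw [d2_conj σ q.hab q.hcd, h0, h1, h2, h3],
    by rw [d2_conj σ q.hac q.hbd, h0, h1, h2, h3]⟩

end Quad

/-- In a set with at least five points, double transpositions generate. -/
theorem suppIn_le_of_d2 {S : Finset (Fin r)} (hS : 5 ≤ S.card) (K : Subgroup (Alt r))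
    (h : ∀ a b c d, a ∈ S → b ∈ S → c ∈ S → d ∈ S → Quad a b c d → d2 a b c d ∈ K) :
    suppIn S ≤ K := by
  refine suppIn_le_of_c3 S K fun a b c ha hb hc hab hac hbc => ?_
  have h2 : 1 < (S \ {a, b, c}).card := by
    have := Finset.le_card_sdiff ({a, b, c} : Finset (Fin r)) S
    have := Finset.card_le_three (a := a) (b := b) (c := c)
    omega
  obtain ⟨d, hd, e, he, hde⟩ := Finset.one_lt_card.mp h2
  simp only [Finset.mem_sdiff, Finset.mem_insert, Finset.mem_singleton, not_or] at hd he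
  obtain ⟨hdS, hda, hdb, hdc⟩ := hd
  obtain ⟨heS, hea, heb, hec⟩ := he
  have heq : c3 a b c = d2 a b d e * d2 b c d e := by
    apply Subtype.ext
    rw [Subgroup.coe_mul, c3_coe hab hbc, d2_coe hab hde, d2_coe hbc hde]
    have hdis : Equiv.swap b c * Equiv.swap d e = Equiv.swap d e * Equiv.swap b c := by
      refine (Equiv.Perm.Disjoint.commute ?_).eq
      rw [Equiv.Perm.disjoint_iff_disjoint_support, Equiv.Perm.support_swap hbc,
        Equiv.Perm.support_swap hde]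
      simp [hdb, hdc, heb, hec]
    rw [hdis, mul_assoc (Equiv.swap a b), ← mul_assoc (Equiv.swap d e), Equiv.swap_mul_self, one_mul]
  rw [heq]
  exact K.mul_mem (h a b d e ha hb hdS heS ⟨hab, Ne.symm hda, Ne.symm hea, Ne.symm hdb,
    Ne.symm heb, hde⟩) (h b c d e hb hc hdS heS ⟨hbc, Ne.symm hdb, Ne.symm heb, Ne.symm hdc,
    Ne.symm hec, hde⟩)

lemma sq_eq_one_cases {c : k} (h : c * c = 1) : c = 1 ∨ c = -1 := mul_self_eq_one_iff.mp h

namespace PRep

variable (ρ : PRep r k V)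

/-- A normalised lift of an involution. -/
lemma exists_lift_sq [IsAlgClosed k] {g : Alt r} (hg : g * g = 1) (e : kˣ) :
    ∃ X, ρ.IsLift g X ∧ X * X = sc e := by
  have h1 := ρ.lift_mul (ρ.lift_T g) (ρ.lift_T g)
  rw [hg] at h1
  obtain ⟨l, hl⟩ := ρ.lift_unique ρ.lift_one h1
  rw [mul_one] at hl
  obtain ⟨m, hm⟩ := IsAlgClosed.exists_pow_nat_eq ((e * l⁻¹ : kˣ) : k) (show 0 < 2 by omega)
  have hm0 : m ≠ 0 := by
    intro h
    rw [h, zero_pow (by omega)] at hm
    exact (e * l⁻¹).ne_zero hm.symm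
  refine ⟨sc (Units.mk0 m hm0) * ρ.T g, ⟨_, rfl⟩, ?_⟩
  rw [mul_assoc, ← mul_assoc (ρ.T g), ← sc_comm, mul_assoc, hl, ← mul_assoc, ← _root_.map_mul,
    ← _root_.map_mul]
  congr 1
  ext
  simp only [Units.val_mul, Units.val_mk0]
  rw [← sq, hm, Units.val_mul, Units.inv_mul_cancel_right]

lemma comm_sign [Nontrivial V] {g h : Alt r} (hgh : Commute g h) (hh : h * h = 1)
    {X Y : (Module.End k V)ˣ} (hX : ρ.IsLift g X) (hY : ρ.IsLift h Y) :
    Commute X Y ∨ X * Y = sc (-1 : kˣ) * (Y * X) := by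
  obtain ⟨c, hc⟩ := ρ.exists_comm_scalar hgh hX hY
  have hh' := ρ.lift_mul hY hY
  rw [hh] at hh'
  obtain ⟨l, hl⟩ := ρ.lift_unique ρ.lift_one hh'
  rw [mul_one] at hl
  have h2 : (sc (c * c) : (Module.End k V)ˣ) = sc 1 := by
    have hconj : X * Y * X⁻¹ = sc c * Y := by rw [hc]; group
    have h3 : X * (Y * Y) * X⁻¹ = sc (c * c) * (Y * Y) := by
      calc X * (Y * Y) * X⁻¹ = (X * Y * X⁻¹) * (X * Y * X⁻¹) := by group
        _ = sc (c * c) * (Y * Y) := by
            rw [hconj, _root_.map_mul, mul_assoc (sc c) Y (sc c * Y), ← mul_assoc Y (sc c),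
              ← sc_comm c Y, ← mul_assoc, ← mul_assoc, ← mul_assoc]
    rw [hl, ← sc_comm, mul_inv_cancel_right] at h3
    rw [← _root_.map_mul] at h3
    have := sc_inj h3
    rw [map_one]
    nth_rewrite 1 [right_eq_mul.mp this]
    exact map_one _
  have h4 := congrArg Units.val (sc_inj h2)
  rcases sq_eq_one_cases (by simpa using h4) with h1 | h1
  · left
    rw [show c = 1 from Units.ext h1, map_one, one_mul] at hc
    exact hc
  · right
    rw [show c = -1 from Units.ext (by simpa using h1)] at hc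
    exact hc

/-- Commuting or anticommuting four-groups: a dichotomy independent of the four points. -/
lemma quad_transfer (hr : 6 ≤ r) {a b c d a' b' c' d' : Fin r} (q : Quad a b c d)
    (q' : Quad a' b' c' d') (e : kˣ) {X Y : (Module.End k V)ˣ} (hX : ρ.IsLift (d2 a b c d) X)
    (hY : ρ.IsLift (d2 a c b d) Y) (hXY : X * Y = sc e * (Y * X)) {X' Y' : (Module.End k V)ˣ}
    (hX' : ρ.IsLift (d2 a' b' c' d') X') (hY' : ρ.IsLift (d2 a' c' b' d') Y') :
    X' * Y' = sc e * (Y' * X') := by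
  obtain ⟨σ, hσ1, hσ2⟩ := q.exists_conj q' hr
  have h1 := ρ.lift_conj (ρ.lift_T σ) hX
  have h2 := ρ.lift_conj (ρ.lift_T σ) hY
  rw [hσ1] at h1
  rw [hσ2] at h2
  obtain ⟨α, rfl⟩ := ρ.lift_unique h1 hX'
  obtain ⟨β, rfl⟩ := ρ.lift_unique h2 hY'
  set S := ρ.T σ
  have hc : (S * X * S⁻¹) * (S * Y * S⁻¹) = sc e * ((S * Y * S⁻¹) * (S * X * S⁻¹)) := by
    calc (S * X * S⁻¹) * (S * Y * S⁻¹) = S * (X * Y) * S⁻¹ := by group
      _ = S * sc e * (Y * X) * S⁻¹ := by rw [hXY]; group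
      _ = sc e * ((S * Y * S⁻¹) * (S * X * S⁻¹)) := by rw [← sc_comm]; group
  calc sc α * (S * X * S⁻¹) * (sc β * (S * Y * S⁻¹))
      = sc α * ((S * X * S⁻¹) * sc β) * (S * Y * S⁻¹) := by group
    _ = sc (α * β) * ((S * X * S⁻¹) * (S * Y * S⁻¹)) := by
        rw [← sc_comm, _root_.map_mul]; group
    _ = sc (e * (β * α)) * ((S * Y * S⁻¹) * (S * X * S⁻¹)) := by
        rw [hc, ← mul_assoc, ← _root_.map_mul]
        congr 2
        rw [mul_comm (α * β) e, mul_comm α β]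
    _ = sc e * (sc β * ((S * Y * S⁻¹) * sc α) * (S * X * S⁻¹)) := by
        rw [← sc_comm, _root_.map_mul, _root_.map_mul]; group
    _ = _ := by group

end PRep

end Cfsg.Agent.AltDeg
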