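import Cfsg.Agent.Lib.AltDeg.CommThree

set_option autoImplicit false

/-!
# Characteristic three, commuting four-groups
-/

namespace Cfsg.Agent.AltDeg

open Module

universe u v

variable {r : ℕ} {k : Type u} [Field k] {V : Type v} [AddCommGroup V] [Module k V]

lemma two_le_choose_step : ∀ n : ℕ, 5 ≤ n → ∀ j, 2 ≤ j → j + 2 ≤ n →
    2 * n ≤ n.choose j ∧ (7 ≤ n → 3 * n ≤ n.choose j) := by
  intro n hn
  induction n, hn using Nat.le_induction with
  | base =>
    intro j hj hj2
    obtain rfl | rfl : j = 2 ∨ j = 3 := by omega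
    · exact ⟨by decide, fun h => absurd h (by omega)⟩
    · exact ⟨by decide, fun h => absurd h (by omega)⟩
  | succ n hn ih =>
    intro j hj hj2
    obtain ⟨i, rfl⟩ := Nat.exists_eq_succ_of_ne_zero (show j ≠ 0 by omega)
    rw [Nat.succ_eq_add_one] at hj hj2 ⊢
    rcases Nat.eq_or_lt_of_le (show 1 ≤ i by omega) with hi | hi
    · subst hi
      have h2 := ih 2 le_rfl (by omega)
      rw [Nat.choose_succ_succ', Nat.choose_one_right]
      show 2 * (n + 1) ≤ n + n.choose 2 ∧ (7 ≤ n + 1 → 3 * (n + 1) ≤ n + n.choose 2)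
      refine ⟨by omega, fun h7 => ?_⟩
      rcases Nat.eq_or_lt_of_le (show 6 ≤ n by omega) with h6 | h6
      · subst h6; decide
      · have := h2.2 (by omega); omega
    · have h1 := ih i (by omega) (by omega)
      rw [Nat.choose_succ_succ']
      rcases Nat.eq_or_lt_of_le (show i + 2 ≤ n by omega) with hi2 | hi2
      · have hs : n.choose (i + 1) = n := by
          rw [show i + 1 = n - 1 by omega, Nat.choose_symm (by omega), Nat.choose_one_right]
        refine ⟨by omega, fun h7 => ?_⟩
        rcases Nat.eq_or_lt_of_le (show 6 ≤ n by omega) with h6 | h6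
        · subst h6
          obtain rfl : i = 4 := by omega
          decide
        · have := h1.2 (by omega); omega
      · have h2 := ih (i + 1) (by omega) (by omega)
        exact ⟨by omega, fun h7 => by omega⟩

namespace InvLift

variable {ρ : PRep r k V} (J : InvLift ρ)

/-- The operator of two pairs. -/
def P (p : Fin (r / 2) × Fin (r / 2)) : Module.End k V :=
  if p.1 = p.2 then 1 else (J.U (gp p.1 p.2) : Module.End k V)

/-- The character of the subset `S` at two pairs. -/
def sgn (k : Type u) [Field k] {T : ℕ} (S : Finset (Fin T)) (i l : Fin T) : k :=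
  if (i ∈ S ↔ l ∈ S) then 1 else -1

/-- `S` describes a joint eigenvalue of the double transpositions of pairs. -/
def IsPW (S : Finset (Fin (r / 2))) : Prop :=
  ∃ v : V, v ≠ 0 ∧ ∀ i l, i ≠ l → (J.U (gp i l) : Module.End k V) v = sgn k S i l • v

lemma U_symm {i l : Fin (r / 2)} (h : i ≠ l) : J.U (gp l i) = J.U (gp i l) := by rw [gp_symm h]

lemma P_commute (p p' : Fin (r / 2) × Fin (r / 2)) : Commute (J.P p) (J.P p') := by
  unfold P
  split_ifs with h h'
  · exact Commute.one_left _
  · exact Commute.one_left _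
  · exact Commute.one_right _
  · next h h' =>
    exact Commute.units_val (J.comm _ _ _ _ _ _ _ _ (quad_pp h) (quad_pp h') (gp_commute h h'))

lemma exists_pw [IsAlgClosed k] [FiniteDimensional k V] [Nontrivial V] (h2 : (2 : k) ≠ 0)
    (hr : 2 ≤ r) (W : Submodule k V) (hW : W ≠ ⊥)
    (hinv : ∀ i l, i ≠ l → ∀ w ∈ W, (J.U (gp i l) : Module.End k V) w ∈ W) :
    ∃ S v, v ∈ W ∧ v ≠ 0 ∧ J.IsPW S ∧
      ∀ i l, i ≠ l → (J.U (gp i l) : Module.End k V) v = sgn k S i l • v := by
  classical
  obtain ⟨v, hv, hv0, μ, hμ⟩ := exists_joint_eigen J.P J.P_commute W hW (fun p w hw => by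
    unfold P
    split_ifs with h
    · exact hw
    · exact hinv _ _ h w hw)
  have hne1 : (1 : k) ≠ -1 := fun h => h2 (by linear_combination h)
  have hpair : ∀ i l, i ≠ l → (J.U (gp i l) : Module.End k V) v = μ (i, l) • v := fun i l h => by
    have := hμ (i, l)
    simpa [P, h] using this
  have hsq : ∀ i l, i ≠ l → μ (i, l) = 1 ∨ μ (i, l) = -1 := fun i l h => by
    have h1 : ((J.U (gp i l) * J.U (gp i l) : (Module.End k V)ˣ) : Module.End k V) v = v := by
      rw [gp, J.sq _ _ _ _ (quad_pp h)]; rfl
    rw [mul_apply_units, hpair i l h, map_smul, hpair i l h, smul_smul] at h1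
    exact sq_eq_one_cases (smul_left_injective k hv0 (by simpa using h1))
  let o : Fin (r / 2) := ⟨0, by omega⟩
  let S : Finset (Fin (r / 2)) := Finset.univ.filter (fun i => i ≠ o ∧ μ (o, i) ≠ 1)
  have hoS : o ∉ S := by simp [S]
  have hmain : ∀ i l, i ≠ l → μ (i, l) = sgn k S i l := by
    have hbase : ∀ l, o ≠ l → μ (o, l) = sgn k S o l := fun l hl => by
      simp only [sgn, hoS, false_iff]
      have hlS : l ∈ S ↔ μ (o, l) ≠ 1 := by simp [S, Ne.symm hl]
      rcases hsq o l hl with h | h
      · rw [if_pos (by rw [hlS, h]; simp), h]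
      · rw [if_neg (by rw [hlS, h, not_not]; exact hne1.symm), h]
    intro i l h
    by_cases hi : i = o
    · subst hi; exact hbase l h
    by_cases hl : l = o
    · subst hl
      have h1 := hpair i o h
      rw [J.U_symm (Ne.symm h), hpair o i (Ne.symm h)] at h1
      rw [← smul_left_injective k hv0 h1, hbase i (Ne.symm h)]
      simp only [sgn]
      by_cases a : o ∈ S <;> by_cases b : i ∈ S <;> simp [a, b]
    · have h1 : ((J.U (gp i o) * J.U (gp o l) : (Module.End k V)ˣ) : Module.End k V) v =
          μ (i, l) • v := by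
        rw [J.prod i o l hi (Ne.symm hl) h, hpair i l h]
      rw [mul_apply_units, hpair o l (Ne.symm hl), map_smul, J.U_symm (Ne.symm hi),
        hpair o i (Ne.symm hi), smul_smul] at h1
      rw [← smul_left_injective k hv0 h1, hbase i (Ne.symm hi), hbase l (Ne.symm hl)]
      simp only [sgn]
      by_cases a : o ∈ S <;> by_cases b : i ∈ S <;> by_cases c : l ∈ S <;> simp [a, b, c]
  refine ⟨S, v, hv, hv0, ⟨v, hv0, fun i l h => ?_⟩, fun i l h => ?_⟩ <;>
    rw [hpair i l h, hmain i l h]

lemma IsPW.compl {S : Finset (Fin (r / 2))} (h : J.IsPW S) : J.IsPW Sᶜ := by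
  obtain ⟨v, hv, hμ⟩ := h
  refine ⟨v, hv, fun i l hil => ?_⟩
  rw [hμ i l hil]
  simp only [sgn, Finset.mem_compl, not_iff_not]

lemma IsPW.perm {S : Finset (Fin (r / 2))} (hr : 2 ≤ r) (h : J.IsPW S)
    (π : Equiv.Perm (Fin (r / 2))) : J.IsPW (S.map π.toEmbedding) := by
  classical
  let ι : Fin (r / 2) × Fin 2 ↪ Fin r :=
    ⟨fun x => pp x.1 x.2, fun x y hxy => Prod.ext (pp_inj hxy).1 (pp_inj hxy).2⟩
  let P : Equiv.Perm (Fin r) :=
    Equiv.Perm.viaEmbedding (Equiv.prodCongr π (Equiv.refl (Fin 2))) ι
  have hP : ∀ l j, P (pp l j) = pp (π l) j := fun l j =>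
    Equiv.Perm.viaEmbedding_apply (Equiv.prodCongr π (Equiv.refl (Fin 2))) ι (l, j)
  let o : Fin (r / 2) := ⟨0, by omega⟩
  have hne : pp o 0 ≠ pp o 1 := pp_ne (Or.inr (by decide))
  obtain ⟨τ, hτ⟩ : ∃ τ : Alt r, ∀ l, Equiv.swap ((τ : Equiv.Perm (Fin r)) (pp l 0))
      ((τ : Equiv.Perm (Fin r)) (pp l 1)) = Equiv.swap (pp (π l) 0) (pp (π l) 1) := by
    rcases Int.units_eq_one_or (Equiv.Perm.sign P) with hs | hs
    · exact ⟨toAlt P, fun l => by rw [toAlt_coe hs, hP, hP]⟩
    · have hs' : Equiv.Perm.sign (P * Equiv.swap (pp o 0) (pp o 1)) = 1 := by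
        rw [map_mul, hs, Equiv.Perm.sign_swap hne]; rfl
      refine ⟨toAlt (P * Equiv.swap (pp o 0) (pp o 1)), fun l => ?_⟩
      rw [toAlt_coe hs', Equiv.Perm.mul_apply, Equiv.Perm.mul_apply]
      by_cases hl : l = o
      · subst hl
        rw [Equiv.swap_apply_left, Equiv.swap_apply_right, hP, hP, Equiv.swap_comm]
      · rw [Equiv.swap_apply_of_ne_of_ne (pp_ne (Or.inl hl)) (pp_ne (Or.inl hl)),
          Equiv.swap_apply_of_ne_of_ne (pp_ne (Or.inl hl)) (pp_ne (Or.inl hl)), hP, hP]
  obtain ⟨v, hv, hμ⟩ := h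
  refine ⟨(ρ.T τ : Module.End k V) v, fun h0 => hv ?_, fun i l hil => ?_⟩
  · rw [← inv_apply_units (ρ.T τ) v, h0, map_zero]
  have hpre : π.symm i ≠ π.symm l := fun he => hil (π.symm.injective he)
  have hc := J.conj _ _ _ _ (quad_pp hpre) τ _ (ρ.lift_T τ)
  have hg := gp_conj (i' := i) (l' := l) hpre τ (by rw [hτ, Equiv.apply_symm_apply])
    (by rw [hτ, Equiv.apply_symm_apply]) hil
  rw [gp] at hg
  rw [hg] at hc
  rw [← hc, mul_apply_units, mul_apply_units, inv_apply_units]
  have hv' := hμ _ _ hpre
  rw [gp] at hv'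
  rw [hv', map_smul]
  simp only [sgn, Finset.mem_map_equiv]

lemma IsPW.of_card {S S' : Finset (Fin (r / 2))} (hr : 2 ≤ r) (h : J.IsPW S)
    (hc : S'.card = S.card) : J.IsPW S' := by
  obtain ⟨σ, hσ⟩ := Equiv.Perm.exists_smul_eq_embedding
    (⟨fun x : {x // x ∈ S} => x.1, Subtype.val_injective⟩ : {x // x ∈ S} ↪ Fin (r / 2))
    ⟨fun x => ((Finset.equivOfCardEq hc.symm) x).1, Subtype.val_injective.comp (Equiv.injective _)⟩
  have hmap : S.map σ.toEmbedding = S' := by
    apply Finset.eq_of_subset_of_card_le
    · intro x hx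
      obtain ⟨y, hy, rfl⟩ := Finset.mem_map.mp hx
      have := congrArg (fun f : {x // x ∈ S} ↪ Fin (r / 2) => f ⟨y, hy⟩) hσ
      simp only [Function.Embedding.smul_apply] at this
      rw [show σ.toEmbedding y = ((Finset.equivOfCardEq hc.symm) ⟨y, hy⟩).1 from this]
      exact Subtype.mem _
    · rw [Finset.card_map, hc]
  exact hmap ▸ h.perm J hr σ

lemma card_le_of_pw [FiniteDimensional k V] (h2 : (2 : k) ≠ 0) {ι : Type*} [Fintype ι]
    (f : ι → Finset (Fin (r / 2))) (hw : ∀ a, J.IsPW (f a))
    (hf : ∀ a b, (f a = f b ∨ f a = (f b)ᶜ) → a = b) : Fintype.card ι ≤ finrank k V := by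
  classical
  have hne1 : (1 : k) ≠ -1 := fun h => h2 (by linear_combination h)
  choose v hv hμ using hw
  refine card_le_of_eigen v J.P (fun a p => sgn k (f a) p.1 p.2) (fun a p => ?_) hv
    (fun a b hab => hf a b ?_)
  · by_cases h : p.1 = p.2
    · simp [P, sgn, h]
    · simp only [P, if_neg h]
      exact hμ a _ _ h
  · have hall : ∀ i l, (i ∈ f a ↔ l ∈ f a) ↔ (i ∈ f b ↔ l ∈ f b) := by
      intro i l
      have h := congrFun hab (i, l)
      simp only [sgn] at h
      by_cases h1 : (i ∈ f a ↔ l ∈ f a) <;> by_cases h2' : (i ∈ f b ↔ l ∈ f b)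
      · exact iff_of_true h1 h2'
      · rw [if_pos h1, if_neg h2'] at h; exact absurd h hne1
      · rw [if_neg h1, if_pos h2'] at h; exact absurd h hne1.symm
      · exact iff_of_false h1 h2'
    by_cases hs : f a = f b
    · exact Or.inl hs
    · right
      obtain ⟨x, hx⟩ : ∃ x, ¬(x ∈ f a ↔ x ∈ f b) := by
        by_contra hno
        push Not at hno
        exact hs (Finset.ext hno)
      ext y
      have := hall x y
      rw [Finset.mem_compl]
      by_cases a1 : x ∈ f a <;> by_cases b1 : x ∈ f b <;> by_cases a2 : y ∈ f a <;>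
        by_cases b2 : y ∈ f b <;> simp_all

/-- A subset not of half size gives all subsets of its size. -/
lemma bound_subsets [FiniteDimensional k V] (h2 : (2 : k) ≠ 0) (hr : 2 ≤ r)
    {S : Finset (Fin (r / 2))} (h : J.IsPW S) (hne : 2 * S.card ≠ r / 2) :
    (r / 2).choose S.card ≤ finrank k V := by
  have := J.card_le_of_pw h2
    (fun x : {x // x ∈ (Finset.univ : Finset (Fin (r / 2))).powersetCard S.card} => x.1)
    (fun x => h.of_card J hr (Finset.mem_powersetCard.mp x.2).2)
    (fun a b hab => Subtype.ext (hab.resolve_right fun hc => by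
      have h1 := congrArg Finset.card hc
      rw [Finset.card_compl, (Finset.mem_powersetCard.mp a.2).2,
        (Finset.mem_powersetCard.mp b.2).2, Fintype.card_fin] at h1
      have := Finset.card_le_univ S
      rw [Fintype.card_fin] at this
      omega))
  simpa using this

/-- A subset of half size, possibly together with a singleton. -/
lemma bound_half [FiniteDimensional k V] (h2 : (2 : k) ≠ 0) (hr : 8 ≤ r)
    {S : Finset (Fin (r / 2))} (h : J.IsPW S) (hS : 2 * S.card = r / 2) :
    (r / 2 - 1).choose (S.card - 1) ≤ finrank k V ∧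
      ((∃ S', J.IsPW S' ∧ S'.card = 1) →
        r / 2 + (r / 2 - 1).choose (S.card - 1) ≤ finrank k V) := by
  classical
  let o : Fin (r / 2) := ⟨0, by omega⟩
  let F : Finset (Finset (Fin (r / 2))) := (({o} : Finset (Fin (r / 2)))ᶜ).powersetCard (S.card - 1)
  have hFc : F.card = (r / 2 - 1).choose (S.card - 1) := by
    rw [Finset.card_powersetCard, Finset.card_compl, Fintype.card_fin, Finset.card_singleton]
  have hno : ∀ x : {x // x ∈ F}, o ∉ x.1 := fun x hx => by
    have := (Finset.mem_powersetCard.mp x.2).1 hx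
    simp at this
  have hins : ∀ x : {x // x ∈ F}, (insert o x.1).card = S.card := fun x => by
    rw [Finset.card_insert_of_notMem (hno x), (Finset.mem_powersetCard.mp x.2).2]
    omega
  have hinj : ∀ a b : {x // x ∈ F}, insert o a.1 = insert o b.1 → a = b := fun a b hab => by
    apply Subtype.ext
    rw [← Finset.erase_insert (hno a), hab, Finset.erase_insert (hno b)]
  refine ⟨?_, fun ⟨S', h', hS'⟩ => ?_⟩
  · have := J.card_le_of_pw h2 (fun x : {x // x ∈ F} => insert o x.1)
      (fun x => h.of_card J (by omega) (hins x))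
      (fun a b hab => hinj a b (hab.resolve_right fun hc => by
        have : o ∈ (insert o b.1)ᶜ := hc ▸ Finset.mem_insert_self o a.1
        simp at this))
    rw [Fintype.card_coe, hFc] at this
    exact this
  · have := J.card_le_of_pw h2
      (fun s : Fin (r / 2) ⊕ {x // x ∈ F} => Sum.elim (fun i => ({i} : Finset (Fin (r / 2))))
        (fun x => insert o x.1) s)
      (fun s => by
        cases s with
        | inl i => exact h'.of_card J (by omega) (by simp [hS'])
        | inr x => exact h.of_card J (by omega) (hins x))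
      (fun a b hab => by
        have hcard : ∀ (A B : Finset (Fin (r / 2))), A = B ∨ A = Bᶜ →
            A.card = B.card ∨ A.card + B.card = r / 2 := by
          intro A B hAB
          rcases hAB with rfl | rfl
          · exact Or.inl rfl
          · right
            rw [Finset.card_compl, Fintype.card_fin]
            have := Finset.card_le_univ B
            rw [Fintype.card_fin] at this
            omega
        rcases a with i | x <;> rcases b with j | y
        · rcases hab with hab | hab
          · simp only [Sum.elim_inl, Finset.singleton_inj] at hab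
            rw [hab]
          · exfalso
            have := congrArg Finset.card hab
            simp [Finset.card_compl] at this
            omega
        · exfalso
          have := hcard _ _ hab
          simp only [Sum.elim_inl, Sum.elim_inr, Finset.card_singleton, hins] at this
          omega
        · exfalso
          have := hcard _ _ hab
          simp only [Sum.elim_inl, Sum.elim_inr, Finset.card_singleton, hins] at this
          omega
        · congr 1
          refine hinj x y (hab.resolve_right fun hc => ?_)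
          have hm : o ∈ (insert o y.1)ᶜ := (show insert o x.1 = (insert o y.1)ᶜ from hc) ▸
            Finset.mem_insert_self o x.1
          simp at hm)
    rw [Fintype.card_sum, Fintype.card_coe, Fintype.card_fin, hFc] at this
    exact this

end InvLift

end Cfsg.Agent.AltDeg
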