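import Cfsg.Agent.Lib.AltDeg.LinearThree

set_option autoImplicit false

/-!
# The bound in characteristic three with commuting four-groups
-/

namespace Cfsg.Agent.AltDeg

open Module

universe u v

variable {r : ℕ} {k : Type u} [Field k] {V : Type v} [AddCommGroup V] [Module k V]

/-- In characteristic three a stable line is fixed by a canonical lift. -/
lemma CycLift.fixed_of_line {ρ : PRep r k V} (L : CycLift ρ) (h3 : (3 : k) = 0) {a b c : Fin r}
    (hab : a ≠ b) (hac : a ≠ c) (hbc : b ≠ c) {v : V}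
    (h : (L.ξ a b c : Module.End k V) v ∈ Submodule.span k {v}) :
    (L.ξ a b c : Module.End k V) v = v := by
  by_cases hv : v = 0
  · rw [hv, map_zero]
  obtain ⟨t, ht⟩ := Submodule.mem_span_singleton.mp h
  have hcube : t ^ 3 = 1 := by
    have h1 := congrArg (fun A : (Module.End k V)ˣ => (A : Module.End k V) v)
      (L.cube a b c hab hac hbc)
    rw [pow_three', mul_apply_units, mul_apply_units, ← ht, map_smul, ← ht, map_smul, map_smul,
      ← ht, smul_smul, smul_smul] at h1
    exact smul_left_injective k hv (by rw [show t ^ 3 = t * t * t by ring]; simpa using h1)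
  have ht1 : t = 1 := by
    have h0 : (t - 1) ^ 3 = 0 := by linear_combination hcube - (t * t - t) * h3
    exact sub_eq_zero.mp (eq_zero_of_pow_eq_zero h0)
  rw [← ht, ht1, one_smul]

namespace PRep

variable [FiniteDimensional k V] (ρ : PRep r k V)

/-- The elements whose lifts stabilise the line of `v`. -/
def lineStab (v : V) : Subgroup (Alt r) where
  carrier := {σ | ∀ X, ρ.IsLift σ X → (Submodule.span k {v}).map (X : Module.End k V) =
    Submodule.span k {v}}
  one_mem' := fun X hX => by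
    obtain ⟨c, rfl⟩ := ρ.lift_unique ρ.lift_one hX
    rw [mul_one, sc_val, Submodule.map_smul _ _ _ c.ne_zero, Module.End.one_eq_id, Submodule.map_id]
  mul_mem' := fun {a b} ha hb X hX => by
    obtain ⟨c, rfl⟩ := ρ.lift_unique (ρ.lift_mul (ρ.lift_T a) (ρ.lift_T b)) hX
    rw [Units.val_mul, Units.val_mul, sc_val, smul_mul_assoc, one_mul,
      Submodule.map_smul _ _ _ c.ne_zero, Module.End.mul_eq_comp, Submodule.map_comp,
      hb _ (ρ.lift_T b), ha _ (ρ.lift_T a)]
  inv_mem' := fun {a} ha X hX => by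
    have h1 := ρ.lift_inv hX
    rw [inv_inv] at h1
    conv_lhs => rw [← ha _ h1]
    rw [← Submodule.map_comp, ← Module.End.mul_eq_comp, ← Units.val_mul, mul_inv_cancel,
      Units.val_one, Module.End.one_eq_id, Submodule.map_id]

lemma mem_lineStab_of_eigen {v : V} {σ : Alt r} {X : (Module.End k V)ˣ} (hX : ρ.IsLift σ X)
    {t : k} (ht : t ≠ 0) (h : (X : Module.End k V) v = t • v) : σ ∈ ρ.lineStab v := by
  intro Y hY
  obtain ⟨c, rfl⟩ := ρ.lift_unique hX hY
  rw [Submodule.map_span, Set.image_singleton, mul_apply_units, h, sc_apply, smul_smul]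
  exact Submodule.span_singleton_smul_eq ((mul_ne_zero c.ne_zero ht).isUnit) v

lemma mem_span_of_lineStab {v : V} {σ : Alt r} (hσ : σ ∈ ρ.lineStab v) {X : (Module.End k V)ˣ}
    (hX : ρ.IsLift σ X) : (X : Module.End k V) v ∈ Submodule.span k {v} := by
  rw [← hσ X hX]
  exact ⟨v, Submodule.mem_span_singleton_self v, rfl⟩

end PRep

/-- Two disjoint double transpositions can be moved to any other two. -/
lemma exists_map_d2_pair {a b c d a' b' c' d' A B C D A' B' C' D' : Fin r}
    (q : Quad a b c d) (q' : Quad a' b' c' d') (Q' : Quad A' B' C' D')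
    (hf : Function.Injective (Sum.elim ![a, b, c, d] ![a', b', c', d']))
    (hg : Function.Injective (Sum.elim ![A, B, C, D] ![A', B', C', D'])) :
    ∃ σ : Alt r, σ * d2 a b c d * σ⁻¹ = d2 A B C D ∧
      σ * d2 a' b' c' d' * σ⁻¹ = d2 A' B' C' D' := by
  obtain ⟨s, hs⟩ := Equiv.Perm.exists_smul_eq_embedding
    (⟨Sum.elim ![a, b, c, d] ![a', b', c', d'], hf⟩ : Fin 4 ⊕ Fin 4 ↪ Fin r)
    ⟨Sum.elim ![A, B, C, D] ![A', B', C', D'], hg⟩
  have hs' : ∀ i, s (Sum.elim ![a, b, c, d] ![a', b', c', d'] i) =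
      Sum.elim ![A, B, C, D] ![A', B', C', D'] i := fun i => by
    have := congrArg (fun e : Fin 4 ⊕ Fin 4 ↪ Fin r => e i) hs
    simpa [Function.Embedding.smul_apply] using this
  obtain ⟨τ, h0, h1, h2, h3, h45, h6, h7⟩ : ∃ τ : Alt r,
      (τ : Equiv.Perm (Fin r)) a = A ∧ (τ : Equiv.Perm (Fin r)) b = B ∧
      (τ : Equiv.Perm (Fin r)) c = C ∧ (τ : Equiv.Perm (Fin r)) d = D ∧
      Equiv.swap ((τ : Equiv.Perm (Fin r)) a') ((τ : Equiv.Perm (Fin r)) b') = Equiv.swap A' B' ∧
      (τ : Equiv.Perm (Fin r)) c' = C' ∧ (τ : Equiv.Perm (Fin r)) d' = D' := by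
    rcases Int.units_eq_one_or (Equiv.Perm.sign s) with h | h
    · refine ⟨toAlt s, ?_⟩
      rw [toAlt_coe h]
      exact ⟨hs' (Sum.inl 0), hs' (Sum.inl 1), hs' (Sum.inl 2), hs' (Sum.inl 3),
        congrArg₂ Equiv.swap (hs' (Sum.inr 0)) (hs' (Sum.inr 1)), hs' (Sum.inr 2), hs' (Sum.inr 3)⟩
    · have h' : Equiv.Perm.sign (Equiv.swap A' B' * s) = 1 := by
        rw [map_mul, h, Equiv.Perm.sign_swap Q'.hab]; rfl
      refine ⟨toAlt (Equiv.swap A' B' * s), ?_⟩
      rw [toAlt_coe h']
      simp only [Equiv.Perm.mul_apply]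
      have o : ∀ i : Fin 4 ⊕ Fin 4, i ≠ Sum.inr 0 → i ≠ Sum.inr 1 →
          Equiv.swap A' B' (s (Sum.elim ![a, b, c, d] ![a', b', c', d'] i)) =
            Sum.elim ![A, B, C, D] ![A', B', C', D'] i := fun i h0 h1 => by
        rw [hs' i]
        exact Equiv.swap_apply_of_ne_of_ne (fun hh => h0 (hg hh)) (fun hh => h1 (hg hh))
      refine ⟨o (Sum.inl 0) (by simp) (by simp), o (Sum.inl 1) (by simp) (by simp),
        o (Sum.inl 2) (by simp) (by simp), o (Sum.inl 3) (by simp) (by simp), ?_,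
        o (Sum.inr 2) (by simp) (by simp), o (Sum.inr 3) (by simp) (by simp)⟩
      rw [show s a' = A' from hs' (Sum.inr 0), show s b' = B' from hs' (Sum.inr 1),
        Equiv.swap_apply_left, Equiv.swap_apply_right, Equiv.swap_comm]
  refine ⟨τ, by rw [d2_conj τ q.hab q.hcd, h0, h1, h2, h3], ?_⟩
  rw [d2_conj τ q'.hab q'.hcd, h6, h7]
  apply Subtype.ext
  rw [d2_coe (fun hh => q'.hab ((τ : Equiv.Perm (Fin r)).injective hh)) Q'.hcd,
    d2_coe Q'.hab Q'.hcd, h45]

namespace InvLift

variable {ρ : PRep r k V} (J : InvLift ρ)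

include J in
/-- The natural module from quadratic action of disjoint double transpositions. -/
theorem natural_three [IsAlgClosed k] [FiniteDimensional k V] [Nontrivial V] (L : CycLift ρ)
    (hr : 9 ≤ r) (h3 : (3 : k) = 0) (h2 : (2 : k) ≠ 0)
    (hQ : ∀ a b c d a' b' c' d', Quad a b c d → Quad a' b' c' d' →
      (∀ x ∈ ({a', b', c', d'} : Finset (Fin r)), x ∉ ({a, b, c, d} : Finset (Fin r))) →
      ∀ w, (J.U (d2 a' b' c' d') : Module.End k V) ((J.U (d2 a b c d) : Module.End k V) w - w) =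
        (J.U (d2 a b c d) : Module.End k V) w - w)
    {o : Fin (r / 2)} {v : V} (hv : v ≠ 0)
    (hvo : ∀ l, o ≠ l → (J.U (gp o l) : Module.End k V) v = -v) : AltBound r k V := by
  have hne1 : (-1 : k) ≠ 0 := neg_ne_zero.mpr one_ne_zero
  -- negated vectors are stable off the four points
  have hneg : ∀ {a b c d : Fin r}, Quad a b c d → ∀ {w : V},
      (J.U (d2 a b c d) : Module.End k V) w = -w →
      suppIn ({a, b, c, d} : Finset (Fin r))ᶜ ≤ ρ.lineStab w := by
    intro a b c d q w hw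
    refine suppIn_le_of_d2 ?_ _ fun a' b' c' d' ha hb hc hd q' => ?_
    · rw [Finset.card_compl, Fintype.card_fin]
      have h4 : ({a, b, c, d} : Finset (Fin r)).card ≤ 4 := Finset.card_le_four
      omega
    · refine ρ.mem_lineStab_of_eigen (J.lift _ _ _ _ q') one_ne_zero ?_
      rw [one_smul]
      have h := hQ a b c d a' b' c' d' q q' (fun x hx => by
        simp only [Finset.mem_insert, Finset.mem_singleton] at hx
        rcases hx with rfl | rfl | rfl | rfl <;> simp only [Finset.mem_compl] at ha hb hc hd <;>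
          assumption) w
      rw [hw, show -w - w = (-2 : k) • w by module, map_smul] at h
      exact smul_right_injective V (neg_ne_zero.mpr h2) h
  set a₀ := pp o 0 with ha₀
  set b₀ := pp o 1 with hb₀
  have hab₀ : a₀ ≠ b₀ := pp_ne (Or.inr (by decide))
  obtain ⟨l₁, hl₁⟩ : ∃ l : Fin (r / 2), o ≠ l := by
    by_cases ho : o = ⟨0, by omega⟩
    · refine ⟨⟨1, by omega⟩, fun h => ?_⟩
      have h0 := congrArg Fin.val (h.symm.trans ho)
      simp at h0
    · exact ⟨⟨0, by omega⟩, ho⟩
  obtain ⟨l₂, hl₂, hl₁₂⟩ : ∃ l : Fin (r / 2), o ≠ l ∧ l₁ ≠ l := by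
    by_contra hno
    push Not at hno
    have h1 : (Finset.univ : Finset (Fin (r / 2))) ⊆ {o, l₁} := fun x _ => by
      by_cases hx : o = x
      · simp [← hx]
      · simp [← hno x hx]
    have h2' := (Finset.card_le_card h1).trans Finset.card_le_two
    rw [Finset.card_univ, Fintype.card_fin] at h2'
    omega
  -- the vector is stable off the first pair
  have hstab : suppIn ({a₀, b₀} : Finset (Fin r))ᶜ ≤ ρ.lineStab v := by
    have s1 := hneg (quad_pp hl₁) (hvo l₁ hl₁)
    have s2 := hneg (quad_pp hl₂) (hvo l₂ hl₂)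
    refine le_trans (suppIn_mono ?_) (suppIn_union_le _ _ _ s1 s2 ?_)
    · intro x hx
      simp only [Finset.mem_compl, Finset.mem_insert, Finset.mem_singleton, not_or] at hx
      simp only [Finset.mem_union, Finset.mem_compl, Finset.mem_insert, Finset.mem_singleton,
        not_or, ← ha₀, ← hb₀]
      by_cases h1 : x = pp l₁ 0 ∨ x = pp l₁ 1
      · right
        rcases h1 with rfl | rfl <;>
          exact ⟨hx.1, hx.2, pp_ne (Or.inl hl₁₂), pp_ne (Or.inl hl₁₂)⟩
      · rw [not_or] at h1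
        exact Or.inl ⟨hx.1, hx.2, h1.1, h1.2⟩
    · have hsub : ({a₀, b₀, pp l₁ 0, pp l₁ 1, pp l₂ 0, pp l₂ 1} : Finset (Fin r))ᶜ ⊆
          ({pp o 0, pp o 1, pp l₁ 0, pp l₁ 1} : Finset (Fin r))ᶜ ∩
            ({pp o 0, pp o 1, pp l₂ 0, pp l₂ 1} : Finset (Fin r))ᶜ := by
        intro x hx
        simp only [Finset.mem_compl, Finset.mem_insert, Finset.mem_singleton, not_or,
          Finset.mem_inter, ← ha₀, ← hb₀] at hx ⊢
        tauto
      refine le_trans ?_ (Finset.card_le_card hsub)
      rw [Finset.card_compl, Fintype.card_fin]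
      have h6 : ({a₀, b₀, pp l₁ 0, pp l₁ 1, pp l₂ 0, pp l₂ 1} : Finset (Fin r)).card ≤ 6 :=
        Finset.card_le_six
      omega
  have hvfix : L.FixedOff {a₀, b₀} v := fun x y z hx hy hz hxy hxz hyz =>
    L.fixed_of_line h3 hxy hxz hyz (ρ.mem_span_of_lineStab (hstab (c3_mem_suppIn hxy hyz
      (by simpa using hx) (by simpa using hy) (by simpa using hz))) (L.lift x y z hxy hxz hyz))
  have hex : ∀ T : Finset (Fin r), T.card = 3 → ∃ w, w ≠ 0 ∧ L.FixedOff T w := by
    intro T hT
    obtain ⟨p, q, s, hpq, hps, hqs, rfl⟩ := Finset.card_eq_three.mp hT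
    obtain ⟨σ, hσ⟩ := exists_alt_map ![a₀, b₀] ![p, q] (injective_pair hab₀) (injective_pair hpq)
      (by simp; omega)
    refine ⟨(ρ.T σ : Module.End k V) v, fun h0 => hv (by
      rw [← inv_apply_units (ρ.T σ) v, h0, map_zero]), fun x y z hx hy hz hxy hxz hyz => ?_⟩
    simp only [Finset.mem_insert, Finset.mem_singleton, not_or] at hx hy hz
    set f := ((σ⁻¹ : Alt r) : Equiv.Perm (Fin r)) with hf
    have hfinj : Function.Injective f := f.injective
    have hout : ∀ t, t ≠ p → t ≠ q → f t ∉ ({a₀, b₀} : Finset (Fin r)) := by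
      intro t htp htq
      have fp : f p = a₀ := alt_inv_apply_of_eq σ (hσ 0)
      have fq : f q = b₀ := alt_inv_apply_of_eq σ (hσ 1)
      simp only [Finset.mem_insert, Finset.mem_singleton, ← fp, ← fq, hfinj.eq_iff, htp, htq,
        or_self, not_false_eq_true]
    have hc := L.conj (f x) (f y) (f z) (fun h => hxy (hfinj h)) (fun h => hxz (hfinj h))
      (fun h => hyz (hfinj h)) σ _ (ρ.lift_T σ)
    have hid : ∀ t, (σ : Equiv.Perm (Fin r)) (f t) = t := fun t => by simp [hf]
    rw [hid, hid, hid] at hc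
    rw [← hc, mul_apply_units, mul_apply_units, inv_apply_units,
      hvfix _ _ _ (hout x hx.1 hx.2.1) (hout y hy.1 hy.2.1) (hout z hz.1 hz.2.1)
        (fun h => hxy (hfinj h)) (fun h => hxz (hfinj h)) (fun h => hyz (hfinj h))]
  refine L.natural_bound hr hex hab₀ hv hvfix fun e hea heb => ?_
  -- the triangle sum
  have hflip : ∀ f f', Quad a₀ b₀ f f' → (J.U (d2 a₀ b₀ f f') : Module.End k V) v = -v := by
    intro f f' q
    obtain ⟨σ, hσ, hσv⟩ := exists_alt_map_fix ({a₀, b₀} : Finset (Fin r))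
      ![pp l₁ 0, pp l₁ 1] ![f, f'] (injective_pair (pp_ne (Or.inr (by decide))))
      (injective_pair q.hcd)
      (by intro i; fin_cases i <;>
        simp [ha₀, hb₀, pp_ne (Or.inl (Ne.symm hl₁))])
      (by intro i; fin_cases i <;> simp [q.hac.symm, q.hbc.symm, q.had.symm, q.hbd.symm])
      (by have h0 : ({a₀, b₀} : Finset (Fin r)).card ≤ 2 := Finset.card_le_two
          omega)
    have e1 : σ * gp o l₁ * σ⁻¹ = d2 a₀ b₀ f f' := by
      rw [gp, d2_conj σ (quad_pp hl₁).hab (quad_pp hl₁).hcd,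
        show (σ : Equiv.Perm (Fin r)) (pp l₁ 0) = f from hσv 0,
        show (σ : Equiv.Perm (Fin r)) (pp l₁ 1) = f' from hσv 1]
      congr 1
      · exact hσ _ (by simp [ha₀])
      · exact hσ _ (by simp [hb₀])
    have hc := J.conj _ _ _ _ (quad_pp hl₁) σ _ (ρ.lift_T σ)
    rw [← gp, e1] at hc
    have hmem := hstab hσ
    obtain ⟨t, ht⟩ := Submodule.mem_span_singleton.mp (ρ.mem_span_of_lineStab hmem (ρ.lift_T σ))
    have ht0 : t ≠ 0 := fun h0 => hv (by
      rw [← inv_apply_units (ρ.T σ) v, ← ht, h0, zero_smul, map_zero])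
    have hinv : ((ρ.T σ)⁻¹ : (Module.End k V)ˣ).val v = t⁻¹ • v := by
      calc _ = ((ρ.T σ)⁻¹ : (Module.End k V)ˣ).val (t⁻¹ • (t • v)) := by
              rw [smul_smul, inv_mul_cancel₀ ht0, one_smul]
        _ = t⁻¹ • v := by rw [map_smul, ht, inv_apply_units]
    rw [← hc, mul_apply_units, mul_apply_units, hinv, map_smul, hvo l₁ hl₁, map_smul, map_neg,
      ← ht, smul_neg, smul_smul, inv_mul_cancel₀ ht0, one_smul]
  set H := L.ξ a₀ b₀ e with hH
  set s := v + (H : Module.End k V) v + (H : Module.End k V) ((H : Module.End k V) v) with hs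
  have hH3 : (H : Module.End k V) ((H : Module.End k V) ((H : Module.End k V) v)) = v := by
    rw [← mul_apply_units, ← mul_apply_units, ← pow_three',
      L.cube a₀ b₀ e hab₀ (Ne.symm hea) (Ne.symm heb)]
    rfl
  have hHs : (H : Module.End k V) s = s := by
    simp only [hs, map_add, hH3]; abel
  have hsflip : ∀ f f', Quad a₀ b₀ f f' → f ≠ e → f' ≠ e →
      (J.U (d2 a₀ b₀ f f') : Module.End k V) s = -s := by
    intro f f' q hfe hfe'
    set G := J.U (d2 a₀ b₀ f f')
    have hc := L.conj a₀ b₀ e hab₀ (Ne.symm hea) (Ne.symm heb) _ G (J.lift _ _ _ _ q)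
    rw [q.apply_a, q.apply_b, q.apply_ne hea heb (Ne.symm hfe) (Ne.symm hfe'),
      L.inv b₀ e a₀ (Ne.symm heb) hab₀.symm hea,
      L.rot a₀ b₀ e hab₀ (Ne.symm hea) (Ne.symm heb), ← hH] at hc
    have hGH : ∀ w, (G : Module.End k V) ((H : Module.End k V) w) =
        (H⁻¹ : (Module.End k V)ˣ).val ((G : Module.End k V) w) := fun w => by
      rw [← hc, mul_apply_units, mul_apply_units, inv_apply_units]
    have hGv : (G : Module.End k V) v = -v := hflip f f' q
    have hHinv : (H⁻¹ : (Module.End k V)ˣ).val v = (H : Module.End k V) ((H : Module.End k V) v) := by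
      conv_lhs => rw [← hH3, inv_apply_units]
    simp only [hs, map_add, hGH, hGv, map_neg, hHinv, inv_apply_units]
    abel
  refine L.eq_zero_of_star hab₀ (by omega) fun x hxa hxb => ?_
  obtain ⟨f, hf⟩ := exists_ne_of_card ({a₀, b₀, e} : Finset (Fin r))
    (lt_of_le_of_lt Finset.card_le_three (by omega))
  obtain ⟨f', hf'⟩ := exists_ne_of_card ({a₀, b₀, e, f} : Finset (Fin r))
    (lt_of_le_of_lt Finset.card_le_four (by omega))
  obtain ⟨g, hg⟩ := exists_ne_of_card ({a₀, b₀, e, f, f'} : Finset (Fin r))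
    (lt_of_le_of_lt Finset.card_le_five (by omega))
  obtain ⟨g', hg'⟩ := exists_ne_of_card ({a₀, b₀, e, f, f', g} : Finset (Fin r))
    (lt_of_le_of_lt Finset.card_le_six (by omega))
  simp only [Finset.mem_insert, Finset.mem_singleton, not_or] at hf hf' hg hg'
  have qf : Quad a₀ b₀ f f' := ⟨hab₀, Ne.symm hf.1, Ne.symm hf'.1, Ne.symm hf.2.1, Ne.symm hf'.2.1,
    Ne.symm hf'.2.2.2⟩
  have qg : Quad a₀ b₀ g g' := ⟨hab₀, Ne.symm hg.1, Ne.symm hg'.1, Ne.symm hg.2.1, Ne.symm hg'.2.1,
    Ne.symm hg'.2.2.2.2.2⟩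
  have s1 := hneg qf (hsflip f f' qf hf.2.2 hf'.2.2.1)
  have s2 := hneg qg (hsflip g g' qg hg.2.2.1 hg'.2.2.1)
  have hsS : suppIn ({a₀, b₀} : Finset (Fin r))ᶜ ≤ ρ.lineStab s := by
    refine le_trans (suppIn_mono ?_) (suppIn_union_le _ _ _ s1 s2 ?_)
    · intro y hy
      simp only [Finset.mem_compl, Finset.mem_insert, Finset.mem_singleton, not_or] at hy
      simp only [Finset.mem_union, Finset.mem_compl, Finset.mem_insert, Finset.mem_singleton, not_or]
      by_cases h1 : y = f ∨ y = f'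
      · right
        rcases h1 with rfl | rfl
        · exact ⟨hy.1, hy.2, Ne.symm hg.2.2.2.1, Ne.symm hg'.2.2.2.1⟩
        · exact ⟨hy.1, hy.2, Ne.symm hg.2.2.2.2, Ne.symm hg'.2.2.2.2.1⟩
      · rw [not_or] at h1
        exact Or.inl ⟨hy.1, hy.2, h1.1, h1.2⟩
    · have hsub : ({a₀, b₀, f, f', g, g'} : Finset (Fin r))ᶜ ⊆
          ({a₀, b₀, f, f'} : Finset (Fin r))ᶜ ∩ ({a₀, b₀, g, g'} : Finset (Fin r))ᶜ := by
        intro y hy
        simp only [Finset.mem_compl, Finset.mem_insert, Finset.mem_singleton, not_or,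
          Finset.mem_inter] at hy ⊢
        tauto
      refine le_trans ?_ (Finset.card_le_card hsub)
      rw [Finset.card_compl, Fintype.card_fin]
      have h6 : ({a₀, b₀, f, f', g, g'} : Finset (Fin r)).card ≤ 6 := Finset.card_le_six
      omega
  have he : c3 a₀ b₀ e ∈ ρ.lineStab s :=
    ρ.mem_lineStab_of_eigen (L.lift a₀ b₀ e hab₀ (Ne.symm hea) (Ne.symm heb)) one_ne_zero
      (by rw [one_smul]; exact hHs)
  obtain ⟨τ, hτ, hτv⟩ := exists_alt_map_fix ({a₀, b₀} : Finset (Fin r)) ![e] ![x]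
    (fun i j _ => Subsingleton.elim i j) (fun i j _ => Subsingleton.elim i j)
    (by intro i; fin_cases i; simp [hea, heb]) (by intro i; fin_cases i; simp [hxa, hxb])
    (by have h0 : ({a₀, b₀} : Finset (Fin r)).card ≤ 2 := Finset.card_le_two
        omega)
  have hmem := mul_mem (mul_mem (hsS hτ) he) (inv_mem (hsS hτ))
  rw [c3_conj τ hab₀ (Ne.symm heb), hτ a₀ (by simp), hτ b₀ (by simp),
    show (τ : Equiv.Perm (Fin r)) e = x from hτv 0] at hmem
  exact ρ.mem_span_of_lineStab hmem (L.lift a₀ b₀ x hab₀ (Ne.symm hxa) (Ne.symm hxb))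

include J in
/-- Characteristic three with commuting four-groups. -/
theorem bound_linear [IsAlgClosed k] [FiniteDimensional k V] [Nontrivial V] (L : CycLift ρ)
    (hr : 9 ≤ r) (h3 : (3 : k) = 0) (h2 : (2 : k) ≠ 0) : AltBound r k V := by
  classical
  let q : Fin 4 → Fin (r / 2) := fun i => ⟨i.1, by omega⟩
  have hq : ∀ i j, i ≠ j → q i ≠ q j := fun i j h hij => h (by simpa [q, Fin.ext_iff] using hij)
  have h01 := hq 0 1 (by decide)
  have h23 := hq 2 3 (by decide)
  have hne1 : (1 : k) ≠ -1 := fun h => h2 (by linear_combination h)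
  have hneg_eig : ∀ {a b c d : Fin r}, Quad a b c d → ∀ u : V,
      (J.U (d2 a b c d) : Module.End k V) ((J.U (d2 a b c d) : Module.End k V) u - u) =
        -((J.U (d2 a b c d) : Module.End k V) u - u) := fun qd u => by
    rw [map_sub, ← mul_apply_units, J.sq _ _ _ _ qd, Units.val_one, Module.End.one_apply]
    abel
  have hcomm : ∀ {i l m n : Fin (r / 2)}, i ≠ l → m ≠ n → ∀ w,
      (J.U (gp i l) : Module.End k V) ((J.U (gp m n) : Module.End k V) w) =
        (J.U (gp m n) : Module.End k V) ((J.U (gp i l) : Module.End k V) w) := fun h h' w => by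
    rw [← mul_apply_units, ← mul_apply_units,
      show J.U (gp _ _) * J.U (gp _ _) = J.U (gp _ _) * J.U (gp _ _) from
        (J.comm _ _ _ _ _ _ _ _ (quad_pp h) (quad_pp h') (gp_commute h h')).eq]
  set U01 := J.U (gp (q 0) (q 1)) with hU01
  set U23 := J.U (gp (q 2) (q 3)) with hU23
  by_cases hQ : ∀ w, (U23 : Module.End k V) ((U01 : Module.End k V) w - w) =
      (U01 : Module.End k V) w - w
  · -- quadratic action
    obtain ⟨S, v, hv, hv0, hS, hμ⟩ := J.exists_pw h2 (by omega)
      (LinearMap.range ((U01 : Module.End k V) - 1)) (by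
        intro h
        have h1 := LinearMap.range_eq_bot.mp h
        rw [sub_eq_zero] at h1
        have h1' : U01 = 1 := Units.ext h1
        have hl := J.lift _ _ _ _ (quad_pp h01)
        rw [← gp, ← hU01, h1', ← map_one (sc (k := k) (V := V))] at hl
        exact d2_ne_one (quad_pp h01).hab (quad_pp h01).hcd (quad_pp h01).hac (quad_pp h01).had
          (ρ.lift_scalar hl))
      (fun i l hil w hw => by
        obtain ⟨u, rfl⟩ := hw
        exact ⟨(J.U (gp i l) : Module.End k V) u, by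
          simp only [LinearMap.sub_apply, Module.End.one_apply, map_sub, hU01, hcomm hil h01]⟩)
    obtain ⟨u, hu⟩ := hv
    have hμ01 : sgn k S (q 0) (q 1) = -1 := by
      have h1 := hμ _ _ h01
      rw [← hu, LinearMap.sub_apply, Module.End.one_apply, hU01, gp, hneg_eig (quad_pp h01),
        ← gp, ← hU01] at h1
      have hv' : (U01 : Module.End k V) u - u = v := by
        rw [← hu]; rfl
      rw [hv'] at h1
      refine smul_left_injective k hv0 ?_
      show sgn k S (q 0) (q 1) • v = (-1 : k) • v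
      rw [← h1, neg_one_smul]
    have hmem01 : ¬(q 0 ∈ S ↔ q 1 ∈ S) := fun h => hne1 (by rw [← hμ01, sgn, if_pos h])
    have hsmall : ∀ S', J.IsPW S' → ¬(2 ≤ S'.card ∧ S'.card + 2 ≤ r / 2) := by
      rintro S' hS' ⟨hlo, hhi⟩
      obtain ⟨A, hA1, hA2, hAc⟩ := Finset.exists_subsuperset_card_eq
        (show ({q 0, q 2} : Finset (Fin (r / 2))) ⊆ ({q 1, q 3} : Finset (Fin (r / 2)))ᶜ by
          intro x hx
          simp only [Finset.mem_insert, Finset.mem_singleton] at hx
          rcases hx with rfl | rfl <;> simp [hq])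
        (show ({q 0, q 2} : Finset (Fin (r / 2))).card ≤ S'.card from le_trans Finset.card_le_two hlo)
        (by
          rw [Finset.card_compl, Fintype.card_fin, Finset.card_pair (hq 1 3 (by decide))]
          omega)
      obtain ⟨w, hw0, hw⟩ := hS'.of_card J (by omega) hAc
      have n1 : q 1 ∉ A := fun h => by simpa using hA2 h
      have n3 : q 3 ∉ A := fun h => by simpa using hA2 h
      have m0 : q 0 ∈ A := hA1 (by simp)
      have m2 : q 2 ∈ A := hA1 (by simp)
      have e01 := hw _ _ h01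
      have e23 := hw _ _ h23
      simp only [sgn, m0, n1, iff_false, not_true_eq_false, if_false, neg_one_smul] at e01
      simp only [sgn, m2, n3, iff_false, not_true_eq_false, if_false, neg_one_smul] at e23
      have := hQ w
      rw [hU01, hU23, e01, show -w - w = (-2 : k) • w by module, map_smul, e23] at this
      have h' := smul_right_injective V (neg_ne_zero.mpr h2) this
      have : (2 : k) • w = 0 := by rw [two_smul]; nth_rewrite 1 [← h']; abel
      exact hw0 ((smul_eq_zero.mp this).resolve_left h2)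
    have hS1 : S.card ≤ 1 ∨ r / 2 ≤ S.card + 1 := by
      have := hsmall S hS
      omega
    have hsne : S.card ≠ 0 ∧ S.card ≠ r / 2 := by
      constructor
      · intro h0
        rw [Finset.card_eq_zero] at h0
        exact hmem01 (by simp [h0])
      · intro h0
        have : S = Finset.univ := Finset.eq_univ_of_card S (by rw [Fintype.card_fin]; exact h0)
        exact hmem01 (by simp [this])
    obtain ⟨S₁, hS₁, hS₁c⟩ : ∃ S₁, J.IsPW S₁ ∧ S₁.card = 1 := by
      rcases hS1 with h | h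
      · exact ⟨S, hS, by omega⟩
      · refine ⟨Sᶜ, hS.compl J, ?_⟩
        have h1 := Finset.card_le_univ S
        rw [Fintype.card_fin] at h1
        rw [Finset.card_compl, Fintype.card_fin]
        omega
    obtain ⟨w, hw0, hw⟩ := hS₁.of_card J (by omega)
      (S' := ({q 0} : Finset (Fin (r / 2)))) (by simp [hS₁c])
    refine J.natural_three L hr h3 h2 ?_ hw0 (o := q 0) fun l hl => ?_
    · intro a b c d a' b' c' d' qq qq' hdis x
      simp only [Finset.mem_insert, Finset.mem_singleton, forall_eq_or_imp, forall_eq, not_or]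
        at hdis
      have hq8 : Function.Injective (Sum.elim ![pp (q 0) 0, pp (q 0) 1, pp (q 1) 0, pp (q 1) 1]
          ![pp (q 2) 0, pp (q 2) 1, pp (q 3) 0, pp (q 3) 1]) :=
        Function.Injective.sumElim (quad_pp h01).injective (quad_pp h23).injective (by
          intro i j
          fin_cases i <;> fin_cases j <;> simp <;> exact pp_ne (Or.inl (hq _ _ (by decide))))
      obtain ⟨σ, e1, e2⟩ := exists_map_d2_pair (quad_pp h01) (quad_pp h23) qq' hq8
        (Function.Injective.sumElim qq.injective qq'.injective (by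
          obtain ⟨h1, h2, h3', h4⟩ := hdis
          intro i j
          fin_cases i <;> fin_cases j <;> simp <;>
            first
            | exact Ne.symm h1.1 | exact Ne.symm h1.2.1 | exact Ne.symm h1.2.2.1
            | exact Ne.symm h1.2.2.2 | exact Ne.symm h2.1 | exact Ne.symm h2.2.1
            | exact Ne.symm h2.2.2.1 | exact Ne.symm h2.2.2.2 | exact Ne.symm h3'.1
            | exact Ne.symm h3'.2.1 | exact Ne.symm h3'.2.2.1 | exact Ne.symm h3'.2.2.2
            | exact Ne.symm h4.1 | exact Ne.symm h4.2.1 | exact Ne.symm h4.2.2.1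
            | exact Ne.symm h4.2.2.2))
      have c1 := J.conj _ _ _ _ (quad_pp h01) σ _ (ρ.lift_T σ)
      have c2 := J.conj _ _ _ _ (quad_pp h23) σ _ (ρ.lift_T σ)
      rw [e1, ← gp, ← hU01] at c1
      rw [e2, ← gp, ← hU23] at c2
      have h := congrArg (fun y => (ρ.T σ : Module.End k V) y)
        (hQ (((ρ.T σ)⁻¹ : (Module.End k V)ˣ).val x))
      rw [← c1, ← c2]
      simp only [mul_apply_units, map_sub, inv_apply_units, apply_inv_units] at h ⊢
      exact h
    · rw [hw _ _ hl]
      simp [sgn, Ne.symm hl]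
  push Not at hQ
  obtain ⟨w, hw⟩ := hQ
  obtain ⟨S, v, hv, hv0, hS, hμ⟩ := J.exists_pw h2 (by omega)
    (LinearMap.range (((U23 : Module.End k V) - 1) * ((U01 : Module.End k V) - 1))) (by
      intro h
      apply hw
      have := LinearMap.congr_fun (LinearMap.range_eq_bot.mp h) w
      simp only [Module.End.mul_apply, LinearMap.sub_apply, Module.End.one_apply,
        LinearMap.zero_apply] at this
      exact sub_eq_zero.mp this)
    (fun i l hil x hx => by
      obtain ⟨u, rfl⟩ := hx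
      exact ⟨(J.U (gp i l) : Module.End k V) u, by
        simp only [Module.End.mul_apply, LinearMap.sub_apply, Module.End.one_apply, map_sub,
          hU01, hU23, hcomm hil h01, hcomm hil h23]⟩)
  obtain ⟨u, hu⟩ := hv
  set y := (U01 : Module.End k V) u - u with hy
  have hvy : v = (U23 : Module.End k V) y - y := hu.symm
  have hv01 : (U01 : Module.End k V) v = -v := by
    rw [hvy, map_sub, hU01, hU23, hcomm h01 h23, ← hU01,
      show (U01 : Module.End k V) y = -y by rw [hy]; exact hneg_eig (quad_pp h01) u, map_neg]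
    abel
  have hv23 : (U23 : Module.End k V) v = -v := by
    rw [hvy]; exact hneg_eig (quad_pp h23) y
  have hsg : ∀ {i l : Fin (r / 2)}, i ≠ l → (J.U (gp i l) : Module.End k V) v = -v →
      ¬(i ∈ S ↔ l ∈ S) := fun {i l} hil h he => by
    have h1 := hμ i l hil
    rw [h, sgn, if_pos he, ← neg_one_smul k v] at h1
    exact hne1 (smul_left_injective k hv0 h1).symm
  have m01 := hsg h01 hv01
  have m23 := hsg h23 hv23
  have hlo : 2 ≤ S.card := by
    have : ∃ x y, x ∈ S ∧ y ∈ S ∧ x ≠ y := by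
      by_cases a : q 0 ∈ S <;> by_cases b : q 2 ∈ S
      · exact ⟨_, _, a, b, hq 0 2 (by decide)⟩
      · exact ⟨_, q 3, a, by tauto, hq 0 3 (by decide)⟩
      · exact ⟨q 1, _, by tauto, b, hq 1 2 (by decide)⟩
      · exact ⟨q 1, q 3, by tauto, by tauto, hq 1 3 (by decide)⟩
    obtain ⟨x, y, hx, hy, hxy⟩ := this
    exact Finset.one_lt_card.mpr ⟨x, hx, y, hy, hxy⟩
  have hhi : S.card + 2 ≤ r / 2 := by
    have h1 : 2 ≤ Sᶜ.card := by
      have : ∃ x y, x ∉ S ∧ y ∉ S ∧ x ≠ y := by
        by_cases a : q 0 ∈ S <;> by_cases b : q 2 ∈ S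
        · exact ⟨q 1, q 3, by tauto, by tauto, hq 1 3 (by decide)⟩
        · exact ⟨q 1, _, by tauto, b, hq 1 2 (by decide)⟩
        · exact ⟨_, q 3, a, by tauto, hq 0 3 (by decide)⟩
        · exact ⟨_, _, a, b, hq 0 2 (by decide)⟩
      obtain ⟨x, y, hx, hy, hxy⟩ := this
      exact Finset.one_lt_card.mpr ⟨x, by simpa using hx, y, by simpa using hy, hxy⟩
    rw [Finset.card_compl, Fintype.card_fin] at h1
    omega
  by_cases hA : ∃ S', J.IsPW S' ∧ 2 ≤ S'.card ∧ S'.card + 2 ≤ r / 2 ∧ 2 * S'.card ≠ r / 2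
  · obtain ⟨S', h', h'lo, h'hi, h'ne⟩ := hA
    have h1 := J.bound_subsets h2 (by omega) h' h'ne
    have h2' := (two_le_choose_step (r / 2) (by omega) S'.card h'lo h'hi).1
    exact altBound_of_le (n := finrank k V) (by omega) le_rfl
  push Not at hA
  have hhalf := hA S hS hlo hhi
  obtain ⟨hB, hB1⟩ := J.bound_half h2 (by omega) hS hhalf
  rcases Nat.lt_or_ge (r / 2) 8 with hT8 | hT8
  swap
  · have h2' := (two_le_choose_step (r / 2 - 1) (by omega) (S.card - 1) (by omega) (by omega)).2
      (by omega)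
    exact altBound_of_le (n := finrank k V) (by omega) le_rfl
  have hcast : ∀ m : ℕ, r = 3 * m → (r : k) = 0 := fun m hm => by
    rw [hm, Nat.cast_mul, Nat.cast_ofNat, h3, zero_mul]
  by_cases h1w : ∃ S', J.IsPW S' ∧ S'.card = 1
  · have h1 := hB1 h1w
    have hsc : S.card = r / 2 / 2 := by omega
    rw [hsc] at h1
    obtain hc | hc | hc : r = 9 ∨ r = 12 ∨ r = 13 := by omega
    all_goals subst hc
    · norm_num [Nat.choose] at h1
      exact ⟨by omega, fun h0 => absurd (hcast 3 rfl) h0⟩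
    · norm_num [Nat.choose] at h1
      exact altBound_of_le (n := finrank k V) (by omega) le_rfl
    · norm_num [Nat.choose] at h1
      exact altBound_of_le (n := finrank k V) (by omega) le_rfl
  push Not at h1w
  have hcards : ∀ S', J.IsPW S' → S'.card = 0 ∨ S'.card = r / 2 ∨ 2 * S'.card = r / 2 := by
    intro S' h'
    have a1 := h1w S' h'
    have hle := Finset.card_le_univ S'
    rw [Fintype.card_fin] at hle
    have a2 := h1w S'ᶜ (h'.compl J)
    rw [Finset.card_compl, Fintype.card_fin] at a2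
    by_cases h : 2 ≤ S'.card ∧ S'.card + 2 ≤ r / 2
    · exact Or.inr (Or.inr (hA S' h' h.1 h.2))
    · omega
  obtain hc | hc | hc : r = 9 ∨ r = 12 ∨ r = 13 := by omega
  all_goals subst hc
  · -- `r = 9`: the product of four transpositions would be scalar
    exfalso
    set W := U01 * U23 with hW
    have hW1 : W = 1 := by
      apply Units.ext
      rw [← sub_eq_zero, ← LinearMap.range_eq_bot]
      by_contra hne
      obtain ⟨S', v', hv', hv'0, hS', hμ'⟩ := J.exists_pw h2 (by omega)
        (LinearMap.range ((W : Module.End k V) - (1 : (Module.End k V)ˣ).val)) hne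
        (fun i l hil x hx => by
          obtain ⟨u', rfl⟩ := hx
          exact ⟨(J.U (gp i l) : Module.End k V) u', by
            simp only [LinearMap.sub_apply, Units.val_one, Module.End.one_apply, map_sub, hW,
              mul_apply_units, hU01, hU23, hcomm hil h01, hcomm hil h23]⟩)
      have key : ∀ A : Finset (Fin 4), (A.card = 0 ∨ A.card = 4 ∨ 2 * A.card = 4) →
          ((((0 : Fin 4) ∈ A) ↔ (1 : Fin 4) ∈ A) ↔ (((2 : Fin 4) ∈ A) ↔ (3 : Fin 4) ∈ A)) := by
        decide
      have hpar : (q 0 ∈ S' ↔ q 1 ∈ S') ↔ (q 2 ∈ S' ↔ q 3 ∈ S') := key S' (hcards S' hS')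
      obtain ⟨u', hu'⟩ := hv'
      have hWv : (W : Module.End k V) v' = -v' := by
        rw [← hu', LinearMap.sub_apply, Units.val_one, Module.End.one_apply, map_sub,
          ← mul_apply_units, show W * W = 1 by
            rw [hW, hU01, hU23]
            calc _ = J.U (gp (q 0) (q 1)) * (J.U (gp (q 2) (q 3)) * J.U (gp (q 0) (q 1))) *
                  J.U (gp (q 2) (q 3)) := by group
              _ = (J.U (gp (q 0) (q 1)) * J.U (gp (q 0) (q 1))) *
                  (J.U (gp (q 2) (q 3)) * J.U (gp (q 2) (q 3))) := by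
                rw [show J.U (gp (q 2) (q 3)) * J.U (gp (q 0) (q 1)) =
                  J.U (gp (q 0) (q 1)) * J.U (gp (q 2) (q 3)) from
                  (J.comm _ _ _ _ _ _ _ _ (quad_pp h23) (quad_pp h01) (gp_commute h23 h01)).eq]
                group
              _ = 1 := by rw [gp, gp, J.sq _ _ _ _ (quad_pp h01), J.sq _ _ _ _ (quad_pp h23),
                  one_mul],
          Units.val_one, Module.End.one_apply]
        abel
      rw [hW, mul_apply_units, hU23, hμ' _ _ h23, map_smul, hU01, hμ' _ _ h01, smul_smul,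
        ← neg_one_smul k v'] at hWv
      have := smul_left_injective k hv'0 hWv
      simp only [sgn] at this
      have q0 : q 0 = (0 : Fin 4) := rfl
      have q1 : q 1 = (1 : Fin 4) := rfl
      have q2 : q 2 = (2 : Fin 4) := rfl
      have q3 : q 3 = (3 : Fin 4) := rfl
      by_cases h : q 0 ∈ S' ↔ q 1 ∈ S'
      · rw [if_pos h, if_pos (hpar.mp h), mul_one] at this
        exact hne1 this
      · rw [if_neg h, if_neg (fun h' => h (hpar.mpr h'))] at this
        exact hne1 (by linear_combination this)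
    have hl := ρ.lift_mul (J.lift _ _ _ _ (quad_pp h01)) (J.lift _ _ _ _ (quad_pp h23))
    rw [← gp, ← gp, ← hU01, ← hU23, ← hW, hW1, ← map_one (sc (k := k) (V := V))] at hl
    have := congrArg (fun x : Alt 9 => (x : Equiv.Perm (Fin 9)) (pp (q 0) 0)) (ρ.lift_scalar hl)
    revert this
    simp only [alt_mul_apply, alt_one_apply, gp]
    rw [(quad_pp h23).apply_ne (pp_ne (Or.inl (hq 0 2 (by decide))))
      (pp_ne (Or.inl (hq 0 2 (by decide)))) (pp_ne (Or.inl (hq 0 3 (by decide))))
      (pp_ne (Or.inl (hq 0 3 (by decide)))), (quad_pp h01).apply_a]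
    exact fun h => (quad_pp h01).hab h.symm
  · -- `r = 12`
    rw [show S.card = 3 by omega] at hB
    norm_num [Nat.choose] at hB
    exact ⟨by omega, fun h0 => absurd (hcast 4 rfl) h0⟩
  · -- `r = 13`: the centraliser `Alt 9` would have a kernel on the negated space
    exfalso
    let q4 : Fin (13 / 2) := ⟨4, by omega⟩
    let q5 : Fin (13 / 2) := ⟨5, by omega⟩
    have h45 : q4 ≠ q5 := by simp [q4, q5]
    set U45 := J.U (gp q4 q5) with hU45
    set E := LinearMap.range ((U01 : Module.End k V) - 1) with hE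
    set W := U23 * U45 with hW
    have hWinv : ∀ {x}, x ∈ E → (W : Module.End k V) x = x := by
      intro x hx
      by_contra hne
      obtain ⟨S', v', hv', hv'0, hS', hμ'⟩ := J.exists_pw h2 (by omega)
        (E.map ((W : Module.End k V) - 1)) (by
          rw [Submodule.ne_bot_iff]
          exact ⟨(W : Module.End k V) x - x, ⟨x, hx, rfl⟩, sub_ne_zero.mpr hne⟩)
        (fun i l hil y' hy' => by
          obtain ⟨z, hz, rfl⟩ := hy'
          obtain ⟨z', rfl⟩ := hz
          refine ⟨((U01 : Module.End k V) - 1) ((J.U (gp i l) : Module.End k V) z'), ⟨_, rfl⟩, ?_⟩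
          simp only [LinearMap.sub_apply, Module.End.one_apply, map_sub, hW, mul_apply_units,
            hU01, hU23, hU45, hcomm hil h01, hcomm hil h23, hcomm hil h45])
      obtain ⟨z, hz, hzv⟩ := hv'
      obtain ⟨z', hz'⟩ := hz
      have hWW : W * W = 1 := by
        have hc := J.comm _ _ _ _ _ _ _ _ (quad_pp h23) (quad_pp h45) (gp_commute h23 h45)
        rw [← gp, ← gp, ← hU23, ← hU45] at hc
        calc W * W = U23 * (U45 * U23) * U45 := by rw [hW]; group
          _ = (U23 * U23) * (U45 * U45) := by rw [← hc.eq]; group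
          _ = 1 := by
              rw [hU23, hU45, gp, gp, J.sq _ _ _ _ (quad_pp h23), J.sq _ _ _ _ (quad_pp h45),
                one_mul]
      have hWv : (W : Module.End k V) v' = -v' := by
        rw [← hzv, LinearMap.sub_apply, Module.End.one_apply, map_sub, ← mul_apply_units, hWW,
          Units.val_one, Module.End.one_apply]
        abel
      have h01v : (U01 : Module.End k V) v' = -v' := by
        have hzn : (U01 : Module.End k V) z = -z := by
          rw [← hz']; exact hneg_eig (quad_pp h01) z'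
        rw [← hzv, LinearMap.sub_apply, Module.End.one_apply, map_sub, hW, mul_apply_units,
          hU01, hU23, hU45, hcomm h01 h23, hcomm h01 h45, ← hU01, hzn, map_neg, map_neg]
        abel
      rw [hW, mul_apply_units, hU45, hμ' _ _ h45, map_smul, hU23, hμ' _ _ h23, smul_smul,
        ← neg_one_smul k v'] at hWv
      have hs := smul_left_injective k hv'0 hWv
      rw [hU01, hμ' _ _ h01, ← neg_one_smul k v'] at h01v
      have hs01 := smul_left_injective k hv'0 h01v
      simp only [sgn] at hs hs01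
      have hn01 : ¬(q 0 ∈ S' ↔ q 1 ∈ S') := fun h => hne1 (by rw [if_pos h] at hs01; exact hs01)
      have key : ∀ A : Finset (Fin 6), (A.card = 0 ∨ A.card = 6 ∨ 2 * A.card = 6) →
          ¬(((0 : Fin 6) ∈ A) ↔ (1 : Fin 6) ∈ A) →
          ((((4 : Fin 6) ∈ A) ↔ (5 : Fin 6) ∈ A) ↔ (((2 : Fin 6) ∈ A) ↔ (3 : Fin 6) ∈ A)) := by
        decide
      have hpar : (q4 ∈ S' ↔ q5 ∈ S') ↔ (q 2 ∈ S' ↔ q 3 ∈ S') := key S' (hcards S' hS') hn01
      by_cases h : q4 ∈ S' ↔ q5 ∈ S'
      · rw [if_pos h, if_pos (hpar.mp h), mul_one] at hs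
        exact hne1 hs
      · rw [if_neg h, if_neg (fun h' => h (hpar.mpr h'))] at hs
        exact hne1 (by linear_combination hs)
    set S9 : Finset (Fin 13) :=
      ({pp (q 0) 0, pp (q 0) 1, pp (q 1) 0, pp (q 1) 1} : Finset (Fin 13))ᶜ with hS9
    have hEinv : ∀ σ ∈ suppIn S9, ∀ X, ρ.IsLift σ X → ∀ x ∈ E, (X : Module.End k V) x ∈ E := by
      intro σ hσ X hX x hx
      obtain ⟨z, rfl⟩ := hx
      refine ⟨(X : Module.End k V) z, ?_⟩
      have hc := J.conj _ _ _ _ (quad_pp h01) σ X hX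
      have he : σ * gp (q 0) (q 1) * σ⁻¹ = gp (q 0) (q 1) := by
        rw [gp, d2_conj σ (quad_pp h01).hab (quad_pp h01).hcd, hσ _ (by simp [hS9]),
          hσ _ (by simp [hS9]), hσ _ (by simp [hS9]), hσ _ (by simp [hS9])]
      rw [← gp, he, ← hU01] at hc
      simp only [LinearMap.sub_apply, Module.End.one_apply, map_sub]
      congr 1
      conv_lhs => rw [← hc, mul_apply_units, mul_apply_units, inv_apply_units]
    have hvE : v ∈ E := by
      refine ⟨-((2 : k)⁻¹ • v), ?_⟩
      rw [LinearMap.sub_apply, Module.End.one_apply, map_neg, map_smul, hv01, smul_neg, neg_neg,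
        sub_neg_eq_add, ← add_smul, ← two_mul, mul_inv_cancel₀ h2, one_smul]
    let K : Subgroup (Alt 13) :=
      { carrier := {σ | σ ∈ suppIn S9 ∧ ∀ X, ρ.IsLift σ X →
          ∃ t : k, t ≠ 0 ∧ ∀ x ∈ E, (X : Module.End k V) x = t • x}
        one_mem' := ⟨one_mem _, fun X hX => by
          obtain ⟨c, rfl⟩ := ρ.lift_unique ρ.lift_one hX
          exact ⟨c, c.ne_zero, fun x _ => by rw [mul_one, sc_apply]⟩⟩
        mul_mem' := fun {a b} ha hb => ⟨mul_mem ha.1 hb.1, fun X hX => by
          obtain ⟨c, rfl⟩ := ρ.lift_unique (ρ.lift_mul (ρ.lift_T a) (ρ.lift_T b)) hX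
          obtain ⟨s, hs0, hs⟩ := ha.2 _ (ρ.lift_T a)
          obtain ⟨t, ht0, ht⟩ := hb.2 _ (ρ.lift_T b)
          exact ⟨c * (t * s), mul_ne_zero c.ne_zero (mul_ne_zero ht0 hs0), fun x hx => by
            rw [mul_apply_units, mul_apply_units, sc_apply, ht x hx, map_smul, hs x hx, smul_smul,
              smul_smul, mul_assoc]⟩⟩
        inv_mem' := fun {a} ha => ⟨inv_mem ha.1, fun X hX => by
          have h1 := ρ.lift_inv hX
          rw [inv_inv] at h1
          obtain ⟨t, ht0, ht⟩ := ha.2 _ h1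
          refine ⟨t⁻¹, inv_ne_zero ht0, fun x hx => ?_⟩
          have := congrArg (fun y' => (X : Module.End k V) y') (ht x hx)
          simp only [apply_inv_units, map_smul] at this
          nth_rewrite 2 [this]
          rw [smul_smul, inv_mul_cancel₀ ht0, one_smul]⟩ }
    have hnorm : ∀ {g σ}, g ∈ suppIn S9 → σ ∈ K → g * σ * g⁻¹ ∈ K := by
      intro g σ hg hσ
      refine ⟨mul_mem (mul_mem hg hσ.1) (inv_mem hg), fun X hX => ?_⟩
      obtain ⟨c, rfl⟩ := ρ.lift_unique (ρ.lift_conj (ρ.lift_T g) (ρ.lift_T σ)) hX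
      obtain ⟨t, ht0, ht⟩ := hσ.2 _ (ρ.lift_T σ)
      refine ⟨c * t, mul_ne_zero c.ne_zero ht0, fun x hx => ?_⟩
      rw [mul_apply_units, mul_apply_units, mul_apply_units, sc_apply,
        ht _ (hEinv _ (inv_mem hg) _ (ρ.lift_inv (ρ.lift_T g)) x hx), map_smul, apply_inv_units,
        smul_smul]
    have hmem9 : ∀ i : Fin (13 / 2), i ≠ q 0 → i ≠ q 1 → ∀ j, pp i j ∈ S9 := fun i h0 h1 j => by
      simp [hS9, pp_ne (Or.inl h0), pp_ne (Or.inl h1)]
    have hg23 : gp (q 2) (q 3) ∈ suppIn S9 := d2_mem_suppIn (quad_pp h23).hab (quad_pp h23).hcd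
      (hmem9 _ (hq 2 0 (by decide)) (hq 2 1 (by decide)) _)
      (hmem9 _ (hq 2 0 (by decide)) (hq 2 1 (by decide)) _)
      (hmem9 _ (hq 3 0 (by decide)) (hq 3 1 (by decide)) _)
      (hmem9 _ (hq 3 0 (by decide)) (hq 3 1 (by decide)) _)
    have hg45 : gp q4 q5 ∈ suppIn S9 := d2_mem_suppIn (quad_pp h45).hab (quad_pp h45).hcd
      (hmem9 _ (by simp [q4, q]) (by simp [q4, q]) _) (hmem9 _ (by simp [q4, q]) (by simp [q4, q]) _)
      (hmem9 _ (by simp [q5, q]) (by simp [q5, q]) _) (hmem9 _ (by simp [q5, q]) (by simp [q5, q]) _)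
    have hWK : gp (q 2) (q 3) * gp q4 q5 ∈ K := by
      refine ⟨mul_mem hg23 hg45, fun X hX => ?_⟩
      obtain ⟨c, rfl⟩ := ρ.lift_unique (ρ.lift_mul (J.lift _ _ _ _ (quad_pp h23))
        (J.lift _ _ _ _ (quad_pp h45))) hX
      refine ⟨c, c.ne_zero, fun x hx => ?_⟩
      have hWx := hWinv hx
      rw [hW, hU23, hU45, gp, gp] at hWx
      rw [mul_apply_units, sc_apply, hWx]
    -- a 3-cycle in the kernel
    set a₁ := pp (q 2) 0
    set b₁ := pp (q 2) 1
    let z₁ : Fin 13 := ⟨12, by omega⟩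
    have hab₁ : a₁ ≠ b₁ := pp_ne (Or.inr (by decide))
    have haz₁ : a₁ ≠ z₁ := by simp [a₁, pp, q, z₁, Fin.ext_iff]
    have hbz₁ : b₁ ≠ z₁ := by simp [b₁, pp, q, z₁, Fin.ext_iff]
    set c := c3 a₁ b₁ z₁
    set w2 := gp (q 2) (q 3) * gp q4 q5 with hw2
    have wa : (w2 : Equiv.Perm (Fin 13)) a₁ = b₁ := by
      rw [hw2, alt_mul_apply, gp, gp, (quad_pp h45).apply_ne (pp_ne (Or.inl (by simp [q4, q])))
        (pp_ne (Or.inl (by simp [q4, q]))) (pp_ne (Or.inl (by simp [q5, q])))
        (pp_ne (Or.inl (by simp [q5, q]))), (quad_pp h23).apply_a]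
    have wb : (w2 : Equiv.Perm (Fin 13)) b₁ = a₁ := by
      rw [hw2, alt_mul_apply, gp, gp, (quad_pp h45).apply_ne (pp_ne (Or.inl (by simp [q4, q])))
        (pp_ne (Or.inl (by simp [q4, q]))) (pp_ne (Or.inl (by simp [q5, q])))
        (pp_ne (Or.inl (by simp [q5, q]))), (quad_pp h23).apply_b]
    have wz : (w2 : Equiv.Perm (Fin 13)) z₁ = z₁ := by
      rw [hw2, alt_mul_apply, gp, gp,
        (quad_pp h45).apply_ne (by simp [pp, q4, z₁, Fin.ext_iff]) (by simp [pp, q4, z₁, Fin.ext_iff])
          (by simp [pp, q5, z₁, Fin.ext_iff]) (by simp [pp, q5, z₁, Fin.ext_iff]),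
        (quad_pp h23).apply_ne (by simp [pp, q, z₁, Fin.ext_iff]) (by simp [pp, q, z₁, Fin.ext_iff])
          (by simp [pp, q, z₁, Fin.ext_iff]) (by simp [pp, q, z₁, Fin.ext_iff])]
    have ha₁ : a₁ ∈ S9 := hmem9 _ (hq 2 0 (by decide)) (hq 2 1 (by decide)) _
    have hb₁ : b₁ ∈ S9 := hmem9 _ (hq 2 0 (by decide)) (hq 2 1 (by decide)) _
    have hz₁ : z₁ ∈ S9 := by simp [hS9, pp, q, z₁, Fin.ext_iff]
    have hcS : c ∈ suppIn S9 := c3_mem_suppIn hab₁ hbz₁ ha₁ hb₁ hz₁
    have hcc : w2 * c⁻¹ * w2⁻¹ = c := by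
      rw [show w2 * c⁻¹ * w2⁻¹ = (w2 * c * w2⁻¹)⁻¹ by group, c3_conj w2 hab₁ hbz₁, wa, wb, wz,
        c3_inv hab₁.symm hbz₁ haz₁, c3_rot hab₁ haz₁ hbz₁]
    have hc2 : c * c ∈ K := by
      have h1 := mul_mem (hnorm hcS hWK) (inv_mem hWK)
      rwa [show c * w2 * c⁻¹ * w2⁻¹ = c * (w2 * c⁻¹ * w2⁻¹) by group, hcc] at h1
    have hstar : ∀ x ∈ S9, x ≠ a₁ → x ≠ b₁ → c3 a₁ b₁ x ∈ K := by
      intro x hx hxa hxb
      have hc4 : c * c * (c * c) = c := by
        have h3' : c * c * c = 1 := by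
          apply alt_ext
          intro t
          simp only [alt_mul_apply, alt_one_apply]
          by_cases ta : t = a₁
          · subst ta
            rw [c3_apply_a hab₁ haz₁ hbz₁, c3_apply_b hab₁ haz₁ hbz₁, c3_apply_c hab₁ haz₁ hbz₁]
          by_cases tb : t = b₁
          · subst tb
            rw [c3_apply_b hab₁ haz₁ hbz₁, c3_apply_c hab₁ haz₁ hbz₁, c3_apply_a hab₁ haz₁ hbz₁]
          by_cases tz : t = z₁
          · subst tz
            rw [c3_apply_c hab₁ haz₁ hbz₁, c3_apply_a hab₁ haz₁ hbz₁, c3_apply_b hab₁ haz₁ hbz₁]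
          rw [c3_apply_ne hab₁ hbz₁ ta tb tz, c3_apply_ne hab₁ hbz₁ ta tb tz,
            c3_apply_ne hab₁ hbz₁ ta tb tz]
        calc c * c * (c * c) = c * c * c * c := by group
          _ = c := by rw [h3', one_mul]
      have hcK : c ∈ K := hc4 ▸ mul_mem hc2 hc2
      obtain ⟨τ, hτ, hτv⟩ := exists_alt_map_fix (S9ᶜ ∪ {a₁, b₁}) ![z₁] ![x]
        (fun i j _ => Subsingleton.elim i j) (fun i j _ => Subsingleton.elim i j)
        (by intro i; fin_cases i; simp [hz₁, haz₁.symm, hbz₁.symm])
        (by intro i; fin_cases i; simp [hx, hxa, hxb])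
        (by
          have e1 := Finset.card_union_le S9ᶜ ({a₁, b₁} : Finset (Fin 13))
          have e2 : ({a₁, b₁} : Finset (Fin 13)).card ≤ 2 := Finset.card_le_two
          have e3 : (S9ᶜ).card ≤ 4 := by rw [hS9, compl_compl]; exact Finset.card_le_four
          omega)
      have hτ9 : τ ∈ suppIn S9 := suppIn_mono (fun t ht => by
        simp only [Finset.mem_compl, Finset.mem_union, not_or] at ht
        simpa using ht.1) hτ
      have := hnorm hτ9 hcK
      rwa [c3_conj τ hab₁ hbz₁, hτ a₁ (by simp), hτ b₁ (by simp),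
        show (τ : Equiv.Perm (Fin 13)) z₁ = x from hτv 0] at this
    have h23K : gp (q 2) (q 3) ∈ K := suppIn_le_of_c3 S9 K (fun a b c' ha hb hc' hab hac hbc =>
      c3_mem_of_star K hab₁ hstar ha hb hc' hab hac hbc) hg23
    obtain ⟨t, -, ht⟩ := h23K.2 _ (J.lift _ _ _ _ (quad_pp h23))
    have htm : t = -1 := by
      have h1 := ht v hvE
      rw [← gp, ← hU23, hv23, ← neg_one_smul k v] at h1
      exact (smul_left_injective k hv0 h1).symm
    -- a vector of `E` fixed by `U23`
    let A : Finset (Fin (13 / 2)) := {q 0, q 2, q 3}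
    have hAc : A.card = S.card := by
      rw [show S.card = 3 by omega]
      rw [Finset.card_insert_of_notMem (by simp [hq]), Finset.card_pair (hq 2 3 (by decide))]
    obtain ⟨w', hw'0, hw'⟩ := hS.of_card J (by omega) hAc
    have e01 := hw' _ _ h01
    have e23 := hw' _ _ h23
    have nA : q 1 ∉ A := by simp [A, hq]
    simp only [sgn, show q 0 ∈ A by simp [A], nA, iff_false, not_true_eq_false, if_false,
      neg_one_smul] at e01
    simp only [sgn, show q 2 ∈ A by simp [A], show q 3 ∈ A by simp [A], if_true, one_smul] at e23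
    have hw'E : w' ∈ E := by
      refine ⟨-((2 : k)⁻¹ • w'), ?_⟩
      rw [LinearMap.sub_apply, Module.End.one_apply, map_neg, map_smul, hU01, e01, smul_neg,
        neg_neg, sub_neg_eq_add, ← add_smul, ← two_mul, mul_inv_cancel₀ h2, one_smul]
    have h1 := ht w' hw'E
    rw [← gp, e23, htm] at h1
    exact hne1 (smul_left_injective k hw'0 (by simpa using h1))

end InvLift

end Cfsg.Agent.AltDeg
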