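import Cfsg.Agent.Lib.AltDeg.Proj

set_option autoImplicit false

/-!
# Recognising the natural module from a vector fixed by the alternating group of `r - 2` points
-/

namespace Cfsg.Agent.AltDeg

open Module

universe u v

variable {r : ℕ} {k : Type u} [Field k] {V : Type v} [AddCommGroup V] [Module k V]

/-- An equivariant choice of lifts of order three of the 3-cycles. -/
structure CycLift (ρ : PRep r k V) where
  ξ : Fin r → Fin r → Fin r → (Module.End k V)ˣ
  lift : ∀ a b c, a ≠ b → a ≠ c → b ≠ c → ρ.IsLift (c3 a b c) (ξ a b c)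
  rot : ∀ a b c, a ≠ b → a ≠ c → b ≠ c → ξ b c a = ξ a b c
  inv : ∀ a b c, a ≠ b → a ≠ c → b ≠ c → ξ a c b = (ξ a b c)⁻¹
  cube : ∀ a b c, a ≠ b → a ≠ c → b ≠ c → ξ a b c ^ 3 = 1
  conj : ∀ a b c, a ≠ b → a ≠ c → b ≠ c → ∀ τ Y, ρ.IsLift τ Y →
    Y * ξ a b c * Y⁻¹ = ξ ((τ : Equiv.Perm (Fin r)) a) ((τ : Equiv.Perm (Fin r)) b)
      ((τ : Equiv.Perm (Fin r)) c)

namespace CycLift

variable {ρ : PRep r k V} (L : CycLift ρ)

/-- `v` is fixed by the lifts of all 3-cycles avoiding the set `S`. -/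
def FixedOff (S : Finset (Fin r)) (v : V) : Prop :=
  ∀ x y z, x ∉ S → y ∉ S → z ∉ S → x ≠ y → x ≠ z → y ≠ z →
    (L.ξ x y z : Module.End k V) v = v

/-- The lift of `σ` normalised on the vector `u`. -/
def Adm (u : Finset (Fin r) → V) (T : Finset (Fin r)) (σ : Alt r) (Y : (Module.End k V)ˣ) : Prop :=
  ρ.IsLift σ Y ∧ (Y : Module.End k V) (u T) = u T

variable {L} {u : Finset (Fin r) → V}

lemma Adm.mul {T : Finset (Fin r)} {σ τ : Alt r} {X Y : (Module.End k V)ˣ}
    (hX : Adm (ρ := ρ) u T σ X) (hY : Adm (ρ := ρ) u T τ Y) :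
    Adm (ρ := ρ) u T (σ * τ) (X * Y) :=
  ⟨ρ.lift_mul hX.1 hY.1, by rw [mul_apply_units, hY.2, hX.2]⟩

lemma Adm.inv {T : Finset (Fin r)} {σ : Alt r} {X : (Module.End k V)ˣ}
    (hX : Adm (ρ := ρ) u T σ X) : Adm (ρ := ρ) u T σ⁻¹ X⁻¹ :=
  ⟨ρ.lift_inv hX.1, by conv_lhs => rw [← hX.2, inv_apply_units]⟩

lemma Adm.unique {T : Finset (Fin r)} (hu : u T ≠ 0) {σ : Alt r} {X Y : (Module.End k V)ˣ}
    (hX : Adm (ρ := ρ) u T σ X) (hY : Adm (ρ := ρ) u T σ Y) : X = Y := by
  obtain ⟨c, rfl⟩ := ρ.lift_unique hX.1 hY.1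
  have h := hY.2
  rw [mul_apply_units, hX.2, sc_apply] at h
  have hc : c = 1 := Units.ext (smul_left_injective k hu (by simpa using h))
  rw [hc, map_one, one_mul]

variable (L)

lemma adm_xi {T : Finset (Fin r)} (hu : L.FixedOff T (u T)) {a b c : Fin r} (ha : a ∉ T)
    (hb : b ∉ T) (hc : c ∉ T) (hab : a ≠ b) (hac : a ≠ c) (hbc : b ≠ c) :
    Adm (ρ := ρ) u T (c3 a b c) (L.ξ a b c) :=
  ⟨L.lift a b c hab hac hbc, hu a b c ha hb hc hab hac hbc⟩

lemma adm_one (L : CycLift ρ) (T : Finset (Fin r)) : Adm (ρ := ρ) u T 1 1 :=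
  ⟨ρ.lift_one, rfl⟩

/-- Lifts normalised on two triples agree off both and fix what the 3-cycles there fix. -/
lemma exists_adm {T T' S : Finset (Fin r)} (hu : L.FixedOff T (u T)) (hu' : L.FixedOff T' (u T'))
    (hT : T ⊆ S) (hT' : T' ⊆ S) {σ : Alt r} (hσ : σ ∈ suppIn Sᶜ) :
    ∃ Y, Adm (ρ := ρ) u T σ Y ∧ Adm (ρ := ρ) u T' σ Y ∧
      ∀ v, L.FixedOff S v → (Y : Module.End k V) v = v := by
  let K : Subgroup (Alt r) :=
    { carrier := {σ | ∃ Y, Adm (ρ := ρ) u T σ Y ∧ Adm (ρ := ρ) u T' σ Y ∧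
        ∀ v, L.FixedOff S v → (Y : Module.End k V) v = v}
      one_mem' := ⟨1, L.adm_one T, L.adm_one T', fun v _ => rfl⟩
      mul_mem' := by
        rintro a b ⟨X, hX, hX', hXv⟩ ⟨Y, hY, hY', hYv⟩
        exact ⟨X * Y, hX.mul hY, hX'.mul hY', fun v hv => by
          rw [mul_apply_units, hYv v hv, hXv v hv]⟩
      inv_mem' := by
        rintro a ⟨X, hX, hX', hXv⟩
        exact ⟨X⁻¹, hX.inv, hX'.inv, fun v hv => by
          conv_lhs => rw [← hXv v hv, inv_apply_units]⟩ }
  refine suppIn_le_of_c3 Sᶜ K (fun a b c ha hb hc hab hac hbc => ?_) hσ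
  rw [Finset.mem_compl] at ha hb hc
  exact ⟨L.ξ a b c, L.adm_xi hu (fun h => ha (hT h)) (fun h => hb (hT h)) (fun h => hc (hT h))
    hab hac hbc, L.adm_xi hu' (fun h => ha (hT' h)) (fun h => hb (hT' h)) (fun h => hc (hT' h))
    hab hac hbc, fun v hv => hv a b c ha hb hc hab hac hbc⟩

end CycLift

/-- An element fixing `U` pointwise with prescribed images of a short tuple. -/
theorem exists_alt_map_fix {m : ℕ} (U : Finset (Fin r)) (f g : Fin m → Fin r)
    (hf : Function.Injective f) (hg : Function.Injective g) (hfU : ∀ i, f i ∉ U)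
    (hgU : ∀ i, g i ∉ U) (hcard : m + U.card + 2 ≤ r) :
    ∃ σ ∈ suppIn Uᶜ, ∀ i, ((σ : Alt r) : Equiv.Perm (Fin r)) (f i) = g i := by
  obtain ⟨σ, hσ⟩ := exists_alt_map (ι := Fin m ⊕ {x // x ∈ U}) (Sum.elim f (fun x => x.1))
    (Sum.elim g (fun x => x.1))
    (hf.sumElim Subtype.val_injective (fun i x h => hfU i (h ▸ x.2)))
    (hg.sumElim Subtype.val_injective (fun i x h => hgU i (h ▸ x.2)))
    (by simpa using hcard)
  refine ⟨σ, fun x hx => ?_, fun i => hσ (Sum.inl i)⟩
  rw [Finset.mem_compl, not_not] at hx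
  exact hσ (Sum.inr ⟨x, hx⟩)

lemma injective_pair {α : Type*} {a b : α} (h : a ≠ b) : Function.Injective ![a, b] := by
  intro i j
  fin_cases i <;> fin_cases j <;> simp [h, h.symm]

lemma injective_triple {α : Type*} {a b c : α} (hab : a ≠ b) (hac : a ≠ c) (hbc : b ≠ c) :
    Function.Injective ![a, b, c] := by
  intro i j
  fin_cases i <;> fin_cases j <;> simp [hab, hab.symm, hac, hac.symm, hbc, hbc.symm]

lemma exists_triple_avoid (S : Finset (Fin r)) (h : S.card + 3 ≤ r) :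
    ∃ T : Finset (Fin r), T.card = 3 ∧ ∀ x ∈ T, x ∉ S := by
  obtain ⟨T, hT, hT3⟩ := Finset.exists_subset_card_eq
    (show 3 ≤ Sᶜ.card by rw [Finset.card_compl, Fintype.card_fin]; omega)
  exact ⟨T, hT3, fun x hx => Finset.mem_compl.mp (hT hx)⟩

lemma exists_ne_of_card (S : Finset (Fin r)) (h : S.card < r) : ∃ x : Fin r, x ∉ S := by
  obtain ⟨x, hx⟩ : ∃ x, x ∈ Sᶜ := Finset.card_pos.mp (by
    rw [Finset.card_compl, Fintype.card_fin]; omega)
  exact ⟨x, Finset.mem_compl.mp hx⟩

namespace CycLift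

variable [FiniteDimensional k V] {ρ : PRep r k V} (L : CycLift ρ)

/-- A vector spanning a line stable under a star of 3-cycles is zero. -/
theorem eq_zero_of_star {a₀ b₀ : Fin r} (hab₀ : a₀ ≠ b₀) (hr : 5 ≤ r) {v : V}
    (h : ∀ e, e ≠ a₀ → e ≠ b₀ →
      (L.ξ a₀ b₀ e : Module.End k V) v ∈ Submodule.span k {v}) : v = 0 := by
  by_contra hv
  set W := Submodule.span k ({v} : Set V) with hW
  let K : Subgroup (Alt r) :=
    { carrier := {σ | ∀ X, ρ.IsLift σ X → W.map (X : Module.End k V) = W}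
      one_mem' := fun X hX => by
        obtain ⟨c, rfl⟩ := ρ.lift_unique ρ.lift_one hX
        rw [mul_one, sc_val]
        rw [Submodule.map_smul _ _ _ c.ne_zero, Module.End.one_eq_id, Submodule.map_id]
      mul_mem' := fun {a b} ha hb X hX => by
        obtain ⟨c, rfl⟩ := ρ.lift_unique (ρ.lift_mul (ρ.lift_T a) (ρ.lift_T b)) hX
        rw [Units.val_mul, Units.val_mul, sc_val, smul_mul_assoc, one_mul,
          Submodule.map_smul _ _ _ c.ne_zero, Module.End.mul_eq_comp, Submodule.map_comp,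
          hb _ (ρ.lift_T b), ha _ (ρ.lift_T a)]
      inv_mem' := fun {a} ha X hX => by
        have h1 := ρ.lift_inv hX
        rw [inv_inv] at h1
        conv_lhs => rw [← ha _ h1]
        rw [← Submodule.map_comp, ← Module.End.mul_eq_comp, ← Units.val_mul, mul_inv_cancel,
          Units.val_one, Module.End.one_eq_id, Submodule.map_id] }
  have hstar : ∀ e, e ≠ a₀ → e ≠ b₀ → c3 a₀ b₀ e ∈ K := by
    intro e hea heb X hX
    obtain ⟨c, rfl⟩ := ρ.lift_unique (L.lift a₀ b₀ e hab₀ (Ne.symm hea) (Ne.symm heb)) hX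
    apply Submodule.eq_of_le_of_finrank_eq
    · rintro x ⟨y, hy, rfl⟩
      rw [mul_apply_units, sc_apply]
      refine W.smul_mem _ ?_
      obtain ⟨d, rfl⟩ := Submodule.mem_span_singleton.mp hy
      rw [map_smul]
      exact W.smul_mem d (h e hea heb)
    · exact LinearEquiv.finrank_map_eq
        (LinearMap.GeneralLinearGroup.toLinearEquiv (sc c * L.ξ a₀ b₀ e)) W
  have hall : ∀ g, ∀ w ∈ W, (ρ.T g : Module.End k V) w ∈ W := by
    intro g w hw
    have hg : g ∈ K := suppIn_le_of_c3 Finset.univ K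
      (fun a b c ha hb hc hab hac hbc => c3_mem_of_star K hab₀ (fun x _ hxa hxb => hstar x hxa hxb)
        ha hb hc hab hac hbc) (by rw [suppIn_univ]; exact Subgroup.mem_top g)
    rw [← hg _ (ρ.lift_T g)]
    exact ⟨w, hw, rfl⟩
  rcases ρ.irred W hall with h0 | h1
  · exact hv (Submodule.span_singleton_eq_bot.mp h0)
  · obtain ⟨a, ha⟩ := exists_ne_of_card ({a₀, b₀} : Finset (Fin r))
      (lt_of_le_of_lt Finset.card_le_two (by omega))
    simp only [Finset.mem_insert, Finset.mem_singleton, not_or] at ha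
    set g := c3 a₀ b₀ a
    obtain ⟨c, hc⟩ := Submodule.mem_span_singleton.mp
      (hall g v (Submodule.mem_span_singleton_self v))
    have hc0 : c ≠ 0 := by
      intro h0
      rw [h0, zero_smul] at hc
      exact hv (by rw [← inv_apply_units (ρ.T g) v, ← hc, map_zero])
    refine ρ.nonscalar g (c3_ne_one hab₀ (Ne.symm ha.1) (Ne.symm ha.2)) (Units.mk0 c hc0) ?_
    refine Units.ext (LinearMap.ext fun x => ?_)
    obtain ⟨d, rfl⟩ := Submodule.mem_span_singleton.mp (h1 ▸ Submodule.mem_top : x ∈ W)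
    rw [sc_apply, map_smul, ← hc, Units.val_mk0, smul_comm]

/-- The natural module: a non-zero vector fixed off two points, with the triangle relation. -/
theorem natural_bound (hr : 9 ≤ r)
    (hex : ∀ T : Finset (Fin r), T.card = 3 → ∃ w, w ≠ 0 ∧ L.FixedOff T w)
    {a₀ b₀ : Fin r} (hab₀ : a₀ ≠ b₀) {z : V} (hz : z ≠ 0) (hzfix : L.FixedOff {a₀, b₀} z)
    (htri : ∀ e, e ≠ a₀ → e ≠ b₀ → z + (L.ξ a₀ b₀ e : Module.End k V) z +
      (L.ξ a₀ b₀ e : Module.End k V) ((L.ξ a₀ b₀ e : Module.End k V) z) = 0) :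
    r - 2 ≤ finrank k V ∧ ((r : k) ≠ 0 → r - 1 ≤ finrank k V) := by
  classical
  choose u hu0 hufix using hex
  let u' : Finset (Fin r) → V := fun T => if h : T.card = 3 then u T h else 0
  have hu'0 : ∀ T, T.card = 3 → u' T ≠ 0 := fun T h => by simp only [u', dif_pos h]; exact hu0 T h
  have hu'f : ∀ T, T.card = 3 → L.FixedOff T (u' T) := fun T h => by
    simp only [u', dif_pos h]; exact hufix T h
  let Rel : Fin r → Fin r → V → Prop := fun a b y =>
    ∃ T : Finset (Fin r), T.card = 3 ∧ a₀ ∉ T ∧ b₀ ∉ T ∧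
      ∃ σ ∈ suppIn Tᶜ, ((σ : Alt r) : Equiv.Perm (Fin r)) a₀ = a ∧
        ((σ : Alt r) : Equiv.Perm (Fin r)) b₀ = b ∧
        ∃ Y, Adm (ρ := ρ) u' T σ Y ∧ y = (Y : Module.End k V) z
  have hfixT : ∀ {T : Finset (Fin r)}, T.card = 3 → a₀ ∉ T → b₀ ∉ T → ∀ {σ σ' : Alt r},
      σ ∈ suppIn Tᶜ → σ' ∈ suppIn Tᶜ →
      (σ : Equiv.Perm (Fin r)) a₀ = (σ' : Equiv.Perm (Fin r)) a₀ →
      (σ : Equiv.Perm (Fin r)) b₀ = (σ' : Equiv.Perm (Fin r)) b₀ →
      ∀ {Y Y'}, Adm (ρ := ρ) u' T σ Y → Adm (ρ := ρ) u' T σ' Y' →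
      (Y : Module.End k V) z = (Y' : Module.End k V) z := by
    intro T hT ha hb σ σ' hσ hσ' h1 h2 Y Y' hY hY'
    have hmem : σ⁻¹ * σ' ∈ suppIn (T ∪ {a₀, b₀})ᶜ := by
      intro x hx
      simp only [Finset.mem_compl, Finset.mem_union, Finset.mem_insert, Finset.mem_singleton,
        not_not] at hx
      rw [alt_mul_apply]
      apply alt_inv_apply_of_eq
      rcases hx with hx | rfl | rfl
      · rw [hσ x (by simpa using hx), hσ' x (by simpa using hx)]
      · exact h1
      · exact h2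
    obtain ⟨Z, hZ, -, hZv⟩ := L.exists_adm (hu'f T hT) (hu'f T hT) Finset.subset_union_left
      Finset.subset_union_left hmem
    have hu := Adm.unique (hu'0 T hT) (hY.inv.mul hY') hZ
    have hz' : (Z : Module.End k V) z = z := hZv z (fun x y w hx hy hw => hzfix x y w
      (fun h => hx (Finset.mem_union_right _ h)) (fun h => hy (Finset.mem_union_right _ h))
      (fun h => hw (Finset.mem_union_right _ h)))
    rw [← hu, mul_apply_units] at hz'
    conv_lhs => rw [← hz', apply_inv_units]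
  have hconn : ∀ {T T' : Finset (Fin r)}, T.card = 3 → T'.card = 3 → (T ∪ T').card ≤ 5 →
      a₀ ∉ T → b₀ ∉ T → a₀ ∉ T' → b₀ ∉ T' → ∀ {σ σ' : Alt r},
      σ ∈ suppIn Tᶜ → σ' ∈ suppIn T'ᶜ →
      (σ : Equiv.Perm (Fin r)) a₀ = (σ' : Equiv.Perm (Fin r)) a₀ →
      (σ : Equiv.Perm (Fin r)) b₀ = (σ' : Equiv.Perm (Fin r)) b₀ →
      ∀ {Y Y'}, Adm (ρ := ρ) u' T σ Y → Adm (ρ := ρ) u' T' σ' Y' →
      (Y : Module.End k V) z = (Y' : Module.End k V) z := by
    intro T T' hT hT' h5 ha hb ha' hb' σ σ' hσ hσ' h1 h2 Y Y' hY hY'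
    have hσab : (σ : Equiv.Perm (Fin r)) a₀ ≠ (σ : Equiv.Perm (Fin r)) b₀ :=
      fun h => hab₀ ((σ : Equiv.Perm (Fin r)).injective h)
    have hout : ∀ {S : Finset (Fin r)} {τ : Alt r}, τ ∈ suppIn Sᶜ → ∀ {x}, x ∉ S →
        (τ : Equiv.Perm (Fin r)) x ∉ S := by
      intro S τ hτ x hx hmem
      have := hτ _ (by simpa using hmem)
      exact hx ((τ : Equiv.Perm (Fin r)).injective this ▸ hmem)
    obtain ⟨τ, hτ, hτv⟩ := exists_alt_map_fix (T ∪ T') ![a₀, b₀]
      ![(σ : Equiv.Perm (Fin r)) a₀, (σ : Equiv.Perm (Fin r)) b₀] (injective_pair hab₀)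
      (injective_pair hσab)
      (by intro i; fin_cases i <;> simp [ha, hb, ha', hb'])
      (Fin.forall_fin_two.mpr
        ⟨by
          show (σ : Equiv.Perm (Fin r)) a₀ ∉ T ∪ T'
          simp only [Finset.mem_union, not_or]
          exact ⟨hout hσ ha, by rw [h1]; exact hout hσ' ha'⟩,
         by
          show (σ : Equiv.Perm (Fin r)) b₀ ∉ T ∪ T'
          simp only [Finset.mem_union, not_or]
          exact ⟨hout hσ hb, by rw [h2]; exact hout hσ' hb'⟩⟩)
      (by omega)
    have t1 : (τ : Equiv.Perm (Fin r)) a₀ = (σ : Equiv.Perm (Fin r)) a₀ := hτv 0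
    have t2 : (τ : Equiv.Perm (Fin r)) b₀ = (σ : Equiv.Perm (Fin r)) b₀ := hτv 1
    obtain ⟨Z, hZ, hZ', -⟩ := L.exists_adm (hu'f T hT) (hu'f T' hT') Finset.subset_union_left
      Finset.subset_union_right hτ
    rw [hfixT hT ha hb hσ (suppIn_mono (by simp) hτ) t1.symm t2.symm hY hZ,
      hfixT hT' ha' hb' hσ' (suppIn_mono (by simp) hτ) (h1.symm.trans t1.symm)
        (h2.symm.trans t2.symm) hY' hZ']
  have huniq : ∀ {a b : Fin r} {y y' : V}, Rel a b y → Rel a b y' → y = y' := by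
    rintro a b y y' ⟨T, hT, ha, hb, σ, hσ, s1, s2, Y, hY, rfl⟩
      ⟨T', hT', ha', hb', σ', hσ', s1', s2', Y', hY', rfl⟩
    by_cases hint : (T ∩ T').Nonempty
    · refine hconn hT hT' ?_ ha hb ha' hb' hσ hσ' (s1.trans s1'.symm) (s2.trans s2'.symm) hY hY'
      have := Finset.card_union_add_card_inter T T'
      have := hint.card_pos
      omega
    · rw [Finset.not_nonempty_iff_eq_empty] at hint
      obtain ⟨t, ht⟩ := Finset.card_pos.mp (by omega : 0 < T.card)
      obtain ⟨T₂, hT₂, hT₂c⟩ := Finset.exists_subset_card_eq (show 2 ≤ T'.card by omega)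
      have htn : t ∉ T₂ := fun h => by
        have : t ∈ T ∩ T' := Finset.mem_inter.mpr ⟨ht, hT₂ h⟩
        rw [hint] at this
        exact Finset.notMem_empty _ this
      set T'' := insert t T₂ with hT''def
      have hT'' : T''.card = 3 := by rw [Finset.card_insert_of_notMem htn, hT₂c]
      have hT''T : (T ∪ T'').card ≤ 5 := by
        have h1 := Finset.card_union_add_card_inter T T''
        have h2 : 0 < (T ∩ T'').card :=
          Finset.card_pos.mpr ⟨t, Finset.mem_inter.mpr ⟨ht, Finset.mem_insert_self t T₂⟩⟩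
        omega
      have hT''T' : (T'' ∪ T').card ≤ 5 := by
        have h1 := Finset.card_union_add_card_inter T'' T'
        have h2 : T₂ ⊆ T'' ∩ T' := fun x hx =>
          Finset.mem_inter.mpr ⟨Finset.mem_insert_of_mem hx, hT₂ hx⟩
        have h3 := Finset.card_le_card h2
        omega
      have hsub : ∀ x ∈ T'', x ∈ T ∨ x ∈ T' := fun x hx => by
        rcases Finset.mem_insert.mp hx with rfl | hx
        · exact Or.inl ht
        · exact Or.inr (hT₂ hx)
      have ha'' : a₀ ∉ T'' := fun h => (hsub _ h).elim ha ha'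
      have hb'' : b₀ ∉ T'' := fun h => (hsub _ h).elim hb hb'
      have hne : a ≠ b := by
        rw [← s1, ← s2]
        exact fun h => hab₀ ((σ : Equiv.Perm (Fin r)).injective h)
      have houtT : ∀ {S : Finset (Fin r)} {τ : Alt r}, τ ∈ suppIn Sᶜ → ∀ {x}, x ∉ S →
          (τ : Equiv.Perm (Fin r)) x ∉ S := by
        intro S τ hτ x hx hmem
        exact hx ((τ : Equiv.Perm (Fin r)).injective (hτ _ (by simpa using hmem)) ▸ hmem)
      have haT : a ∉ T'' := fun h => (hsub _ h).elim (s1 ▸ houtT hσ ha) (s1' ▸ houtT hσ' ha')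
      have hbT : b ∉ T'' := fun h => (hsub _ h).elim (s2 ▸ houtT hσ hb) (s2' ▸ houtT hσ' hb')
      obtain ⟨τ, hτ, hτv⟩ := exists_alt_map_fix T'' ![a₀, b₀] ![a, b] (injective_pair hab₀)
        (injective_pair hne) (by intro i; fin_cases i <;> simp [ha'', hb''])
        (by intro i; fin_cases i <;> simp [haT, hbT]) (by omega)
      obtain ⟨Z, hZ, -, -⟩ := L.exists_adm (hu'f T'' hT'') (hu'f T'' hT'') subset_rfl subset_rfl hτ
      have t1 : (τ : Equiv.Perm (Fin r)) a₀ = a := hτv 0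
      have t2 : (τ : Equiv.Perm (Fin r)) b₀ = b := hτv 1
      rw [hconn hT hT'' hT''T ha hb ha'' hb'' hσ hτ (s1.trans t1.symm) (s2.trans t2.symm) hY hZ,
        hconn hT'' hT' hT''T' ha'' hb'' ha' hb' hτ hσ' (t1.trans s1'.symm) (t2.trans s2'.symm)
          hZ hY']
  have hrel : ∀ a b, a ≠ b → ∃ y, Rel a b y := by
    intro a b hab
    obtain ⟨T, hT, hTS⟩ := exists_triple_avoid ({a₀, b₀, a, b} : Finset (Fin r)) (by
      have h0 : ({a₀, b₀, a, b} : Finset (Fin r)).card ≤ 4 := Finset.card_le_four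
      omega)
    have ha : a₀ ∉ T := fun h => hTS _ h (by simp)
    have hb : b₀ ∉ T := fun h => hTS _ h (by simp)
    obtain ⟨σ, hσ, hσv⟩ := exists_alt_map_fix T ![a₀, b₀] ![a, b] (injective_pair hab₀)
      (injective_pair hab) (by intro i; fin_cases i <;> simp [ha, hb])
      (by intro i; fin_cases i <;> exact fun h => hTS _ h (by simp)) (by omega)
    obtain ⟨Y, hY, -, -⟩ := L.exists_adm (hu'f T hT) (hu'f T hT) subset_rfl subset_rfl hσ
    exact ⟨_, T, hT, ha, hb, σ, hσ, hσv 0, hσv 1, Y, hY, rfl⟩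
  let y : Fin r → Fin r → V := fun a b => if h : a ≠ b then (hrel a b h).choose else 0
  have hy : ∀ {a b} {w : V}, a ≠ b → Rel a b w → y a b = w := fun {a b w} hab hw => by
    simp only [y, dif_pos hab]
    exact huniq (hrel a b hab).choose_spec hw
  have hyself : ∀ a, y a a = 0 := fun a => by simp [y]
  have hbase : y a₀ b₀ = z := by
    obtain ⟨T, hT, hTS⟩ := exists_triple_avoid ({a₀, b₀} : Finset (Fin r)) (by
      have h0 : ({a₀, b₀} : Finset (Fin r)).card ≤ 2 := Finset.card_le_two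
      omega)
    exact hy hab₀ ⟨T, hT, fun h => hTS _ h (by simp), fun h => hTS _ h (by simp), 1, one_mem _,
      rfl, rfl, 1, L.adm_one T, rfl⟩
  -- equivariance under the star generators
  have heq : ∀ e, e ≠ a₀ → e ≠ b₀ → ∀ a b, (L.ξ a₀ b₀ e : Module.End k V) (y a b) =
      y ((c3 a₀ b₀ e : Equiv.Perm (Fin r)) a) ((c3 a₀ b₀ e : Equiv.Perm (Fin r)) b) := by
    intro e hea heb a b
    by_cases hab : a = b
    · subst hab; rw [hyself, hyself, map_zero]
    obtain ⟨T, hT, hTS⟩ := exists_triple_avoid ({a₀, b₀, e, a, b} : Finset (Fin r)) (by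
      have h0 : ({a₀, b₀, e, a, b} : Finset (Fin r)).card ≤ 5 := Finset.card_le_five
      omega)
    have ha : a₀ ∉ T := fun h => hTS _ h (by simp)
    have hb : b₀ ∉ T := fun h => hTS _ h (by simp)
    have he : e ∉ T := fun h => hTS _ h (by simp)
    obtain ⟨σ, hσ, hσv⟩ := exists_alt_map_fix T ![a₀, b₀] ![a, b] (injective_pair hab₀)
      (injective_pair hab) (by intro i; fin_cases i <;> simp [ha, hb])
      (by intro i; fin_cases i <;> exact fun h => hTS _ h (by simp)) (by omega)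
    obtain ⟨Y, hY, -, -⟩ := L.exists_adm (hu'f T hT) (hu'f T hT) subset_rfl subset_rfl hσ
    have s1 : (σ : Equiv.Perm (Fin r)) a₀ = a := hσv 0
    have s2 : (σ : Equiv.Perm (Fin r)) b₀ = b := hσv 1
    rw [hy hab ⟨T, hT, ha, hb, σ, hσ, s1, s2, Y, hY, rfl⟩]
    symm
    refine hy (fun h => hab ((c3 a₀ b₀ e : Equiv.Perm (Fin r)).injective h))
      ⟨T, hT, ha, hb, c3 a₀ b₀ e * σ, ?_, ?_, ?_, L.ξ a₀ b₀ e * Y,
        (L.adm_xi (hu'f T hT) ha hb he hab₀ (Ne.symm hea) (Ne.symm heb)).mul hY, ?_⟩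
    · exact mul_mem (c3_mem_suppIn hab₀ (Ne.symm heb) (by simpa using ha) (by simpa using hb)
        (by simpa using he)) hσ
    · rw [alt_mul_apply, s1]
    · rw [alt_mul_apply, s2]
    · rw [mul_apply_units]
  -- triangles
  have htr : ∀ a b c, a ≠ b → a ≠ c → b ≠ c → y a b + y b c + y c a = 0 := by
    intro a b c hab hac hbc
    obtain ⟨e, he⟩ := exists_ne_of_card ({a₀, b₀} : Finset (Fin r))
      (lt_of_le_of_lt Finset.card_le_two (by omega))
    simp only [Finset.mem_insert, Finset.mem_singleton, not_or] at he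
    obtain ⟨hea, heb⟩ := he
    obtain ⟨T, hT, hTS⟩ := exists_triple_avoid ({a₀, b₀, e, a, b, c} : Finset (Fin r)) (by
      have h0 : ({a₀, b₀, e, a, b, c} : Finset (Fin r)).card ≤ 6 := Finset.card_le_six
      omega)
    have hA : a₀ ∉ T := fun h => hTS _ h (by simp)
    have hB : b₀ ∉ T := fun h => hTS _ h (by simp)
    have hE : e ∉ T := fun h => hTS _ h (by simp)
    obtain ⟨σ, hσ, hσv⟩ := exists_alt_map_fix T ![a₀, b₀, e] ![a, b, c]
      (injective_triple hab₀ (Ne.symm hea) (Ne.symm heb)) (injective_triple hab hac hbc)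
      (by intro i; fin_cases i <;> simp [hA, hB, hE])
      (by intro i; fin_cases i <;> exact fun h => hTS _ h (by simp)) (by omega)
    obtain ⟨Y, hY, -, -⟩ := L.exists_adm (hu'f T hT) (hu'f T hT) subset_rfl subset_rfl hσ
    set τ := c3 a₀ b₀ e
    set H := L.ξ a₀ b₀ e
    have hH : Adm (ρ := ρ) u' T τ H :=
      L.adm_xi (hu'f T hT) hA hB hE hab₀ (Ne.symm hea) (Ne.symm heb)
    have hτS : τ ∈ suppIn Tᶜ := c3_mem_suppIn hab₀ (Ne.symm heb) (by simpa using hA)
      (by simpa using hB) (by simpa using hE)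
    have s0 : (σ : Equiv.Perm (Fin r)) a₀ = a := hσv 0
    have s1 : (σ : Equiv.Perm (Fin r)) b₀ = b := hσv 1
    have s2 : (σ : Equiv.Perm (Fin r)) e = c := hσv 2
    have t0 : (τ : Equiv.Perm (Fin r)) a₀ = b₀ := c3_apply_a hab₀ (Ne.symm hea) (Ne.symm heb)
    have t1 : (τ : Equiv.Perm (Fin r)) b₀ = e := c3_apply_b hab₀ (Ne.symm hea) (Ne.symm heb)
    have t2 : (τ : Equiv.Perm (Fin r)) e = a₀ := c3_apply_c hab₀ (Ne.symm hea) (Ne.symm heb)
    rw [hy hab ⟨T, hT, hA, hB, σ, hσ, s0, s1, Y, hY, rfl⟩,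
      hy hbc ⟨T, hT, hA, hB, σ * τ, mul_mem hσ hτS, by rw [alt_mul_apply, t0, s1],
        by rw [alt_mul_apply, t1, s2], Y * H, hY.mul hH, rfl⟩,
      hy hac.symm ⟨T, hT, hA, hB, σ * (τ * τ), mul_mem hσ (mul_mem hτS hτS),
        by rw [alt_mul_apply, alt_mul_apply, t0, t1, s2],
        by rw [alt_mul_apply, alt_mul_apply, t1, t2, s0], Y * (H * H), hY.mul (hH.mul hH), rfl⟩,
      mul_apply_units, mul_apply_units, mul_apply_units, ← map_add, ← map_add, htri e hea heb,
      map_zero]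
  -- antisymmetry
  let s : Fin r → Fin r → V := fun a b => y a b + y b a
  have hs3 : ∀ a b c, a ≠ b → a ≠ c → b ≠ c → s a b + s b c + s c a = 0 := by
    intro a b c hab hac hbc
    rw [show s a b + s b c + s c a = (y a b + y b c + y c a) + (y a c + y c b + y b a) by
      simp only [s]; abel, htr a b c hab hac hbc, htr a c b hac hab hbc.symm, add_zero]
  have hsdisj : ∀ a b c d, a ≠ b → a ≠ c → a ≠ d → b ≠ c → b ≠ d → c ≠ d → s c d = s a b := by
    intro a b c d hab hac had hbc hbd hcd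
    have h1 : (s a b + s b c + s c a) + (s c d + s d a + s d b) = 0 := by
      rw [show (s a b + s b c + s c a) + (s c d + s d a + s d b) = (y a b + y b c + y c a) +
        (y a c + y c d + y d a) + (y a d + y d b + y b a) + (y b d + y d c + y c b) by
          simp only [s]; abel,
        htr a b c hab hac hbc, htr a c d hac had hcd, htr a d b had hab hbd.symm,
        htr b d c hbd hbc hcd.symm]
      simp
    rw [hs3 a b c hab hac hbc, zero_add] at h1
    have h2 := hs3 d a b had.symm hbd.symm hab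
    have h3 : s b d = s d b := by simp only [s]; abel
    rw [h3] at h2
    have h4 : s c d + (s d a + s d b) = s a b + (s d a + s d b) := by
      rw [← add_assoc, h1, ← h2]; abel
    exact add_right_cancel h4
  have hsconst : ∀ a b, a ≠ b → s a b = s a₀ b₀ := by
    intro a b hab
    obtain ⟨c, hc⟩ := exists_ne_of_card ({a, b, a₀, b₀} : Finset (Fin r))
      (lt_of_le_of_lt Finset.card_le_four (by omega))
    obtain ⟨d, hd⟩ := exists_ne_of_card ({a, b, a₀, b₀, c} : Finset (Fin r))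
      (lt_of_le_of_lt Finset.card_le_five (by omega))
    simp only [Finset.mem_insert, Finset.mem_singleton, not_or] at hc hd
    rw [← hsdisj a b c d hab (Ne.symm hc.1) (Ne.symm hd.1) (Ne.symm hc.2.1) (Ne.symm hd.2.1)
        (Ne.symm hd.2.2.2.2),
      hsdisj a₀ b₀ c d hab₀ (Ne.symm hc.2.2.1) (Ne.symm hd.2.2.1) (Ne.symm hc.2.2.2)
        (Ne.symm hd.2.2.2.1) (Ne.symm hd.2.2.2.2)]
  have hs0 : s a₀ b₀ = 0 := by
    refine L.eq_zero_of_star hab₀ (by omega) fun e hea heb => ?_
    have : (L.ξ a₀ b₀ e : Module.End k V) (s a₀ b₀) = s a₀ b₀ := by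
      have hne : (c3 a₀ b₀ e : Equiv.Perm (Fin r)) a₀ ≠ (c3 a₀ b₀ e : Equiv.Perm (Fin r)) b₀ :=
        fun h => hab₀ ((c3 a₀ b₀ e : Equiv.Perm (Fin r)).injective h)
      conv_lhs => simp only [s]
      rw [map_add, heq e hea heb, heq e hea heb]
      exact hsconst _ _ hne
    rw [this]
    exact Submodule.mem_span_singleton_self _
  have hanti : ∀ a b, y b a = - y a b := by
    intro a b
    by_cases hab : a = b
    · subst hab; simp [hyself]
    · have := hsconst a b hab
      rw [hs0] at this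
      exact eq_neg_of_add_eq_zero_right this
  have hcoc : ∀ p q, y p q = y p b₀ - y q b₀ := by
    intro p q
    by_cases hpq : p = q
    · subst hpq; simp [hyself]
    by_cases hp : p = b₀
    · subst hp; rw [hyself, hanti q p, zero_sub]
    by_cases hq : q = b₀
    · subst hq; rw [hyself, sub_zero]
    · have := htr p q b₀ hpq hp hq
      rw [hanti p b₀] at this
      linear_combination (norm := module) this
  -- the map from functions on the points
  let Φ : (Fin r → k) →ₗ[k] V :=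
    { toFun := fun c => ∑ a, c a • y a b₀
      map_add' := fun c d => by simp [add_smul, Finset.sum_add_distrib]
      map_smul' := fun x c => by simp [Finset.smul_sum, mul_smul] }
  let sumL : (Fin r → k) →ₗ[k] k :=
    { toFun := fun c => ∑ a, c a
      map_add' := fun c d => by simp [Finset.sum_add_distrib]
      map_smul' := fun x c => by simp [Finset.mul_sum] }
  let W0 : Submodule k (Fin r → k) := LinearMap.ker sumL
  let Kf : Submodule k (Fin r → k) := W0 ⊓ LinearMap.ker Φ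
  let G : Subgroup (Alt r) :=
    { carrier := {σ | ∀ c, c ∈ Kf ↔ c ∘ (σ : Equiv.Perm (Fin r)) ∈ Kf}
      one_mem' := fun c => Iff.rfl
      mul_mem' := fun {a b} ha hb c => (ha c).trans (hb _)
      inv_mem' := fun {a} ha c => by
        have h1 := ha (c ∘ ((a⁻¹ : Alt r) : Equiv.Perm (Fin r)))
        have h2 : (c ∘ ((a⁻¹ : Alt r) : Equiv.Perm (Fin r))) ∘ (a : Equiv.Perm (Fin r)) = c := by
          funext x
          simp
        rw [h2] at h1
        exact h1.symm }
  have hΦ : ∀ e, e ≠ a₀ → e ≠ b₀ → ∀ c ∈ W0, (L.ξ a₀ b₀ e : Module.End k V)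
      (Φ (c ∘ (c3 a₀ b₀ e : Equiv.Perm (Fin r)))) = Φ c := by
    intro e hea heb c hc
    set τ : Equiv.Perm (Fin r) := (c3 a₀ b₀ e : Equiv.Perm (Fin r)) with hτ
    show (L.ξ a₀ b₀ e : Module.End k V) (∑ a, c (τ a) • y a b₀) = ∑ a, c a • y a b₀
    rw [map_sum]
    calc ∑ a, (L.ξ a₀ b₀ e : Module.End k V) (c (τ a) • y a b₀)
        = ∑ a, (c (τ a) • y (τ a) b₀ - c (τ a) • y (τ b₀) b₀) := by
          refine Finset.sum_congr rfl fun a _ => ?_
          rw [map_smul, heq e hea heb, ← hτ, hcoc, smul_sub]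
      _ = ∑ a, c a • y a b₀ - (∑ a, c a) • y (τ b₀) b₀ := by
          rw [Finset.sum_sub_distrib, Finset.sum_smul,
            Equiv.sum_comp τ (fun a => c a • y a b₀), Equiv.sum_comp τ (fun a => c a • y (τ b₀) b₀)]
      _ = _ := by
          rw [show ∑ a, c a = 0 from LinearMap.mem_ker.mp hc, zero_smul, sub_zero]
  have hG : ∀ σ : Alt r, σ ∈ G := by
    intro σ
    refine suppIn_le_of_c3 Finset.univ G (fun a b c ha hb hc hab hac hbc =>
      c3_mem_of_star G hab₀ (fun e _ hea heb c => ?_) ha hb hc hab hac hbc)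
      (by rw [suppIn_univ]; exact Subgroup.mem_top σ)
    set τ : Equiv.Perm (Fin r) := (c3 a₀ b₀ e : Equiv.Perm (Fin r)) with hτ
    have hW : c ∈ W0 ↔ c ∘ τ ∈ W0 := by
      simp only [W0, LinearMap.mem_ker, sumL, LinearMap.coe_mk, AddHom.coe_mk, Function.comp_apply]
      rw [Equiv.sum_comp τ c]
    simp only [Kf, Submodule.mem_inf, LinearMap.mem_ker]
    constructor
    · rintro ⟨h1, h2⟩
      refine ⟨hW.mp h1, ?_⟩
      have h3 := hΦ e hea heb c h1
      rw [h2] at h3
      rw [← inv_apply_units (L.ξ a₀ b₀ e) (Φ (c ∘ τ)), h3, map_zero]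
    · rintro ⟨h1, h2⟩
      refine ⟨hW.mpr h1, ?_⟩
      rw [← hΦ e hea heb c (hW.mpr h1), h2, map_zero]
  have hconst : ∀ c ∈ Kf, ∀ a b, c a = c b := by
    intro c hc
    by_contra hno
    push Not at hno
    obtain ⟨a, b, hcab⟩ := hno
    have hab : a ≠ b := fun h => hcab (h ▸ rfl)
    obtain ⟨d, hd⟩ := exists_ne_of_card ({a, b} : Finset (Fin r))
      (lt_of_le_of_lt Finset.card_le_two (by omega))
    obtain ⟨e, he⟩ := exists_ne_of_card ({a, b, d} : Finset (Fin r))
      (lt_of_le_of_lt Finset.card_le_three (by omega))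
    obtain ⟨f, hf⟩ := exists_ne_of_card ({a, b, d, e} : Finset (Fin r))
      (lt_of_le_of_lt Finset.card_le_four (by omega))
    simp only [Finset.mem_insert, Finset.mem_singleton, not_or] at hd he hf
    have hda := Ne.symm hd.1
    have hdb := Ne.symm hd.2
    set w : Fin r → k := c - c ∘ (c3 a b d : Equiv.Perm (Fin r)) with hw
    have hwK : w ∈ Kf := Kf.sub_mem hc ((hG (c3 a b d) c).mp hc)
    have hw0 : ∀ x, x ≠ a → x ≠ b → x ≠ d → w x = 0 := fun x h1 h2 h3 => by
      rw [hw, Pi.sub_apply, Function.comp_apply, c3_apply_ne hab hdb h1 h2 h3, sub_self]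
    set α := w a with hα
    have hwa : α ≠ 0 := by
      rw [hα, hw, Pi.sub_apply, Function.comp_apply, c3_apply_a hab hda hdb]
      exact sub_ne_zero.mpr hcab
    have hae : a ≠ e := Ne.symm he.1
    have haf : a ≠ f := Ne.symm hf.1
    have hef : e ≠ f := Ne.symm hf.2.2.2
    have hw2 : w - w ∘ (c3 a e f : Equiv.Perm (Fin r)) = α • (Pi.single a 1 - Pi.single f 1) := by
      funext x
      rw [Pi.sub_apply, Function.comp_apply, Pi.smul_apply, Pi.sub_apply, smul_eq_mul]
      by_cases hxa : x = a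
      · subst hxa
        rw [c3_apply_a hae haf hef, hw0 e he.1 he.2.1 he.2.2, Pi.single_eq_same,
          Pi.single_eq_of_ne haf, hα]
        ring
      by_cases hxe : x = e
      · subst hxe
        rw [c3_apply_b hae haf hef, hw0 x he.1 he.2.1 he.2.2, hw0 f hf.1 hf.2.1 hf.2.2.1,
          Pi.single_eq_of_ne hxa, Pi.single_eq_of_ne hef]
        ring
      by_cases hxf : x = f
      · subst hxf
        rw [c3_apply_c hae haf hef, hw0 x hf.1 hf.2.1 hf.2.2.1, Pi.single_eq_same,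
          Pi.single_eq_of_ne hxa, hα]
        ring
      rw [c3_apply_ne hae hef hxa hxe hxf, sub_self, Pi.single_eq_of_ne hxa,
        Pi.single_eq_of_ne hxf]
      ring
    have hd1 : (Pi.single a 1 - Pi.single f 1 : Fin r → k) ∈ Kf := by
      have := Kf.smul_mem α⁻¹ (Kf.sub_mem hwK ((hG (c3 a e f) w).mp hwK))
      rwa [hw2, smul_smul, inv_mul_cancel₀ hwa, one_smul] at this
    obtain ⟨σ, -, hσ⟩ := exists_alt_map_fix ∅ ![a₀, b₀] ![a, f] (injective_pair hab₀)
      (injective_pair haf) (by simp) (by simp) (by simp; omega)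
    have hd2 : (Pi.single a 1 - Pi.single f 1 : Fin r → k) ∘ (σ : Equiv.Perm (Fin r)) =
        Pi.single a₀ 1 - Pi.single b₀ 1 := by
      funext x
      have s0 : (σ : Equiv.Perm (Fin r)) a₀ = a := hσ 0
      have s1 : (σ : Equiv.Perm (Fin r)) b₀ = f := hσ 1
      simp only [Function.comp_apply, Pi.sub_apply, Pi.single_apply]
      rw [← s0, ← s1]
      simp only [EmbeddingLike.apply_eq_iff_eq]
    have hd3 := (hG σ _).mp hd1
    rw [hd2] at hd3
    have hΦz : Φ (Pi.single a₀ 1 - Pi.single b₀ 1) = z := by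
      simp only [Φ, LinearMap.coe_mk, AddHom.coe_mk, Pi.sub_apply, sub_smul,
        Finset.sum_sub_distrib, Pi.single_apply, ite_smul, one_smul, zero_smul,
        Finset.sum_ite_eq', Finset.mem_univ, if_true, hyself, sub_zero, hbase]
    exact hz (hΦz ▸ LinearMap.mem_ker.mp hd3.2)
  -- dimension
  have hW0 : r - 1 ≤ finrank k W0 := by
    have h1 := LinearMap.finrank_range_add_finrank_ker sumL
    rw [Module.finrank_fintype_fun_eq_card, Fintype.card_fin] at h1
    have h2 : finrank k (LinearMap.range sumL) ≤ 1 :=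
      (Submodule.finrank_le _).trans (le_of_eq (Module.finrank_self k))
    show r - 1 ≤ finrank k (LinearMap.ker sumL)
    omega
  have hrn := LinearMap.finrank_range_add_finrank_ker (Φ.domRestrict W0)
  have hrange : finrank k (LinearMap.range (Φ.domRestrict W0)) ≤ finrank k V :=
    Submodule.finrank_le _
  have hker : ∀ x : LinearMap.ker (Φ.domRestrict W0), (x.1.1 : Fin r → k) ∈ Kf :=
    fun x => ⟨x.1.2, x.2⟩
  constructor
  · have hle : finrank k (LinearMap.ker (Φ.domRestrict W0)) ≤ 1 := by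
      let ev : LinearMap.ker (Φ.domRestrict W0) →ₗ[k] k :=
        { toFun := fun x => x.1.1 a₀, map_add' := fun _ _ => rfl, map_smul' := fun _ _ => rfl }
      have hev : Function.Injective ev := by
        intro x x' hxx
        apply Subtype.ext; apply Subtype.ext
        funext i
        rw [hconst _ (hker x) i a₀, hconst _ (hker x') i a₀]
        exact hxx
      have := LinearMap.finrank_le_finrank_of_injective hev
      rwa [Module.finrank_self] at this
    omega
  · intro hr0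
    have hle : LinearMap.ker (Φ.domRestrict W0) = ⊥ := by
      rw [Submodule.eq_bot_iff]
      rintro x hx
      have hxK : (x.1 : Fin r → k) ∈ Kf := ⟨x.2, hx⟩
      apply Subtype.ext
      funext i
      have h0 : ∑ a, x.1 a = 0 := x.2
      rw [Finset.sum_congr rfl (fun a _ => hconst _ hxK a i), Finset.sum_const, Finset.card_univ,
        Fintype.card_fin, nsmul_eq_mul] at h0
      exact (mul_eq_zero.mp h0).resolve_left hr0
    rw [hle, finrank_bot] at hrn
    omega

end CycLift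

end Cfsg.Agent.AltDeg
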