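import Mathlib
import Cfsg.Agent.EqLemmas

set_option autoImplicit false

/-!
# Tools for the alternating group of `Fin r`: 3-cycles, supports, generation, transitivity
-/

namespace Cfsg.Agent.AltDeg

open Equiv Equiv.Perm

variable {r : ℕ}

/-- The alternating group on `Fin r`. -/
abbrev Alt (r : ℕ) := alternatingGroup (Fin r)

/-- A permutation as an element of the alternating group, `1` if it is odd. -/
def toAlt (σ : Perm (Fin r)) : Alt r :=
  if h : Perm.sign σ = 1 then ⟨σ, mem_alternatingGroup.mpr h⟩ else 1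

lemma toAlt_coe {σ : Perm (Fin r)} (h : Perm.sign σ = 1) : (toAlt σ : Perm (Fin r)) = σ := by
  simp [toAlt, h]

/-- The 3-cycle `a ↦ b ↦ c ↦ a`. -/
def c3 (a b c : Fin r) : Alt r := toAlt (swap a b * swap b c)

/-- The double transposition `(a b)(c d)`. -/
def d2 (a b c d : Fin r) : Alt r := toAlt (swap a b * swap c d)

lemma c3_coe {a b c : Fin r} (hab : a ≠ b) (hbc : b ≠ c) :
    (c3 a b c : Perm (Fin r)) = swap a b * swap b c :=
  toAlt_coe (by rw [map_mul, sign_swap hab, sign_swap hbc]; rfl)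

lemma d2_coe {a b c d : Fin r} (hab : a ≠ b) (hcd : c ≠ d) :
    (d2 a b c d : Perm (Fin r)) = swap a b * swap c d :=
  toAlt_coe (by rw [map_mul, sign_swap hab, sign_swap hcd]; rfl)

lemma alt_ext {σ τ : Alt r} (h : ∀ x, (σ : Perm (Fin r)) x = (τ : Perm (Fin r)) x) : σ = τ :=
  Subtype.ext (Equiv.ext h)

lemma alt_mul_apply (σ τ : Alt r) (x : Fin r) :
    ((σ * τ : Alt r) : Perm (Fin r)) x = (σ : Perm (Fin r)) ((τ : Perm (Fin r)) x) := rfl

lemma alt_one_apply (x : Fin r) : ((1 : Alt r) : Perm (Fin r)) x = x := rfl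

lemma alt_inv_apply_of_eq (σ : Alt r) {x y : Fin r} (h : (σ : Perm (Fin r)) x = y) :
    ((σ⁻¹ : Alt r) : Perm (Fin r)) y = x := by
  subst h
  simp

lemma c3_apply_a {a b c : Fin r} (hab : a ≠ b) (hac : a ≠ c) (hbc : b ≠ c) :
    (c3 a b c : Perm (Fin r)) a = b := by
  rw [c3_coe hab hbc, Perm.mul_apply, swap_apply_of_ne_of_ne hab hac, swap_apply_left]

lemma c3_apply_b {a b c : Fin r} (hab : a ≠ b) (hac : a ≠ c) (hbc : b ≠ c) :
    (c3 a b c : Perm (Fin r)) b = c := by
  rw [c3_coe hab hbc, Perm.mul_apply, swap_apply_left,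
    swap_apply_of_ne_of_ne (Ne.symm hac) (Ne.symm hbc)]

lemma c3_apply_c {a b c : Fin r} (hab : a ≠ b) (_hac : a ≠ c) (hbc : b ≠ c) :
    (c3 a b c : Perm (Fin r)) c = a := by
  rw [c3_coe hab hbc, Perm.mul_apply, swap_apply_right, swap_apply_right]

lemma c3_apply_ne {a b c x : Fin r} (hab : a ≠ b) (hbc : b ≠ c) (hxa : x ≠ a) (hxb : x ≠ b)
    (hxc : x ≠ c) : (c3 a b c : Perm (Fin r)) x = x := by
  rw [c3_coe hab hbc, Perm.mul_apply, swap_apply_of_ne_of_ne hxb hxc,
    swap_apply_of_ne_of_ne hxa hxb]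

lemma c3_rot {a b c : Fin r} (hab : a ≠ b) (hac : a ≠ c) (hbc : b ≠ c) :
    c3 b c a = c3 a b c := by
  apply alt_ext
  intro x
  by_cases ha : x = a
  · subst ha; rw [c3_apply_c hbc hab.symm hac.symm, c3_apply_a hab hac hbc]
  by_cases hb : x = b
  · subst hb; rw [c3_apply_a hbc hab.symm hac.symm, c3_apply_b hab hac hbc]
  by_cases hc : x = c
  · subst hc; rw [c3_apply_b hbc hab.symm hac.symm, c3_apply_c hab hac hbc]
  rw [c3_apply_ne hbc hac.symm hb hc ha, c3_apply_ne hab hbc ha hb hc]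

lemma c3_inv {a b c : Fin r} (hab : a ≠ b) (hac : a ≠ c) (hbc : b ≠ c) :
    (c3 a b c)⁻¹ = c3 a c b := by
  rw [inv_eq_iff_mul_eq_one]
  apply alt_ext
  intro x
  rw [alt_mul_apply, alt_one_apply]
  by_cases ha : x = a
  · subst ha; rw [c3_apply_a hac hab hbc.symm, c3_apply_c hab hac hbc]
  by_cases hb : x = b
  · subst hb; rw [c3_apply_c hac hab hbc.symm, c3_apply_a hab hac hbc]
  by_cases hc : x = c
  · subst hc; rw [c3_apply_b hac hab hbc.symm, c3_apply_b hab hac hbc]
  rw [c3_apply_ne hac hbc.symm ha hc hb, c3_apply_ne hab hbc ha hb hc]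

lemma c3_ne_one {a b c : Fin r} (hab : a ≠ b) (hac : a ≠ c) (hbc : b ≠ c) : c3 a b c ≠ 1 := by
  intro h
  have := c3_apply_a hab hac hbc
  rw [h, alt_one_apply] at this
  exact hab this

lemma c3_conj {a b c : Fin r} (τ : Alt r) (hab : a ≠ b) (hbc : b ≠ c) :
    τ * c3 a b c * τ⁻¹ = c3 ((τ : Perm (Fin r)) a) ((τ : Perm (Fin r)) b)
      ((τ : Perm (Fin r)) c) := by
  apply Subtype.ext
  have h1 : (τ : Perm (Fin r)) a ≠ (τ : Perm (Fin r)) b :=
    fun h => hab ((τ : Perm (Fin r)).injective h)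
  have h2 : (τ : Perm (Fin r)) b ≠ (τ : Perm (Fin r)) c :=
    fun h => hbc ((τ : Perm (Fin r)).injective h)
  rw [Subgroup.coe_mul, Subgroup.coe_mul, InvMemClass.coe_inv, c3_coe hab hbc, c3_coe h1 h2,
    Equiv.swap_apply_apply, Equiv.swap_apply_apply]
  group

lemma d2_conj {a b c d : Fin r} (τ : Alt r) (hab : a ≠ b) (hcd : c ≠ d) :
    τ * d2 a b c d * τ⁻¹ = d2 ((τ : Perm (Fin r)) a) ((τ : Perm (Fin r)) b)
      ((τ : Perm (Fin r)) c) ((τ : Perm (Fin r)) d) := by
  apply Subtype.ext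
  have h1 : (τ : Perm (Fin r)) a ≠ (τ : Perm (Fin r)) b :=
    fun h => hab ((τ : Perm (Fin r)).injective h)
  have h2 : (τ : Perm (Fin r)) c ≠ (τ : Perm (Fin r)) d :=
    fun h => hcd ((τ : Perm (Fin r)).injective h)
  rw [Subgroup.coe_mul, Subgroup.coe_mul, InvMemClass.coe_inv, d2_coe hab hcd, d2_coe h1 h2,
    Equiv.swap_apply_apply, Equiv.swap_apply_apply]
  group

lemma d2_apply_a {a b c d : Fin r} (hab : a ≠ b) (hcd : c ≠ d) (hac : a ≠ c) (had : a ≠ d) :
    (d2 a b c d : Perm (Fin r)) a = b := by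
  rw [d2_coe hab hcd, Perm.mul_apply, swap_apply_of_ne_of_ne hac had, swap_apply_left]

lemma d2_apply_b {a b c d : Fin r} (hab : a ≠ b) (hcd : c ≠ d) (hbc : b ≠ c) (hbd : b ≠ d) :
    (d2 a b c d : Perm (Fin r)) b = a := by
  rw [d2_coe hab hcd, Perm.mul_apply, swap_apply_of_ne_of_ne hbc hbd, swap_apply_right]

lemma d2_apply_c {a b c d : Fin r} (hab : a ≠ b) (hcd : c ≠ d) (had : a ≠ d) (hbd : b ≠ d) :
    (d2 a b c d : Perm (Fin r)) c = d := by
  rw [d2_coe hab hcd, Perm.mul_apply, swap_apply_left,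
    swap_apply_of_ne_of_ne (Ne.symm had) (Ne.symm hbd)]

lemma d2_apply_d {a b c d : Fin r} (hab : a ≠ b) (hcd : c ≠ d) (hac : a ≠ c) (hbc : b ≠ c) :
    (d2 a b c d : Perm (Fin r)) d = c := by
  rw [d2_coe hab hcd, Perm.mul_apply, swap_apply_right,
    swap_apply_of_ne_of_ne (Ne.symm hac) (Ne.symm hbc)]

lemma d2_apply_ne {a b c d x : Fin r} (hab : a ≠ b) (hcd : c ≠ d) (hxa : x ≠ a) (hxb : x ≠ b)
    (hxc : x ≠ c) (hxd : x ≠ d) : (d2 a b c d : Perm (Fin r)) x = x := by
  rw [d2_coe hab hcd, Perm.mul_apply, swap_apply_of_ne_of_ne hxc hxd,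
    swap_apply_of_ne_of_ne hxa hxb]

lemma d2_ne_one {a b c d : Fin r} (hab : a ≠ b) (hcd : c ≠ d) (hac : a ≠ c) (had : a ≠ d) :
    d2 a b c d ≠ 1 := by
  intro h
  have := d2_apply_a hab hcd hac had
  rw [h, alt_one_apply] at this
  exact hab this

lemma d2_mul_self {a b c d : Fin r} (hab : a ≠ b) (hcd : c ≠ d) (hac : a ≠ c) (had : a ≠ d)
    (hbc : b ≠ c) (hbd : b ≠ d) : d2 a b c d * d2 a b c d = 1 := by
  apply alt_ext
  intro x
  rw [alt_mul_apply, alt_one_apply]
  by_cases ha : x = a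
  · subst ha; rw [d2_apply_a hab hcd hac had, d2_apply_b hab hcd hbc hbd]
  by_cases hb : x = b
  · subst hb; rw [d2_apply_b hab hcd hbc hbd, d2_apply_a hab hcd hac had]
  by_cases hc : x = c
  · subst hc; rw [d2_apply_c hab hcd had hbd, d2_apply_d hab hcd hac hbc]
  by_cases hd : x = d
  · subst hd; rw [d2_apply_d hab hcd hac hbc, d2_apply_c hab hcd had hbd]
  rw [d2_apply_ne hab hcd ha hb hc hd, d2_apply_ne hab hcd ha hb hc hd]

/-- Two injective tuples of length at most `r - 2` are conjugate under the alternating group. -/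
theorem exists_alt_map {ι : Type*} [Fintype ι] (f g : ι → Fin r) (hf : Function.Injective f)
    (hg : Function.Injective g) (hcard : Fintype.card ι + 2 ≤ r) :
    ∃ σ : Alt r, ∀ i, (σ : Perm (Fin r)) (f i) = g i := by
  classical
  obtain ⟨σ, hσ⟩ := Equiv.Perm.exists_smul_eq_embedding (⟨f, hf⟩ : ι ↪ Fin r) ⟨g, hg⟩
  have hσ' : ∀ i, σ (f i) = g i := fun i => by
    have := congrArg (fun e : ι ↪ Fin r => e i) hσ
    simpa [Function.Embedding.smul_apply] using this
  rcases Int.units_eq_one_or (Perm.sign σ) with h | h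
  · exact ⟨toAlt σ, fun i => by rw [toAlt_coe h]; exact hσ' i⟩
  · have hc : 1 < ((Finset.univ.image g)ᶜ).card := by
      rw [Finset.card_compl, Finset.card_image_of_injective _ hg, Fintype.card_fin,
        Finset.card_univ]
      omega
    obtain ⟨x, hx, y, hy, hxy⟩ := Finset.one_lt_card.mp hc
    refine ⟨toAlt (swap x y * σ), fun i => ?_⟩
    rw [toAlt_coe (by rw [map_mul, h, sign_swap hxy]; rfl), Perm.mul_apply, hσ' i,
      swap_apply_of_ne_of_ne]
    · rintro rfl
      simp at hx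
    · rintro rfl
      simp at hy

/-- The elements of `Alt r` moving only points of `S`. -/
def suppIn (S : Finset (Fin r)) : Subgroup (Alt r) where
  carrier := {σ | ∀ x, x ∉ S → (σ : Perm (Fin r)) x = x}
  one_mem' := fun x _ => rfl
  mul_mem' := fun {σ τ} hσ hτ x hx => by rw [alt_mul_apply, hτ x hx, hσ x hx]
  inv_mem' := fun {σ} hσ x hx => alt_inv_apply_of_eq σ (hσ x hx)

lemma mem_suppIn {S : Finset (Fin r)} {σ : Alt r} :
    σ ∈ suppIn S ↔ ∀ x, x ∉ S → (σ : Perm (Fin r)) x = x := Iff.rfl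

lemma suppIn_mono {S S' : Finset (Fin r)} (h : S ⊆ S') : suppIn S ≤ suppIn S' :=
  fun _ hσ x hx => hσ x (fun hx' => hx (h hx'))

lemma suppIn_univ : suppIn (Finset.univ : Finset (Fin r)) = ⊤ := by
  ext σ
  simp [mem_suppIn]

lemma c3_mem_suppIn {S : Finset (Fin r)} {a b c : Fin r} (hab : a ≠ b) (hbc : b ≠ c) (ha : a ∈ S)
    (hb : b ∈ S) (hc : c ∈ S) : c3 a b c ∈ suppIn S := by
  intro x hx
  exact c3_apply_ne hab hbc (fun h => hx (h ▸ ha)) (fun h => hx (h ▸ hb)) (fun h => hx (h ▸ hc))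

lemma d2_mem_suppIn {S : Finset (Fin r)} {a b c d : Fin r} (hab : a ≠ b) (hcd : c ≠ d)
    (ha : a ∈ S) (hb : b ∈ S) (hc : c ∈ S) (hd : d ∈ S) : d2 a b c d ∈ suppIn S := by
  intro x hx
  exact d2_apply_ne hab hcd (fun h => hx (h ▸ ha)) (fun h => hx (h ▸ hb)) (fun h => hx (h ▸ hc))
    (fun h => hx (h ▸ hd))

/-- `suppIn S` is generated by its 3-cycles. -/
theorem suppIn_le_of_c3 (S : Finset (Fin r)) (K : Subgroup (Alt r))
    (h : ∀ a b c, a ∈ S → b ∈ S → c ∈ S → a ≠ b → a ≠ c → b ≠ c → c3 a b c ∈ K) :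
    suppIn S ≤ K := by
  suffices key : ∀ n : ℕ, ∀ σ : Alt r, σ ∈ suppIn S → (σ : Perm (Fin r)).support.card ≤ n →
      σ ∈ K from fun σ hσ => key _ σ hσ le_rfl
  intro n
  induction n with
  | zero =>
    intro σ _ hn
    have h1 : σ = 1 := Subtype.ext (Perm.card_support_le_one.mp (hn.trans zero_le_one))
    rw [h1]
    exact one_mem K
  | succ n ih =>
    intro σ hσ hn
    by_cases h1 : (σ : Perm (Fin r)) = 1
    · rw [show σ = 1 from Subtype.ext h1]
      exact one_mem K
    obtain ⟨a, ha⟩ : ∃ a, (σ : Perm (Fin r)) a ≠ a := by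
      by_contra hno
      push Not at hno
      exact h1 (Equiv.ext hno)
    set b := (σ : Perm (Fin r)) a with hb
    have hsupp : ∀ x, x ∈ (σ : Perm (Fin r)).support → x ∈ S := by
      intro x hx
      by_contra hxS
      exact (Perm.mem_support.mp hx) (hσ x hxS)
    have ham : a ∈ (σ : Perm (Fin r)).support := Perm.mem_support.mpr ha
    have hbm : b ∈ (σ : Perm (Fin r)).support := Perm.apply_mem_support.mpr ham
    obtain ⟨c, hcm, hca, hcb⟩ : ∃ c ∈ (σ : Perm (Fin r)).support, c ≠ a ∧ c ≠ b := by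
      by_contra hno
      push Not at hno
      have hsub : (σ : Perm (Fin r)).support ⊆ {a, b} := by
        intro x hx
        rw [Finset.mem_insert, Finset.mem_singleton]
        by_cases hxa : x = a
        · exact Or.inl hxa
        · exact Or.inr (hno x hx hxa)
      have h2 : (σ : Perm (Fin r)).support.card = 2 := by
        have := (Finset.card_le_card hsub).trans Finset.card_le_two
        have := Perm.card_support_ne_one (σ : Perm (Fin r))
        have : (σ : Perm (Fin r)).support.card ≠ 0 := by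
          simpa using h1
        omega
      have h3 := (Perm.card_support_eq_two.mp h2).sign_eq
      rw [mem_alternatingGroup.mp σ.2] at h3
      exact absurd h3 (by decide)
    have hab : a ≠ b := Ne.symm ha
    have hτ : c3 a b c ∈ K := h a b c (hsupp a ham) (hsupp b hbm) (hsupp c hcm) hab hca.symm
      hcb.symm
    have hτS : c3 a b c ∈ suppIn S := c3_mem_suppIn hab hcb.symm (hsupp a ham) (hsupp b hbm)
      (hsupp c hcm)
    have hlt : (((c3 a b c)⁻¹ * σ : Alt r) : Perm (Fin r)).support ⊂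
        (σ : Perm (Fin r)).support := by
      rw [Finset.ssubset_iff_of_subset]
      · refine ⟨a, ham, ?_⟩
        rw [Perm.notMem_support, alt_mul_apply, ← hb]
        exact alt_inv_apply_of_eq _ (c3_apply_a hab hca.symm hcb.symm)
      · intro x hx
        by_contra hxn
        rw [Perm.mem_support, alt_mul_apply, Perm.notMem_support.mp hxn] at hx
        apply hx
        apply alt_inv_apply_of_eq
        exact c3_apply_ne hab hcb.symm (fun h => hxn (h ▸ ham)) (fun h => hxn (h ▸ hbm))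
          (fun h => hxn (h ▸ hcm))
    have := ih _ ((suppIn S).mul_mem ((suppIn S).inv_mem hτS) hσ)
      (Nat.le_of_lt_succ ((Finset.card_lt_card hlt).trans_le hn))
    simpa using K.mul_mem hτ this

lemma c3_mul_c3 {i a b c : Fin r} (hia : i ≠ a) (hib : i ≠ b) (hic : i ≠ c) (hab : a ≠ b)
    (hac : a ≠ c) (hbc : b ≠ c) : c3 i a b * c3 i b c = c3 a b c := by
  apply alt_ext
  intro x
  rw [alt_mul_apply]
  by_cases hi : x = i
  · subst hi
    rw [c3_apply_a hib hic hbc, c3_apply_c hia hib hab, c3_apply_ne hab hbc hia hib hic]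
  by_cases ha : x = a
  · subst ha
    rw [c3_apply_ne hib hbc hia.symm hab hac, c3_apply_b hia hib hab, c3_apply_a hab hac hbc]
  by_cases hb : x = b
  · subst hb
    rw [c3_apply_b hib hic hbc, c3_apply_ne hia hab hic.symm hac.symm hbc.symm,
      c3_apply_b hab hac hbc]
  by_cases hc : x = c
  · subst hc
    rw [c3_apply_c hib hic hbc, c3_apply_a hia hib hab, c3_apply_c hab hac hbc]
  rw [c3_apply_ne hib hbc hi hb hc, c3_apply_ne hia hab hi ha hb, c3_apply_ne hab hbc ha hb hc]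

/-- A star of 3-cycles on two fixed points generates all 3-cycles of the set. -/
theorem c3_mem_of_star {U : Finset (Fin r)} (K : Subgroup (Alt r)) {i j : Fin r} (hij : i ≠ j)
    (h : ∀ a ∈ U, a ≠ i → a ≠ j → c3 i j a ∈ K) {a b c : Fin r} (ha : a ∈ U) (hb : b ∈ U)
    (hc : c ∈ U) (hab : a ≠ b) (hac : a ≠ c) (hbc : b ≠ c) : c3 a b c ∈ K := by
  have hi : ∀ x ∈ U, ∀ y ∈ U, x ≠ i → y ≠ i → x ≠ y → c3 i x y ∈ K := by
    intro x hx y hy hxi hyi hxy
    by_cases hxj : x = j
    · subst hxj; exact h y hy hyi hxy.symm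
    by_cases hyj : y = j
    · subst hyj
      rw [← c3_inv hij (Ne.symm hxi) (Ne.symm hxj)]
      exact K.inv_mem (h x hx hxi hxj)
    · have h1 : c3 i j y * c3 i x j = c3 i x y := by
        apply alt_ext
        intro z
        rw [alt_mul_apply]
        by_cases hz : z = i
        · subst hz
          rw [c3_apply_a (Ne.symm hxi) hij hxj,
            c3_apply_ne hij (Ne.symm hyj) hxi hxj hxy,
            c3_apply_a (Ne.symm hxi) (Ne.symm hyi) hxy]
        by_cases hzx : z = x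
        · subst hzx
          rw [c3_apply_b (Ne.symm hxi) hij hxj, c3_apply_b hij (Ne.symm hyi) (Ne.symm hyj),
            c3_apply_b (Ne.symm hxi) (Ne.symm hyi) hxy]
        by_cases hzy : z = y
        · subst hzy
          rw [c3_apply_ne (Ne.symm hxi) hxj hyi (Ne.symm hxy) hyj,
            c3_apply_c hij (Ne.symm hyi) (Ne.symm hyj),
            c3_apply_c (Ne.symm hxi) (Ne.symm hyi) hxy]
        by_cases hzj : z = j
        · subst hzj
          rw [c3_apply_c (Ne.symm hxi) hij hxj, c3_apply_a hij (Ne.symm hyi) (Ne.symm hyj),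
            c3_apply_ne (Ne.symm hxi) hxy hz hzx hzy]
        rw [c3_apply_ne (Ne.symm hxi) hxj hz hzx hzj,
          c3_apply_ne hij (Ne.symm hyj) hz hzj hzy, c3_apply_ne (Ne.symm hxi) hxy hz hzx hzy]
      rw [← h1]
      refine K.mul_mem (h y hy hyi hyj) ?_
      rw [← c3_inv hij (Ne.symm hxi) (Ne.symm hxj)]
      exact K.inv_mem (h x hx hxi hxj)
  by_cases hai : a = i
  · subst hai; exact hi b hb c hc hab.symm hac.symm hbc
  by_cases hbi : b = i
  · subst hbi
    rw [← c3_rot hab hac hbc]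
    exact hi c hc a ha hbc.symm hab hac.symm
  by_cases hci : c = i
  · subst hci
    rw [← c3_rot hab hac hbc, ← c3_rot hbc hab.symm hac.symm]
    exact hi a ha b hb hac hbc hab
  rw [← c3_mul_c3 (Ne.symm hai) (Ne.symm hbi) (Ne.symm hci) hab hac hbc]
  exact K.mul_mem (hi a ha b hb hai hbi hab) (hi b hb c hc hbi hci hbc)

/-- Two subsets meeting in at least two points generate the alternating group of the union. -/
theorem suppIn_union_le (K : Subgroup (Alt r)) (S₁ S₂ : Finset (Fin r)) (h₁ : suppIn S₁ ≤ K)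
    (h₂ : suppIn S₂ ≤ K) (hcard : 2 ≤ (S₁ ∩ S₂).card) : suppIn (S₁ ∪ S₂) ≤ K := by
  obtain ⟨i, hi, j, hj, hij⟩ := Finset.one_lt_card.mp hcard
  rw [Finset.mem_inter] at hi hj
  refine suppIn_le_of_c3 _ K fun a b c ha hb hc hab hac hbc =>
    c3_mem_of_star K hij (fun x hx hxi hxj => ?_) ha hb hc hab hac hbc
  rcases Finset.mem_union.mp hx with hx | hx
  · exact h₁ (c3_mem_suppIn hij (Ne.symm hxj) hi.1 hj.1 hx)
  · exact h₂ (c3_mem_suppIn hij (Ne.symm hxj) hi.2 hj.2 hx)

/-- A 3-cycle in a set with at least five points is a commutator of elements moving that set only. -/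
theorem c3_eq_commutator {S : Finset (Fin r)} (hS : 5 ≤ S.card) {a b c : Fin r} (ha : a ∈ S)
    (hb : b ∈ S) (hc : c ∈ S) (hab : a ≠ b) (hac : a ≠ c) (hbc : b ≠ c) :
    ∃ p ∈ suppIn S, ∃ q ∈ suppIn S, c3 a b c = p * q * p⁻¹ * q⁻¹ := by
  have h2 : 1 < (S \ {a, b, c}).card := by
    have := Finset.le_card_sdiff ({a, b, c} : Finset (Fin r)) S
    have := Finset.card_le_three (a := a) (b := b) (c := c)
    omega
  obtain ⟨d, hd, e, he, hde⟩ := Finset.one_lt_card.mp h2
  simp only [Finset.mem_sdiff, Finset.mem_insert, Finset.mem_singleton, not_or] at hd he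
  obtain ⟨hdS, hda, hdb, hdc⟩ := hd
  obtain ⟨heS, hea, heb, hec⟩ := he
  refine ⟨c3 a b d, c3_mem_suppIn hab (Ne.symm hdb) ha hb hdS, c3 a c e,
    c3_mem_suppIn hac (Ne.symm hec) ha hc heS, ?_⟩
  rw [c3_conj _ hac (Ne.symm hec), c3_apply_a hab (Ne.symm hda) (Ne.symm hdb),
    c3_apply_ne hab (Ne.symm hdb) hac.symm hbc.symm (Ne.symm hdc),
    c3_apply_ne hab (Ne.symm hdb) hea heb (Ne.symm hde),
    c3_inv hac (Ne.symm hea) (Ne.symm hec)]
  apply alt_ext
  intro x
  rw [alt_mul_apply]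
  by_cases hxa : x = a
  · subst hxa
    rw [c3_apply_a (Ne.symm hea) hac hec, c3_apply_c hbc (Ne.symm heb) (Ne.symm hec),
      c3_apply_a hab hac hbc]
  by_cases hxb : x = b
  · subst hxb
    rw [c3_apply_ne (Ne.symm hea) hec hab.symm (Ne.symm heb) hbc,
      c3_apply_a hbc (Ne.symm heb) (Ne.symm hec), c3_apply_b hab hac hbc]
  by_cases hxc : x = c
  · subst hxc
    rw [c3_apply_c (Ne.symm hea) hac hec,
      c3_apply_ne hbc (Ne.symm hec) hab hac (Ne.symm hea), c3_apply_c hab hac hbc]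
  by_cases hxe : x = e
  · subst hxe
    rw [c3_apply_b (Ne.symm hea) hac hec, c3_apply_b hbc (Ne.symm heb) (Ne.symm hec),
      c3_apply_ne hab hbc hea heb hec]
  rw [c3_apply_ne (Ne.symm hea) hec hxa hxe hxc, c3_apply_ne hbc (Ne.symm hec) hxb hxc hxe,
    c3_apply_ne hab hbc hxa hxb hxc]

/-- A proper subgroup of `Alt r` has index at least `r`. -/
theorem le_index_of_ne_top (hr : 5 ≤ r) (M : Subgroup (Alt r)) (hM : M ≠ ⊤) : r ≤ M.index := by
  classical
  haveI : IsSimpleGroup (Alt r) := alternatingGroup.isSimpleGroup (by simpa using hr)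
  by_contra hlt
  push Not at hlt
  have hφ : Function.Injective (MulAction.toPermHom (Alt r) (Alt r ⧸ M)) := by
    rw [← MonoidHom.ker_eq_bot_iff, ← Subgroup.normalCore_eq_ker]
    refine (M.normalCore_normal.eq_bot_or_eq_top).resolve_right fun h => hM ?_
    exact top_le_iff.mp (h ▸ M.normalCore_le)
  have h1 := Nat.card_le_card_of_injective _ hφ
  rw [Nat.card_perm] at h1
  have h2 : 2 * Nat.card (Alt r) = r.factorial := by
    haveI : Nontrivial (Fin r) := Fin.nontrivial_iff_two_le.mpr (by omega)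
    rw [two_mul_nat_card_alternatingGroup, Nat.card_perm, Nat.card_fin]
  have h3 : Nat.card (Alt r ⧸ M) ≤ r - 1 := by
    rw [← Subgroup.index_eq_card]; omega
  have h4 := Nat.factorial_le h3
  have h5 : r.factorial = r * (r - 1).factorial := (Nat.mul_factorial_pred (by omega)).symm
  have h6 : 0 < (r - 1).factorial := Nat.factorial_pos _
  nlinarith

end Cfsg.Agent.AltDeg
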