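import Cfsg.Agent.Lib.AltDeg.Perm

set_option autoImplicit false

/-!
# Projective representations of the alternating group: lifts, commutators, canonical lifts
-/

namespace Cfsg.Agent.AltDeg

universe u v

variable {r : ℕ} {k : Type u} [Field k] {V : Type v} [AddCommGroup V] [Module k V]

/-- Scalar operators as units. -/
def sc : kˣ →* (Module.End k V)ˣ := Units.map (algebraMap k (Module.End k V)).toMonoidHom

lemma sc_val (c : kˣ) : ((sc c : (Module.End k V)ˣ) : Module.End k V) = (c : k) • 1 := by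
  rw [sc, Units.coe_map]
  exact Algebra.algebraMap_eq_smul_one _

lemma sc_apply (c : kˣ) (v : V) :
    ((sc c : (Module.End k V)ˣ) : Module.End k V) v = (c : k) • v := by
  rw [sc_val]; rfl

lemma sc_comm (c : kˣ) (X : (Module.End k V)ˣ) : sc c * X = X * sc c := by
  ext1
  rw [Units.val_mul, Units.val_mul, sc_val, smul_mul_assoc, one_mul, mul_smul_comm, mul_one]

lemma commute_sc (c : kˣ) (X : (Module.End k V)ˣ) : Commute X (sc c) := (sc_comm c X).symm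

lemma sc_inj [Nontrivial V] {c d : kˣ} (h : (sc c : (Module.End k V)ˣ) = sc d) : c = d := by
  obtain ⟨v, hv⟩ := exists_ne (0 : V)
  have := congrArg (fun X : (Module.End k V)ˣ => (X : Module.End k V) v) h
  simp only [sc_apply] at this
  exact Units.ext (smul_left_injective k hv this)

lemma mul_apply_units (X Y : (Module.End k V)ˣ) (v : V) :
    ((X * Y : (Module.End k V)ˣ) : Module.End k V) v =
      (X : Module.End k V) ((Y : Module.End k V) v) := rfl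

lemma inv_apply_units (X : (Module.End k V)ˣ) (v : V) :
    ((X⁻¹ : (Module.End k V)ˣ) : Module.End k V) ((X : Module.End k V) v) = v := by
  rw [← mul_apply_units, inv_mul_cancel]; rfl

lemma apply_inv_units (X : (Module.End k V)ˣ) (v : V) :
    (X : Module.End k V) (((X⁻¹ : (Module.End k V)ˣ) : Module.End k V) v) = v := by
  rw [← mul_apply_units, mul_inv_cancel]; rfl

/-- An irreducible projective representation of `Alt r` with trivial scalar kernel. -/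
structure PRep (r : ℕ) (k : Type u) (V : Type v) [Field k] [AddCommGroup V] [Module k V] where
  T : Alt r → (Module.End k V)ˣ
  map_mul : ∀ g h, ∃ c : kˣ, T g * T h = sc c * T (g * h)
  irred : ∀ W : Submodule k V, (∀ g, ∀ w ∈ W, (T g : Module.End k V) w ∈ W) → W = ⊥ ∨ W = ⊤
  nonscalar : ∀ g, g ≠ 1 → ∀ c : kˣ, T g ≠ sc c

namespace PRep

variable (ρ : PRep r k V)

/-- `X` is a lift of `g`. -/
def IsLift (g : Alt r) (X : (Module.End k V)ˣ) : Prop := ∃ c : kˣ, X = sc c * ρ.T g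

lemma lift_T (g : Alt r) : ρ.IsLift g (ρ.T g) := ⟨1, by simp⟩

lemma lift_mul {g h : Alt r} {X Y : (Module.End k V)ˣ} (hX : ρ.IsLift g X) (hY : ρ.IsLift h Y) :
    ρ.IsLift (g * h) (X * Y) := by
  obtain ⟨c, rfl⟩ := hX
  obtain ⟨d, rfl⟩ := hY
  obtain ⟨e, he⟩ := ρ.map_mul g h
  refine ⟨c * d * e, ?_⟩
  calc sc c * ρ.T g * (sc d * ρ.T h) = sc c * (ρ.T g * sc d) * ρ.T h := by group
    _ = sc c * sc d * (ρ.T g * ρ.T h) := by rw [← sc_comm]; group
    _ = sc (c * d * e) * ρ.T (g * h) := by rw [he, _root_.map_mul, _root_.map_mul]; group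

lemma lift_one : ρ.IsLift 1 1 := by
  obtain ⟨c, hc⟩ := ρ.map_mul 1 1
  rw [mul_one] at hc
  have h : ρ.T 1 = sc c := mul_right_cancel hc
  exact ⟨c⁻¹, by rw [h, ← _root_.map_mul, inv_mul_cancel, map_one]⟩

lemma lift_unique {g : Alt r} {X Y : (Module.End k V)ˣ} (hX : ρ.IsLift g X)
    (hY : ρ.IsLift g Y) : ∃ c : kˣ, Y = sc c * X := by
  obtain ⟨c, rfl⟩ := hX
  obtain ⟨d, rfl⟩ := hY
  exact ⟨d * c⁻¹, by rw [← mul_assoc, ← _root_.map_mul, inv_mul_cancel_right]⟩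

lemma lift_sc_mul {g : Alt r} {X : (Module.End k V)ˣ} (hX : ρ.IsLift g X) (c : kˣ) :
    ρ.IsLift g (sc c * X) := by
  obtain ⟨d, rfl⟩ := hX
  exact ⟨c * d, by rw [_root_.map_mul, mul_assoc]⟩

lemma lift_inv {g : Alt r} {X : (Module.End k V)ˣ} (hX : ρ.IsLift g X) :
    ρ.IsLift g⁻¹ X⁻¹ := by
  have h := ρ.lift_mul hX (ρ.lift_T g⁻¹)
  rw [mul_inv_cancel] at h
  obtain ⟨c, hc⟩ := ρ.lift_unique ρ.lift_one h
  rw [mul_one] at hc
  refine ⟨c⁻¹, ?_⟩
  rw [inv_eq_iff_mul_eq_one, ← mul_assoc, ← sc_comm, mul_assoc, hc, ← _root_.map_mul,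
    inv_mul_cancel, map_one]

lemma lift_conj {g h : Alt r} {X Y : (Module.End k V)ˣ} (hX : ρ.IsLift g X)
    (hY : ρ.IsLift h Y) : ρ.IsLift (g * h * g⁻¹) (X * Y * X⁻¹) :=
  ρ.lift_mul (ρ.lift_mul hX hY) (ρ.lift_inv hX)

lemma lift_scalar {g : Alt r} {c : kˣ} (hX : ρ.IsLift g (sc c)) : g = 1 := by
  by_contra hg
  obtain ⟨d, hd⟩ := hX
  exact ρ.nonscalar g hg (d⁻¹ * c) (by
    rw [_root_.map_mul, hd, ← mul_assoc, ← _root_.map_mul, inv_mul_cancel, map_one, one_mul])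

lemma exists_comm_scalar {g h : Alt r} (hgh : Commute g h) {X Y : (Module.End k V)ˣ}
    (hX : ρ.IsLift g X) (hY : ρ.IsLift h Y) : ∃ c : kˣ, X * Y = sc c * (Y * X) := by
  refine ρ.lift_unique (ρ.lift_mul hY hX) ?_
  rw [← hgh.eq]
  exact ρ.lift_mul hX hY

lemma not_commute_of_not_commute {g h : Alt r} (hgh : ¬ Commute g h) {X Y : (Module.End k V)ˣ}
    (hX : ρ.IsLift g X) (hY : ρ.IsLift h Y) : ¬ Commute X Y := by
  intro hXY
  have h1 := ρ.lift_mul (ρ.lift_conj hX hY) (ρ.lift_inv hY)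
  rw [hXY.eq, mul_inv_cancel_right, mul_inv_cancel, ← map_one (sc (k := k) (V := V))] at h1
  have h2 := ρ.lift_scalar h1
  rw [mul_inv_eq_one, mul_inv_eq_iff_eq_mul] at h2
  exact hgh h2

/-- Elements commuting with `g` whose lifts commute with the lift `X` of `g`. -/
def centLift (g : Alt r) (X : (Module.End k V)ˣ) : Subgroup (Alt r) where
  carrier := {h | Commute g h ∧ ∀ Y, ρ.IsLift h Y → Commute X Y}
  one_mem' := by
    refine ⟨Commute.one_right g, fun Y hY => ?_⟩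
    obtain ⟨c, rfl⟩ := ρ.lift_unique ρ.lift_one hY
    rw [mul_one]
    exact commute_sc c X
  mul_mem' := by
    rintro a b ⟨ha, ha'⟩ ⟨hb, hb'⟩
    refine ⟨ha.mul_right hb, fun Y hY => ?_⟩
    obtain ⟨c, rfl⟩ := ρ.lift_unique (ρ.lift_mul (ρ.lift_T a) (ρ.lift_T b)) hY
    exact (commute_sc c X).mul_right ((ha' _ (ρ.lift_T a)).mul_right (hb' _ (ρ.lift_T b)))
  inv_mem' := by
    rintro a ⟨ha, ha'⟩
    refine ⟨ha.inv_right, fun Y hY => ?_⟩
    have h1 := ρ.lift_inv hY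
    rw [inv_inv] at h1
    simpa using (ha' _ h1).inv_right

lemma mem_centLift {g h : Alt r} {X : (Module.End k V)ˣ} :
    h ∈ ρ.centLift g X ↔ Commute g h ∧ ∀ Y, ρ.IsLift h Y → Commute X Y := Iff.rfl

lemma mem_centLift_of {g h : Alt r} {X Y : (Module.End k V)ˣ} (hgh : Commute g h)
    (hY : ρ.IsLift h Y) (hXY : Commute X Y) : h ∈ ρ.centLift g X := by
  refine ⟨hgh, fun Z hZ => ?_⟩
  obtain ⟨c, rfl⟩ := ρ.lift_unique hY hZ
  exact (commute_sc c X).mul_right hXY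

lemma commutator_mem_centLift {g p q : Alt r} {X : (Module.End k V)ˣ} (hX : ρ.IsLift g X)
    (hp : Commute g p) (hq : Commute g q) : p * q * p⁻¹ * q⁻¹ ∈ ρ.centLift g X := by
  obtain ⟨a, ha⟩ := ρ.exists_comm_scalar hp hX (ρ.lift_T p)
  obtain ⟨b, hb⟩ := ρ.exists_comm_scalar hq hX (ρ.lift_T q)
  refine ρ.mem_centLift_of (((hp.mul_right hq).mul_right hp.inv_right).mul_right hq.inv_right)
    (ρ.lift_mul (ρ.lift_conj (ρ.lift_T p) (ρ.lift_T q)) (ρ.lift_inv (ρ.lift_T q))) ?_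
  have hP : X * ρ.T p * X⁻¹ = sc a * ρ.T p := by rw [ha]; group
  have hQ : X * ρ.T q * X⁻¹ = sc b * ρ.T q := by rw [hb]; group
  show X * _ = _ * X
  rw [← mul_inv_eq_iff_eq_mul]
  calc X * (ρ.T p * ρ.T q * (ρ.T p)⁻¹ * (ρ.T q)⁻¹) * X⁻¹
      = (X * ρ.T p * X⁻¹) * (X * ρ.T q * X⁻¹) * (X * ρ.T p * X⁻¹)⁻¹ *
          (X * ρ.T q * X⁻¹)⁻¹ := by group
    _ = sc a * (ρ.T p * sc b) * (ρ.T q * (ρ.T p)⁻¹ * (sc a)⁻¹) * ((ρ.T q)⁻¹ * (sc b)⁻¹) := by
        rw [hP, hQ]; group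
    _ = ρ.T p * ρ.T q * (ρ.T p)⁻¹ * (ρ.T q)⁻¹ := by
        rw [← sc_comm b (ρ.T p), ← map_inv, ← map_inv, ← sc_comm a⁻¹, ← sc_comm b⁻¹]
        calc sc a * (sc b * ρ.T p) * (sc a⁻¹ * (ρ.T q * (ρ.T p)⁻¹)) * (sc b⁻¹ * (ρ.T q)⁻¹)
            = sc a * sc b * (ρ.T p * sc a⁻¹) * ((ρ.T q * (ρ.T p)⁻¹) * sc b⁻¹) * (ρ.T q)⁻¹ := by
              group
          _ = sc a * sc b * sc a⁻¹ * (ρ.T p * sc b⁻¹) * ((ρ.T q * (ρ.T p)⁻¹)) * (ρ.T q)⁻¹ := by
              rw [← sc_comm a⁻¹ (ρ.T p), ← sc_comm b⁻¹ (ρ.T q * (ρ.T p)⁻¹)]; group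
          _ = ρ.T p * ρ.T q * (ρ.T p)⁻¹ * (ρ.T q)⁻¹ := by
              rw [← sc_comm b⁻¹ (ρ.T p)]
              simp only [← mul_assoc, ← _root_.map_mul]
              simp [mul_comm a b, mul_assoc]

/-- Lifts of a set of at least five points moved only centralise every lift centralised downstairs. -/
theorem suppIn_le_centLift {S : Finset (Fin r)} (hS : 5 ≤ S.card) {g : Alt r}
    {X : (Module.End k V)ˣ} (hX : ρ.IsLift g X) (hg : ∀ h ∈ suppIn S, Commute g h) :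
    suppIn S ≤ ρ.centLift g X := by
  refine suppIn_le_of_c3 S _ fun a b c ha hb hc hab hac hbc => ?_
  obtain ⟨p, hp, q, hq, he⟩ := c3_eq_commutator hS ha hb hc hab hac hbc
  rw [he]
  exact ρ.commutator_mem_centLift hX (hg p hp) (hg q hq)

/-- The lift of a conjugate of `g` obtained from the lift `X`. -/
noncomputable def classLift (g : Alt r) (X : (Module.End k V)ˣ) (h : Alt r) :
    (Module.End k V)ˣ :=
  open Classical in
  if hh : ∃ σ, σ * g * σ⁻¹ = h then ρ.T hh.choose * X * (ρ.T hh.choose)⁻¹ else 1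

variable {ρ}

lemma classLift_eq {g : Alt r} {X : (Module.End k V)ˣ}
    (hc : ∀ h, Commute g h → h ∈ ρ.centLift g X) {σ h : Alt r} (hσ : σ * g * σ⁻¹ = h)
    {Y : (Module.End k V)ˣ} (hY : ρ.IsLift σ Y) : ρ.classLift g X h = Y * X * Y⁻¹ := by
  have hex : ∃ σ, σ * g * σ⁻¹ = h := ⟨σ, hσ⟩
  rw [classLift, dif_pos hex]
  set τ := hex.choose with hτ'
  have hτ : τ * g * τ⁻¹ = h := hex.choose_spec
  have hcom : Commute g (σ⁻¹ * τ) := by
    show g * (σ⁻¹ * τ) = σ⁻¹ * τ * g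
    have h1 : τ * g * τ⁻¹ = σ * g * σ⁻¹ := hτ.trans hσ.symm
    calc g * (σ⁻¹ * τ) = σ⁻¹ * (σ * g * σ⁻¹) * τ := by group
      _ = σ⁻¹ * τ * g := by rw [← h1]; group
  have h2 : Commute X (Y⁻¹ * ρ.T τ) :=
    (hc _ hcom).2 _ (ρ.lift_mul (ρ.lift_inv hY) (ρ.lift_T τ))
  calc ρ.T τ * X * (ρ.T τ)⁻¹ = Y * ((Y⁻¹ * ρ.T τ) * X) * (Y⁻¹ * ρ.T τ)⁻¹ * Y⁻¹ := by group
    _ = Y * X * Y⁻¹ := by rw [← h2.eq]; group

lemma classLift_self {g : Alt r} {X : (Module.End k V)ˣ}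
    (hc : ∀ h, Commute g h → h ∈ ρ.centLift g X) : ρ.classLift g X g = X := by
  rw [classLift_eq hc (σ := 1) (by group) ρ.lift_one]
  group

lemma classLift_conj {g : Alt r} {X : (Module.End k V)ˣ}
    (hc : ∀ h, Commute g h → h ∈ ρ.centLift g X) {h τ : Alt r} (hh : ∃ σ, σ * g * σ⁻¹ = h)
    {Y : (Module.End k V)ˣ} (hY : ρ.IsLift τ Y) :
    Y * ρ.classLift g X h * Y⁻¹ = ρ.classLift g X (τ * h * τ⁻¹) := by
  obtain ⟨σ, hσ⟩ := hh
  rw [classLift_eq hc hσ (ρ.lift_T σ), classLift_eq hc (σ := τ * σ) (by rw [← hσ]; group)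
    (ρ.lift_mul hY (ρ.lift_T σ))]
  group

lemma isLift_classLift {g : Alt r} {X : (Module.End k V)ˣ} (hX : ρ.IsLift g X)
    (hc : ∀ h, Commute g h → h ∈ ρ.centLift g X) {h : Alt r} (hh : ∃ σ, σ * g * σ⁻¹ = h) :
    ρ.IsLift h (ρ.classLift g X h) := by
  obtain ⟨σ, hσ⟩ := hh
  rw [classLift_eq hc hσ (ρ.lift_T σ), ← hσ]
  exact ρ.lift_conj (ρ.lift_T σ) hX

variable (ρ)

/-- A subspace invariant under lifts of all 3-cycles is trivial. -/
theorem eq_bot_or_top_of_c3 (W : Submodule k V) [FiniteDimensional k V]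
    (h : ∀ a b c : Fin r, a ≠ b → a ≠ c → b ≠ c → ∀ X, ρ.IsLift (c3 a b c) X →
      ∀ w ∈ W, (X : Module.End k V) w ∈ W) : W = ⊥ ∨ W = ⊤ := by
  refine ρ.irred W fun g => ?_
  let K : Subgroup (Alt r) :=
    { carrier := {g | ∀ w ∈ W, (ρ.T g : Module.End k V) w ∈ W}
      one_mem' := fun w hw => by
        obtain ⟨c, hc⟩ := ρ.lift_unique ρ.lift_one (ρ.lift_T 1)
        rw [hc, mul_one, sc_apply]
        exact W.smul_mem _ hw
      mul_mem' := fun {a b} ha hb w hw => by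
        obtain ⟨c, hc⟩ := ρ.lift_unique (ρ.lift_mul (ρ.lift_T a) (ρ.lift_T b)) (ρ.lift_T (a * b))
        rw [hc, mul_apply_units, mul_apply_units, sc_apply]
        exact W.smul_mem _ (ha _ (hb w hw))
      inv_mem' := fun {a} ha w hw => by
        obtain ⟨c, hc⟩ := ρ.lift_unique (ρ.lift_inv (ρ.lift_T a)) (ρ.lift_T a⁻¹)
        rw [hc, mul_apply_units, sc_apply]
        refine W.smul_mem _ ?_
        have hm : W.map (ρ.T a : Module.End k V) = W := by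
          apply Submodule.eq_of_le_of_finrank_eq
          · rintro x ⟨y, hy, rfl⟩
            exact ha y hy
          · exact LinearEquiv.finrank_map_eq (LinearMap.GeneralLinearGroup.toLinearEquiv (ρ.T a)) W
        rw [← hm] at hw
        obtain ⟨y, hy, rfl⟩ := hw
        rwa [inv_apply_units] }
  have hK : suppIn (Finset.univ : Finset (Fin r)) ≤ K :=
    suppIn_le_of_c3 _ K fun a b c _ _ _ hab hac hbc => h a b c hab hac hbc _ (ρ.lift_T _)
  rw [suppIn_univ] at hK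
  exact hK (Subgroup.mem_top g)

end PRep

end Cfsg.Agent.AltDeg
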