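import Cfsg.Agent.Lib.AltDeg.CharNeThree

set_option autoImplicit false

/-!
# Joint eigenvalues of disjoint 3-cycles; the bound in characteristic different from three
-/

namespace Cfsg.Agent.AltDeg

open Module

universe u v

variable {r : ℕ} {k : Type u} [Field k] {V : Type v} [AddCommGroup V] [Module k V]

/-- The `j`-th point of the `i`-th block of three points. -/
def bp (i : Fin (r / 3)) (j : Fin 3) : Fin r := ⟨3 * i.1 + j.1, by omega⟩

lemma bp_inj {i i' : Fin (r / 3)} {j j' : Fin 3} (h : bp i j = bp i' j') : i = i' ∧ j = j' := by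
  simp only [bp, Fin.ext_iff] at h
  constructor <;> ext <;> omega

lemma bp_ne {i i' : Fin (r / 3)} {j j' : Fin 3} (h : i ≠ i' ∨ j ≠ j') : bp i j ≠ bp i' j' :=
  fun he => h.elim (fun h => h (bp_inj he).1) (fun h => h (bp_inj he).2)

namespace CycLift

variable {ρ : PRep r k V} (L : CycLift ρ)

/-- The canonical lift of the 3-cycle of the block `i`. -/
def Xb (i : Fin (r / 3)) : (Module.End k V)ˣ := L.ξ (bp i 0) (bp i 1) (bp i 2)

lemma Xb_commute (i j : Fin (r / 3)) : Commute (L.Xb i : Module.End k V) (L.Xb j) := by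
  by_cases h : i = j
  · subst h; exact Commute.refl _
  · exact Commute.units_val (L.commute_disjoint (bp_ne (Or.inr (by decide)))
      (bp_ne (Or.inr (by decide))) (bp_ne (Or.inr (by decide))) (bp_ne (Or.inr (by decide)))
      (bp_ne (Or.inr (by decide))) (bp_ne (Or.inr (by decide)))
      ⟨bp_ne (Or.inl (Ne.symm h)), bp_ne (Or.inl (Ne.symm h)), bp_ne (Or.inl (Ne.symm h))⟩
      ⟨bp_ne (Or.inl (Ne.symm h)), bp_ne (Or.inl (Ne.symm h)), bp_ne (Or.inl (Ne.symm h))⟩
      ⟨bp_ne (Or.inl (Ne.symm h)), bp_ne (Or.inl (Ne.symm h)), bp_ne (Or.inl (Ne.symm h))⟩)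

/-- `μ` is a joint eigenvalue function of the block 3-cycles. -/
def IsWt (μ : Fin (r / 3) → k) : Prop :=
  ∃ v : V, v ≠ 0 ∧ ∀ i, (L.Xb i : Module.End k V) v = μ i • v

variable {L}

lemma IsWt.cube {μ : Fin (r / 3) → k} (h : L.IsWt μ) (i : Fin (r / 3)) : μ i ^ 3 = 1 := by
  obtain ⟨v, hv, hμ⟩ := h
  exact L.eigen_cube (bp_ne (Or.inr (by decide))) (bp_ne (Or.inr (by decide)))
    (bp_ne (Or.inr (by decide))) hv (hμ i)

/-- Transport of a weight by an element permuting the blocks. -/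
lemma IsWt.transport {μ μ' : Fin (r / 3) → k} (h : L.IsWt μ) (τ : Alt r)
    (hτ : ∀ i, ∃ l, (((τ : Equiv.Perm (Fin r)) (bp l 0) = bp i 0 ∧
        (τ : Equiv.Perm (Fin r)) (bp l 1) = bp i 1 ∧
        (τ : Equiv.Perm (Fin r)) (bp l 2) = bp i 2) ∧ μ' i = μ l) ∨
      (((τ : Equiv.Perm (Fin r)) (bp l 0) = bp i 0 ∧ (τ : Equiv.Perm (Fin r)) (bp l 1) = bp i 2 ∧
        (τ : Equiv.Perm (Fin r)) (bp l 2) = bp i 1) ∧ μ' i = (μ l)⁻¹)) : L.IsWt μ' := by
  have hcube := fun i => h.cube i
  obtain ⟨v, hv, hμ⟩ := h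
  refine ⟨(ρ.T τ : Module.End k V) v, fun h0 => hv ?_, fun i => ?_⟩
  · rw [← inv_apply_units (ρ.T τ) v, h0, map_zero]
  have ne01 : ∀ l : Fin (r / 3), bp l 0 ≠ bp l 1 := fun l => bp_ne (Or.inr (by decide))
  have ne02 : ∀ l : Fin (r / 3), bp l 0 ≠ bp l 2 := fun l => bp_ne (Or.inr (by decide))
  have ne12 : ∀ l : Fin (r / 3), bp l 1 ≠ bp l 2 := fun l => bp_ne (Or.inr (by decide))
  obtain ⟨l, ⟨⟨h0, h1, h2⟩, he⟩ | ⟨⟨h0, h1, h2⟩, he⟩⟩ := hτ i
  · have hc := L.conj _ _ _ (ne01 l) (ne02 l) (ne12 l) τ (ρ.T τ) (ρ.lift_T τ)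
    rw [h0, h1, h2] at hc
    rw [Xb, ← hc, mul_apply_units, mul_apply_units, inv_apply_units, ← Xb, hμ l, map_smul, he]
  · have hc := L.conj _ _ _ (ne01 l) (ne02 l) (ne12 l) τ (ρ.T τ) (ρ.lift_T τ)
    rw [h0, h1, h2, L.inv _ _ _ (ne01 i) (ne02 i) (ne12 i)] at hc
    have hX : L.ξ (bp i 0) (bp i 1) (bp i 2) =
        ρ.T τ * (L.ξ (bp l 0) (bp l 1) (bp l 2))⁻¹ * (ρ.T τ)⁻¹ := by
      rw [← inv_inv (L.ξ (bp i 0) (bp i 1) (bp i 2)), ← hc]
      group
    have hl : ((L.Xb l)⁻¹ : (Module.End k V)ˣ).val v = (μ l)⁻¹ • v := by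
      have hne : μ l ≠ 0 := by
        intro h0
        have := hcube l
        rw [h0] at this
        simp at this
      have := congrArg (fun w => ((L.Xb l)⁻¹ : (Module.End k V)ˣ).val w) (hμ l)
      simp only [inv_apply_units, map_smul] at this
      rw [show (μ l)⁻¹ • v = (μ l)⁻¹ • (μ l • ((L.Xb l)⁻¹ : (Module.End k V)ˣ).val v) by
        rw [← this], smul_smul, inv_mul_cancel₀ hne, one_smul]
    rw [Xb, hX, mul_apply_units, mul_apply_units, inv_apply_units, ← Xb, hl, map_smul, he]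

/-- The blocks may be permuted as soon as one coordinate is trivial. -/
lemma IsWt.perm {μ : Fin (r / 3) → k} (h : L.IsWt μ) {z : Fin (r / 3)} (hz : μ z = 1)
    (π : Equiv.Perm (Fin (r / 3))) : L.IsWt (fun i => μ (π.symm i)) := by
  classical
  let ι : Fin (r / 3) × Fin 3 ↪ Fin r :=
    ⟨fun x => bp x.1 x.2, fun x y hxy => Prod.ext (bp_inj hxy).1 (bp_inj hxy).2⟩
  let P : Equiv.Perm (Fin r) :=
    Equiv.Perm.viaEmbedding (Equiv.prodCongr π (Equiv.refl (Fin 3))) ι
  have hP : ∀ l j, P (bp l j) = bp (π l) j := fun l j =>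
    Equiv.Perm.viaEmbedding_apply (Equiv.prodCongr π (Equiv.refl (Fin 3))) ι (l, j)
  have hne : bp z 1 ≠ bp z 2 := bp_ne (Or.inr (by decide))
  rcases Int.units_eq_one_or (Equiv.Perm.sign P) with hs | hs
  · refine h.transport (toAlt P) fun i => ⟨π.symm i, Or.inl ⟨?_, rfl⟩⟩
    simp only [toAlt_coe hs, hP, Equiv.apply_symm_apply, and_self]
  · have hs' : Equiv.Perm.sign (P * Equiv.swap (bp z 1) (bp z 2)) = 1 := by
      rw [map_mul, hs, Equiv.Perm.sign_swap hne]; rfl
    refine h.transport (toAlt (P * Equiv.swap (bp z 1) (bp z 2))) fun i => ⟨π.symm i, ?_⟩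
    rw [toAlt_coe hs']
    by_cases hi : π.symm i = z
    · refine Or.inr ⟨⟨?_, ?_, ?_⟩, by rw [hi, hz, inv_one]⟩
      · rw [Equiv.Perm.mul_apply, Equiv.swap_apply_of_ne_of_ne (bp_ne (Or.inr (by decide)))
          (bp_ne (Or.inr (by decide))), hP, Equiv.apply_symm_apply]
      · rw [hi, Equiv.Perm.mul_apply, Equiv.swap_apply_left, hP, ← hi, Equiv.apply_symm_apply]
      · rw [hi, Equiv.Perm.mul_apply, Equiv.swap_apply_right, hP, ← hi, Equiv.apply_symm_apply]
    · refine Or.inl ⟨?_, rfl⟩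
      simp only [Equiv.Perm.mul_apply]
      rw [Equiv.swap_apply_of_ne_of_ne (bp_ne (Or.inl hi)) (bp_ne (Or.inl hi)),
        Equiv.swap_apply_of_ne_of_ne (bp_ne (Or.inl hi)) (bp_ne (Or.inl hi)),
        Equiv.swap_apply_of_ne_of_ne (bp_ne (Or.inl hi)) (bp_ne (Or.inl hi))]
      simp only [hP, Equiv.apply_symm_apply, and_self]

/-- Two coordinates may be inverted together. -/
lemma IsWt.flip_two {μ : Fin (r / 3) → k} (h : L.IsWt μ) {a b : Fin (r / 3)} (hab : a ≠ b) :
    L.IsWt (fun i => if i = a ∨ i = b then (μ i)⁻¹ else μ i) := by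
  classical
  have ha : bp a 1 ≠ bp a 2 := bp_ne (Or.inr (by decide))
  have hb : bp b 1 ≠ bp b 2 := bp_ne (Or.inr (by decide))
  refine h.transport (d2 (bp a 1) (bp a 2) (bp b 1) (bp b 2)) fun i => ⟨i, ?_⟩
  by_cases hi : i = a ∨ i = b
  · refine Or.inr ⟨⟨?_, ?_, ?_⟩, if_pos hi⟩
    · exact d2_apply_ne ha hb (bp_ne (Or.inr (by decide))) (bp_ne (Or.inr (by decide)))
        (bp_ne (Or.inr (by decide))) (bp_ne (Or.inr (by decide)))
    · rcases hi with rfl | rfl
      · exact d2_apply_a ha hb (bp_ne (Or.inl hab)) (bp_ne (Or.inl hab))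
      · exact d2_apply_c ha hb (bp_ne (Or.inl hab)) (bp_ne (Or.inl hab))
    · rcases hi with rfl | rfl
      · exact d2_apply_b ha hb (bp_ne (Or.inl hab)) (bp_ne (Or.inl hab))
      · exact d2_apply_d ha hb (bp_ne (Or.inl hab)) (bp_ne (Or.inl hab))
  · rw [not_or] at hi
    exact Or.inl ⟨⟨d2_apply_ne ha hb (bp_ne (Or.inl hi.1)) (bp_ne (Or.inl hi.1))
        (bp_ne (Or.inl hi.2)) (bp_ne (Or.inl hi.2)),
      d2_apply_ne ha hb (bp_ne (Or.inl hi.1)) (bp_ne (Or.inl hi.1))
        (bp_ne (Or.inl hi.2)) (bp_ne (Or.inl hi.2)),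
      d2_apply_ne ha hb (bp_ne (Or.inl hi.1)) (bp_ne (Or.inl hi.1))
        (bp_ne (Or.inl hi.2)) (bp_ne (Or.inl hi.2))⟩, if_neg (not_or.mpr hi)⟩

/-- One coordinate may be inverted as soon as another is trivial. -/
lemma IsWt.flip_one {μ : Fin (r / 3) → k} (h : L.IsWt μ) {z : Fin (r / 3)} (hz : μ z = 1)
    (a : Fin (r / 3)) : L.IsWt (fun i => if i = a then (μ i)⁻¹ else μ i) := by
  by_cases haz : a = z
  · subst haz
    convert h using 1
    funext i
    by_cases hi : i = a
    · subst hi; rw [if_pos rfl, hz, inv_one]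
    · rw [if_neg hi]
  · convert h.flip_two haz using 1
    funext i
    by_cases hi : i = a
    · simp [hi]
    · by_cases hiz : i = z
      · subst hiz; simp [hi, hz]
      · simp [hi, hiz]

variable (L)

lemma card_le_of_wt [FiniteDimensional k V] {ι : Type*} [Fintype ι]
    (f : ι → Fin (r / 3) → k) (hf : Function.Injective f) (hw : ∀ i, L.IsWt (f i)) :
    Fintype.card ι ≤ finrank k V := by
  choose v hv hμ using hw
  exact card_le_of_eigen v (fun i => (L.Xb i : Module.End k V)) f hμ hv hf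

lemma exists_wt_of_invariant [IsAlgClosed k] [FiniteDimensional k V] (W : Submodule k V)
    (hW : W ≠ ⊥) (hinv : ∀ i, ∀ w ∈ W, (L.Xb i : Module.End k V) w ∈ W) :
    ∃ v ∈ W, v ≠ 0 ∧ ∃ μ, L.IsWt μ ∧ ∀ i, (L.Xb i : Module.End k V) v = μ i • v := by
  obtain ⟨v, hv, hv0, μ, hμ⟩ := exists_joint_eigen (fun i => (L.Xb i : Module.End k V))
    (fun s t => L.Xb_commute s t) W hW hinv
  exact ⟨v, hv, hv0, μ, ⟨v, hv0, hμ⟩, hμ⟩

open Classical in
/-- A weight with a trivial coordinate and at least two non-trivial ones forces many weights. -/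
lemma bound_partial [FiniteDimensional k V] (hr : 9 ≤ r) {μ : Fin (r / 3) → k} (h : L.IsWt μ)
    {z a b : Fin (r / 3)} (hz : μ z = 1) (hab : a ≠ b) (ha : μ a ≠ 1) (hb : μ b ≠ 1) :
    r - 1 ≤ finrank k V := by
  set S₀ : Finset (Fin (r / 3)) := Finset.univ.filter (fun i => μ i ≠ 1) with hS₀
  have hcube : ∀ i, μ i ^ 3 = 1 := fun i => h.cube i
  have hperm : ∀ S : Finset (Fin (r / 3)), S.card = S₀.card →
      ∃ μ', L.IsWt μ' ∧
        (∀ i, μ' i ≠ 1 ↔ i ∈ S) ∧ (∃ z', μ' z' = 1) ∧ (∀ i, μ' i ^ 3 = 1) := by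
    intro S hS
    obtain ⟨e, he⟩ : ∃ e : Equiv.Perm (Fin (r / 3)), ∀ x : {x // x ∈ S₀}, e x.1 ∈ S := by
      obtain ⟨σ, hσ⟩ := Equiv.Perm.exists_smul_eq_embedding
        (⟨fun x : {x // x ∈ S₀} => x.1, Subtype.val_injective⟩ : {x // x ∈ S₀} ↪ Fin (r / 3))
        ⟨fun x => ((Finset.equivOfCardEq hS.symm) x).1,
          Subtype.val_injective.comp (Equiv.injective _)⟩
      refine ⟨σ, fun x => ?_⟩
      have := congrArg (fun f : {x // x ∈ S₀} ↪ Fin (r / 3) => f x) hσ
      simp only [Function.Embedding.smul_apply] at this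
      rw [show σ x.1 = ((Finset.equivOfCardEq hS.symm) x).1 from this]
      exact Subtype.mem _
    refine ⟨fun i => μ (e.symm i), h.perm hz e, fun i => ?_, ⟨e z, by simp [hz]⟩,
      fun i => hcube _⟩
    have hiff : S₀.map e.toEmbedding = S := by
      apply Finset.eq_of_subset_of_card_le
      · intro x hx
        obtain ⟨y, hy, rfl⟩ := Finset.mem_map.mp hx
        exact he ⟨y, hy⟩
      · rw [Finset.card_map, hS]
    rw [← hiff, Finset.mem_map_equiv, hS₀, Finset.mem_filter]
    simp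
  choose μS hwt hsupp hzero hμc using hperm
  have hj : 2 ≤ S₀.card := Finset.one_lt_card.mpr
    ⟨a, by simp [hS₀, ha], b, by simp [hS₀, hb], hab⟩
  have hjm : S₀.card < r / 3 := by
    have : S₀ ⊂ Finset.univ := Finset.ssubset_univ_iff.mpr (fun he => by
      have : z ∈ S₀ := he ▸ Finset.mem_univ z
      simp [hS₀, hz] at this)
    simpa using Finset.card_lt_card this
  let P : Finset (Finset (Fin (r / 3))) := Finset.univ.powersetCard S₀.card
  have hPc : ∀ S : {S // S ∈ P}, S.1.card = S₀.card := fun S =>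
    (Finset.mem_powersetCard.mp S.2).2
  have htwo : ∀ S : {S // S ∈ P}, ∃ x y, x ∈ S.1 ∧ y ∈ S.1 ∧ x ≠ y := fun S => by
    obtain ⟨x, hx, y, hy, hxy⟩ := Finset.one_lt_card.mp (show 1 < S.1.card by rw [hPc]; omega)
    exact ⟨x, y, hx, hy, hxy⟩
  choose xa xb hxa hxb hxab using htwo
  let f : {S // S ∈ P} × Bool × Bool → Fin (r / 3) → k := fun p i =>
    if (i = xa p.1 ∧ p.2.1 = true) ∨ (i = xb p.1 ∧ p.2.2 = true) then
      (μS p.1.1 (hPc p.1) i)⁻¹ else μS p.1.1 (hPc p.1) i
  have hfs : ∀ p i, f p i ≠ 1 ↔ i ∈ p.1.1 := by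
    intro p i
    show (if _ then _ else _) ≠ (1 : k) ↔ _
    split
    · rw [ne_eq, inv_eq_one]; exact hsupp _ _ i
    · exact hsupp _ _ i
  have hinj : Function.Injective f := by
    rintro ⟨S, e1, e2⟩ ⟨S', e1', e2'⟩ hff
    have hSS : S = S' := by
      apply Subtype.ext
      ext i
      rw [← hfs (S, e1, e2) i, hff, hfs (S', e1', e2') i]
    subst hSS
    have hne : ∀ x ∈ S.1, μS S.1 (hPc S) x ≠ (μS S.1 (hPc S) x)⁻¹ := fun x hx =>
      ne_inv_of_cube (hμc _ _ x) ((hsupp _ _ x).mpr hx)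
    have h1 := congrFun hff (xa S)
    have h2 := congrFun hff (xb S)
    simp only [f, hxab S, Ne.symm (hxab S), true_and, false_and, or_false, false_or] at h1 h2
    congr
    · cases e1 <;> cases e1' <;> simp at h1 ⊢
      · exact hne _ (hxa S) h1
      · exact hne _ (hxa S) h1.symm
    · cases e2 <;> cases e2' <;> simp at h2 ⊢
      · exact hne _ (hxb S) h2
      · exact hne _ (hxb S) h2.symm
  have hw : ∀ p, L.IsWt (f p) := by
    rintro ⟨S, e1, e2⟩
    obtain ⟨z', hz'⟩ := hzero S.1 (hPc S)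
    have h0 := hwt S.1 (hPc S)
    cases e1 <;> cases e2
    · convert h0 using 1; funext i; simp [f]
    · convert h0.flip_one hz' (xb S) using 1; funext i; simp [f]
    · convert h0.flip_one hz' (xa S) using 1; funext i; simp [f]
    · convert h0.flip_two (hxab S) using 1; funext i; simp [f]
  have := L.card_le_of_wt f hinj hw
  simp only [Fintype.card_prod, Fintype.card_coe, Fintype.card_bool, P, Finset.card_powersetCard,
    Finset.card_univ, Fintype.card_fin] at this
  have h2 := le_choose_of_lt (r / 3) S₀.card (by omega) hjm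
  have : 4 * (r / 3) ≤ finrank k V := le_trans (by nlinarith) this
  omega

/-- A weight with one non-trivial coordinate together with a full one. -/
lemma bound_mixed [FiniteDimensional k V] (hr : 9 ≤ r) {μ ν : Fin (r / 3) → k} (hμ : L.IsWt μ)
    (hν : L.IsWt ν) (hμ1 : ∀ i, μ i ≠ 1) {a z : Fin (r / 3)} (ha : ν a ≠ 1) (hza : z ≠ a)
    (hν1 : ∀ i, i ≠ a → ν i = 1) : r - 1 ≤ finrank k V := by
  classical
  let b0 : Fin (r / 3) := ⟨0, by omega⟩
  let b1 : Fin (r / 3) := ⟨1, by omega⟩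
  let b2 : Fin (r / 3) := ⟨2, by omega⟩
  let pat : Option (Fin (r / 3)) → Finset (Fin (r / 3)) := fun o =>
    match o with
    | none => {b1, b2}
    | some i => if i = b0 then ∅ else {b0, i}
  let f : (Fin (r / 3) × Bool) ⊕ Option (Fin (r / 3)) → Fin (r / 3) → k := fun s =>
    match s with
    | Sum.inl p => fun i => if i = p.1 then (if p.2 then (ν a)⁻¹ else ν a) else 1
    | Sum.inr o => fun i => if i ∈ pat o then (μ i)⁻¹ else μ i
  have hw : ∀ s, L.IsWt (f s) := by
    rintro (⟨i, e⟩ | o)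
    · have h1 := hν.perm (hν1 z hza) (Equiv.swap a i)
      have h1' : L.IsWt (fun j => if j = i then ν a else 1) := by
        convert h1 using 1
        funext j
        rw [Equiv.symm_swap]
        by_cases hj : j = i
        · subst hj; rw [if_pos rfl, Equiv.swap_apply_right]
        · rw [if_neg hj]
          by_cases hja : j = a
          · subst hja
            rw [Equiv.swap_apply_left]
            exact (hν1 i (Ne.symm hj)).symm
          · rw [Equiv.swap_apply_of_ne_of_ne hja hj, hν1 j hja]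
      cases e
      · simpa [f] using h1'
      · obtain ⟨w, hw⟩ : ∃ w : Fin (r / 3), w ≠ i := by
          by_cases hi : i = b0
          · exact ⟨b1, by rw [hi]; simp [b0, b1]⟩
          · exact ⟨b0, Ne.symm hi⟩
        convert h1'.flip_one (z := w) (if_neg hw) i using 1
        funext j
        by_cases hj : j = i <;> simp [f, hj]
    · rcases o with _ | i
      · convert hμ.flip_two (show b1 ≠ b2 by simp [b1, b2]) using 1
        funext j; simp [f, pat]
      · by_cases hi : i = b0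
        · convert hμ using 1
          funext j; simp [f, pat, hi]
        · convert hμ.flip_two (Ne.symm hi) using 1
          funext j; simp [f, pat, hi]
  have hμne : ∀ i, μ i ≠ (μ i)⁻¹ := fun i => ne_inv_of_cube (hμ.cube i) (hμ1 i)
  have hνne : ν a ≠ (ν a)⁻¹ := ne_inv_of_cube (hν.cube a) ha
  have hpat : Function.Injective pat := by
    have h01 : b0 ≠ b1 := by simp [b0, b1]
    have h02 : b0 ≠ b2 := by simp [b0, b2]
    intro o o' h
    have hm : ∀ x, x ∈ pat o ↔ x ∈ pat o' := fun x => by rw [h]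
    rcases o with _ | i <;> rcases o' with _ | j
    · rfl
    · exfalso
      have e0 := hm b0
      have e1 := hm b1
      by_cases hj : j = b0
      · simp [pat, hj] at e1
      · simp [pat, hj, h01, h02] at e0
    · exfalso
      have e0 := hm b0
      have e1 := hm b1
      by_cases hi : i = b0
      · simp [pat, hi] at e1
      · simp [pat, hi, h01, h02] at e0
    · by_cases hi : i = b0 <;> by_cases hj : j = b0
      · rw [hi, hj]
      · exfalso; have e0 := hm b0; simp [pat, hi, hj] at e0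
      · exfalso; have e0 := hm b0; simp [pat, hi, hj] at e0
      · have e := hm i
        simp [pat, hi, hj] at e
        rw [e]
  have hfull : ∀ o i, f (Sum.inr o) i ≠ 1 := by
    intro o i
    show (if i ∈ pat o then (μ i)⁻¹ else μ i) ≠ 1
    split
    · exact inv_ne_one.mpr (hμ1 i)
    · exact hμ1 i
  have hone : ∀ p : Fin (r / 3) × Bool, ∃ i, f (Sum.inl p) i = 1 := by
    intro p
    by_cases hi : p.1 = b0
    · exact ⟨b1, if_neg (by rw [hi]; simp [b0, b1])⟩
    · exact ⟨b0, if_neg (Ne.symm hi)⟩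
  have hinj : Function.Injective f := by
    rintro (⟨i, e⟩ | o) (⟨i', e'⟩ | o') h
    · have hi : i = i' := by
        by_contra hne
        have := congrFun h i
        simp only [f, if_pos rfl, if_neg hne] at this
        cases e <;> simp [ha] at this
      subst hi
      have := congrFun h i
      simp only [f, if_pos rfl] at this
      cases e <;> cases e' <;> simp at this ⊢
      · exact hνne this
      · exact hνne this.symm
    · obtain ⟨j, hj⟩ := hone (i, e)
      rw [h] at hj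
      exact absurd hj (hfull o' j)
    · obtain ⟨j, hj⟩ := hone (i', e')
      rw [← h] at hj
      exact absurd hj (hfull o j)
    · congr 1
      apply hpat
      ext j
      have := congrFun h j
      simp only [f] at this
      by_cases h1 : j ∈ pat o <;> by_cases h2 : j ∈ pat o' <;> simp [h1, h2] at this ⊢
      · exact hμne j this.symm
      · exact hμne j this
  have := L.card_le_of_wt f hinj hw
  simp at this
  omega

include L in
/-- The degree bound in characteristic different from three. -/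
theorem bound_char_ne_three [IsAlgClosed k] [FiniteDimensional k V] [Nontrivial V]
    (h3 : (3 : k) ≠ 0) (hr : 9 ≤ r) : AltBound r k V := by
  classical
  let b0 : Fin (r / 3) := ⟨0, by omega⟩
  let b1 : Fin (r / 3) := ⟨1, by omega⟩
  have hb : b0 ≠ b1 := by simp [b0, b1]
  have ne : ∀ {l l' : Fin (r / 3)} {j j' : Fin 3}, l ≠ l' ∨ j ≠ j' → bp l j ≠ bp l' j' :=
    fun h => bp_ne h
  have n01 := fun l : Fin (r / 3) => ne (l := l) (l' := l) (j := 0) (j' := 1) (Or.inr (by decide))
  have n02 := fun l : Fin (r / 3) => ne (l := l) (l' := l) (j := 0) (j' := 2) (Or.inr (by decide))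
  have n12 := fun l : Fin (r / 3) => ne (l := l) (l' := l) (j := 1) (j' := 2) (Or.inr (by decide))
  -- transitivity on pairs of disjoint triples
  have htrans : ∀ a b c d e f : Fin r, a ≠ b → a ≠ c → b ≠ c → d ≠ e → d ≠ f → e ≠ f →
      (d ≠ a ∧ d ≠ b ∧ d ≠ c) → (e ≠ a ∧ e ≠ b ∧ e ≠ c) → (f ≠ a ∧ f ≠ b ∧ f ≠ c) →
      ∃ Y : (Module.End k V)ˣ, Y * L.Xb b0 * Y⁻¹ = L.ξ a b c ∧
        Y * L.Xb b1 * Y⁻¹ = L.ξ d e f := by
    intro a b c d e f hab hac hbc hde hdf hef hd he hf
    obtain ⟨τ, hτ⟩ := exists_alt_map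
      (Sum.elim (fun j => bp b0 j) (fun j => bp b1 j)) (Sum.elim ![a, b, c] ![d, e, f])
      (Function.Injective.sumElim (fun x y h => (bp_inj h).2) (fun x y h => (bp_inj h).2)
        (fun x y h => hb (bp_inj h).1))
      (Function.Injective.sumElim (injective_triple hab hac hbc) (injective_triple hde hdf hef)
        (fun x y h => by
          fin_cases x <;> fin_cases y <;> simp at h <;>
            first
            | exact hd.1 h.symm | exact hd.2.1 h.symm | exact hd.2.2 h.symm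
            | exact he.1 h.symm | exact he.2.1 h.symm | exact he.2.2 h.symm
            | exact hf.1 h.symm | exact hf.2.1 h.symm | exact hf.2.2 h.symm))
      (by simp; omega)
    refine ⟨ρ.T τ, ?_, ?_⟩
    · rw [Xb, L.conj _ _ _ (n01 b0) (n02 b0) (n12 b0) τ _ (ρ.lift_T τ),
        show (τ : Equiv.Perm (Fin r)) (bp b0 0) = a from hτ (Sum.inl 0),
        show (τ : Equiv.Perm (Fin r)) (bp b0 1) = b from hτ (Sum.inl 1),
        show (τ : Equiv.Perm (Fin r)) (bp b0 2) = c from hτ (Sum.inl 2)]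
    · rw [Xb, L.conj _ _ _ (n01 b1) (n02 b1) (n12 b1) τ _ (ρ.lift_T τ),
        show (τ : Equiv.Perm (Fin r)) (bp b1 0) = d from hτ (Sum.inr 0),
        show (τ : Equiv.Perm (Fin r)) (bp b1 1) = e from hτ (Sum.inr 1),
        show (τ : Equiv.Perm (Fin r)) (bp b1 2) = f from hτ (Sum.inr 2)]
  set X0 := (L.Xb b0 : Module.End k V) with hX0
  set X1 := (L.Xb b1 : Module.End k V) with hX1
  by_cases hQ : ∀ w, X1 (X0 w - w) = X0 w - w
  · refine L.natural_of_disjoint h3 hr fun a b c d e f hab hac hbc hde hdf hef hd he hf w => ?_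
    obtain ⟨Y, h1, h2⟩ := htrans a b c d e f hab hac hbc hde hdf hef hd he hf
    have := congrArg (fun x => (Y : Module.End k V) x)
      (hQ (((Y⁻¹ : (Module.End k V)ˣ) : Module.End k V) w))
    simp only [hX0, hX1, map_sub, apply_inv_units] at this
    rw [← h1, ← h2]
    simp only [mul_apply_units, map_sub, inv_apply_units, apply_inv_units]
    exact this
  push Not at hQ
  obtain ⟨w, hw⟩ := hQ
  have hcomm : ∀ i j x, (L.Xb i : Module.End k V) ((L.Xb j : Module.End k V) x) =
      (L.Xb j : Module.End k V) ((L.Xb i : Module.End k V) x) := fun i j x =>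
    LinearMap.congr_fun (L.Xb_commute i j).eq x
  obtain ⟨v, hv, hv0, μ, hμw, hμ⟩ := L.exists_wt_of_invariant
    (LinearMap.range ((X1 - 1) * (X0 - 1))) (by
      intro h
      apply hw
      have := LinearMap.congr_fun (LinearMap.range_eq_bot.mp h) w
      simp only [Module.End.mul_apply, LinearMap.sub_apply, Module.End.one_apply,
        LinearMap.zero_apply] at this
      exact sub_eq_zero.mp this)
    (fun i x hx => by
      obtain ⟨u, rfl⟩ := hx
      refine ⟨(L.Xb i : Module.End k V) u, ?_⟩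
      simp only [Module.End.mul_apply, LinearMap.sub_apply, Module.End.one_apply, map_sub, hX0,
        hX1, hcomm i b0, hcomm i b1])
  obtain ⟨u, hu⟩ := hv
  have hveq : v = X0 (X1 u - u) - (X1 u - u) ∧ v = X1 (X0 u - u) - (X0 u - u) := by
    rw [← hu]
    simp only [Module.End.mul_apply, LinearMap.sub_apply, Module.End.one_apply, map_sub]
    constructor
    · rw [hX0, hX1, hcomm b0 b1]
    · abel
  have hμ0 : μ b0 ≠ 1 :=
    L.eigen_ne_one h3 (n01 b0) (n02 b0) (n12 b0) (X1 u - u) hv0 hveq.1 (hμ b0)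
  have hμ1 : μ b1 ≠ 1 :=
    L.eigen_ne_one h3 (n01 b1) (n02 b1) (n12 b1) (X0 u - u) hv0 hveq.2 (hμ b1)
  by_cases hfull : ∃ l, μ l = 1
  · obtain ⟨l, hl⟩ := hfull
    exact altBound_of_le (n := finrank k V) (L.bound_partial hr hμw hl hb hμ0 hμ1) le_rfl
  push Not at hfull
  by_cases hfix : ∀ x, X0 x = x → x = 0
  · refine L.quadratic_bound hr fun a b c hab hac hbc => ?_
    obtain ⟨τ, hτ⟩ := exists_alt_map ![bp b0 0, bp b0 1, bp b0 2] ![a, b, c]
      (injective_triple (n01 b0) (n02 b0) (n12 b0)) (injective_triple hab hac hbc)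
      (by simp; omega)
    have h1 : ρ.T τ * L.Xb b0 * (ρ.T τ)⁻¹ = L.ξ a b c := by
      rw [Xb, L.conj _ _ _ (n01 b0) (n02 b0) (n12 b0) τ _ (ρ.lift_T τ),
        show (τ : Equiv.Perm (Fin r)) (bp b0 0) = a from hτ 0,
        show (τ : Equiv.Perm (Fin r)) (bp b0 1) = b from hτ 1,
        show (τ : Equiv.Perm (Fin r)) (bp b0 2) = c from hτ 2]
    have h0 : ∀ x, X0 (X0 x) + X0 x + x = 0 := by
      intro x
      apply hfix
      have h3' : X0 (X0 (X0 x)) = x := L.cube_apply (n01 b0) (n02 b0) (n12 b0) x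
      rw [map_add, map_add, h3']
      abel
    refine LinearMap.ext fun x => ?_
    have := congrArg (fun y => (ρ.T τ : Module.End k V) y)
      (h0 (((ρ.T τ)⁻¹ : (Module.End k V)ˣ).val x))
    simp only [hX0, map_add, map_zero, apply_inv_units] at this
    rw [← h1]
    simp only [LinearMap.add_apply, Module.End.mul_apply, Module.End.one_apply,
      mul_apply_units, inv_apply_units, LinearMap.zero_apply]
    exact this
  push Not at hfix
  obtain ⟨x₀, hx₀, hx₀ne⟩ := hfix
  -- a weight with trivial first coordinate and some non-trivial one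
  by_cases hker : ∀ x, X0 x = x → X1 x = x
  · exfalso
    have hsub : ∀ a b c d e f : Fin r, a ≠ b → a ≠ c → b ≠ c → d ≠ e → d ≠ f → e ≠ f →
        (d ≠ a ∧ d ≠ b ∧ d ≠ c) → (e ≠ a ∧ e ≠ b ∧ e ≠ c) → (f ≠ a ∧ f ≠ b ∧ f ≠ c) →
        ∀ x, (L.ξ a b c : Module.End k V) x = x → (L.ξ d e f : Module.End k V) x = x := by
      intro a b c d e f hab hac hbc hde hdf hef hd he hf x hx
      obtain ⟨Y, h1, h2⟩ := htrans a b c d e f hab hac hbc hde hdf hef hd he hf
      rw [← h1, mul_apply_units, mul_apply_units] at hx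
      have hx' : X0 ((Y⁻¹ : (Module.End k V)ˣ).val x) = (Y⁻¹ : (Module.End k V)ˣ).val x := by
        conv_rhs => rw [← hx, inv_apply_units]
      rw [← h2, mul_apply_units, mul_apply_units, hker _ hx', apply_inv_units]
    let W : Submodule k V := LinearMap.ker (X0 - 1)
    have hmemW : ∀ x, x ∈ W ↔ X0 x = x := fun x => by simp [W, sub_eq_zero]
    have hall : ∀ a b c, a ≠ b → a ≠ c → b ≠ c → ∀ x ∈ W,
        (L.ξ a b c : Module.End k V) x = x := by
      intro a b c hab hac hbc x hx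
      obtain ⟨T, hT, hTS⟩ := exists_triple_avoid
        ({bp b0 0, bp b0 1, bp b0 2, a, b, c} : Finset (Fin r)) (by
          have h0 : ({bp b0 0, bp b0 1, bp b0 2, a, b, c} : Finset (Fin r)).card ≤ 6 :=
            Finset.card_le_six
          omega)
      obtain ⟨d, e, f, hde, hdf, hef, rfl⟩ := Finset.card_eq_three.mp hT
      have hd := hTS d (by simp)
      have he := hTS e (by simp)
      have hf := hTS f (by simp)
      simp only [Finset.mem_insert, Finset.mem_singleton, not_or] at hd he hf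
      refine hsub d e f a b c hde hdf hef hab hac hbc
        ⟨Ne.symm hd.2.2.2.1, Ne.symm he.2.2.2.1, Ne.symm hf.2.2.2.1⟩
        ⟨Ne.symm hd.2.2.2.2.1, Ne.symm he.2.2.2.2.1, Ne.symm hf.2.2.2.2.1⟩
        ⟨Ne.symm hd.2.2.2.2.2, Ne.symm he.2.2.2.2.2, Ne.symm hf.2.2.2.2.2⟩ x ?_
      exact hsub (bp b0 0) (bp b0 1) (bp b0 2) d e f (n01 b0) (n02 b0) (n12 b0) hde hdf hef
        ⟨hd.1, hd.2.1, hd.2.2.1⟩ ⟨he.1, he.2.1, he.2.2.1⟩ ⟨hf.1, hf.2.1, hf.2.2.1⟩ x
        ((hmemW x).mp hx)
    rcases ρ.eq_bot_or_top_of_c3 W (fun a b c hab hac hbc X hX x hx => by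
      obtain ⟨e, rfl⟩ := ρ.lift_unique (L.lift a b c hab hac hbc) hX
      rw [mul_apply_units, hall a b c hab hac hbc x hx, sc_apply]
      exact W.smul_mem _ hx) with h0 | h1
    · exact hx₀ne (by
        have := (hmemW x₀).mpr hx₀
        rw [h0] at this
        simpa using this)
    · apply hμ0
      have := (hmemW v).mp (h1 ▸ Submodule.mem_top)
      rw [hX0, hμ b0] at this
      exact smul_left_injective k hv0 (by simpa using this)
  push Not at hker
  obtain ⟨y, hy, hy1⟩ := hker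
  obtain ⟨v', hv', hv'0, ν, hνw, hν⟩ := L.exists_wt_of_invariant
    ((LinearMap.ker (X0 - 1)).map (X1 - 1)) (by
      rw [Submodule.ne_bot_iff]
      exact ⟨X1 y - y, ⟨y, by simp [sub_eq_zero, hy], by simp⟩, sub_ne_zero.mpr hy1⟩)
    (fun i x hx => by
      obtain ⟨u, hu, rfl⟩ := hx
      refine ⟨(L.Xb i : Module.End k V) u, ?_, ?_⟩
      · simp only [SetLike.mem_coe, LinearMap.mem_ker, LinearMap.sub_apply, Module.End.one_apply,
          sub_eq_zero] at hu ⊢
        rw [hX0, hcomm b0 i, ← hX0, hu]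
      · simp only [LinearMap.sub_apply, Module.End.one_apply, map_sub, hX1, hcomm i b1])
  obtain ⟨u', hu', hu'eq⟩ := hv'
  have hν1 : ν b1 ≠ 1 := L.eigen_ne_one h3 (n01 b1) (n02 b1) (n12 b1) u' hv'0 (by
    rw [← hu'eq]; rfl) (hν b1)
  have hν0 : ν b0 = 1 := by
    have : X0 v' = v' := by
      rw [← hu'eq]
      simp only [SetLike.mem_coe, LinearMap.mem_ker, LinearMap.sub_apply, Module.End.one_apply,
        sub_eq_zero] at hu'
      simp only [LinearMap.sub_apply, Module.End.one_apply, map_sub, hX0, hX1, hcomm b0 b1]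
      rw [← hX0, hu']
    rw [hX0, hν b0] at this
    exact smul_left_injective k hv'0 (by simpa using this)
  by_cases h2 : ∃ l, l ≠ b1 ∧ ν l ≠ 1
  · obtain ⟨l, hl, hl'⟩ := h2
    exact altBound_of_le (n := finrank k V) (L.bound_partial hr hνw hν0 hl hl' hν1) le_rfl
  · push Not at h2
    exact altBound_of_le (n := finrank k V) (L.bound_mixed hr hμw hνw hfull hν1 hb h2) le_rfl

end CycLift

end Cfsg.Agent.AltDeg
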