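import Cfsg.Agent.Lib.AltDeg.SpinThree
import Cfsg.Agent.Lib.AltDeg.LinearThreeBound
import Cfsg.Agent.Lib.AltDeg.WeightsThree

set_option autoImplicit false

/-!
# The minimal degree of a projective representation of the alternating group
-/

namespace Cfsg.Agent.AltDeg

universe u v

variable {r : ℕ} {k : Type u} [Field k] {V : Type v} [AddCommGroup V] [Module k V]

namespace PRep

variable (ρ : PRep r k V)

/-- The four-groups all lift to abelian groups, or all to quaternion groups. -/
lemma comm4_or_anti [Nontrivial V] (hr : 9 ≤ r) : ρ.Comm4 ∨ ρ.Anti := by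
  by_cases ha : ρ.Anti
  · exact Or.inr ha
  left
  simp only [Anti, not_forall] at ha
  obtain ⟨a, b, c, d, q, X, Y, hX, hY, hne⟩ := ha
  have hXY : X * Y = sc (1 : kˣ) * (Y * X) := by
    rcases ρ.comm_sign q.commute_acbd q.perm_acbd.mul_self hX hY with h | h
    · rw [map_one, one_mul]; exact h.eq
    · exact absurd h hne
  intro a' b' c' d' q' X' Y' hX' hY'
  have h := ρ.quad_transfer (by omega) q q' 1 hX hY hXY hX' hY'
  rwa [map_one, one_mul] at h

include ρ in
/-- An irreducible projective representation of `Alt r`, `r ≥ 9`, has degree at least `r - 2`, and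
at least `r - 1` when `r` is non-zero in the field. -/
theorem altBound [IsAlgClosed k] [FiniteDimensional k V] [Nontrivial V] (hr : 9 ≤ r) :
    AltBound r k V := by
  obtain ⟨L⟩ := ρ.exists_cycLift (by omega)
  by_cases h3 : (3 : k) = 0
  · have h2 : (2 : k) ≠ 0 := fun h => one_ne_zero (show (1 : k) = 0 by linear_combination h3 - h)
    rcases ρ.comm4_or_anti hr with hC | hA
    · obtain ⟨J⟩ := exists_invLift hC hr
      exact J.bound_linear L hr h3 h2
    · exact ρ.bound_spin L hr hA h3 h2
  · exact L.bound_char_ne_three h3 hr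

end PRep

end Cfsg.Agent.AltDeg
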