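import Cfsg.Agent.Lib.AltDeg.Canon
import Cfsg.Agent.Lib.AltDeg.Clifford

set_option autoImplicit false

/-!
# All 3-cycles satisfy `x ^ 2 + x + 1 = 0`: the Clifford algebra case
-/

namespace Cfsg.Agent.AltDeg

open Module

universe u v

variable {r : ℕ} {k : Type u} [Field k] {V : Type v} [AddCommGroup V] [Module k V]

/-- Combinations of operators with scalar squares and scalar anticommutators have scalar square. -/
lemma sum_sq_scalar {ι : Type*} [DecidableEq ι] (e : ι → Module.End k V) (a b : k)
    (ha : ∀ i, e i * e i = a • 1) (hb : ∀ i j, i ≠ j → e i * e j + e j * e i = b • 1)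
    (s : Finset ι) (c : ι → k) :
    ∃ q : k, (∑ i ∈ s, c i • e i) * (∑ i ∈ s, c i • e i) = q • 1 := by
  induction s using Finset.induction_on with
  | empty => exact ⟨0, by simp⟩
  | insert i s hi ih =>
    obtain ⟨q, hq⟩ := ih
    refine ⟨c i * c i * a + (∑ j ∈ s, c i * c j * b) + q, ?_⟩
    have h1 : c i • e i * (∑ j ∈ s, c j • e j) + (∑ j ∈ s, c j • e j) * (c i • e i) =
        (∑ j ∈ s, c i * c j * b) • (1 : Module.End k V) := by
      rw [Finset.mul_sum, Finset.sum_mul, ← Finset.sum_add_distrib, Finset.sum_smul]
      refine Finset.sum_congr rfl fun j hj => ?_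
      rw [smul_mul_assoc, mul_smul_comm, smul_mul_assoc, mul_smul_comm, smul_smul, smul_smul,
        mul_comm (c j) (c i), ← smul_add, hb i j (fun h => hi (h ▸ hj)), smul_smul]
    rw [Finset.sum_insert hi, add_mul, mul_add, mul_add, add_smul, add_smul, ← hq, ← h1,
      smul_mul_assoc (c i) (e i) (c i • e i), mul_smul_comm, ha, smul_smul, smul_smul]
    abel

variable [IsAlgClosed k] [FiniteDimensional k V] [Nontrivial V]

/-- A family of `M` operators with squares `a` and anticommutators `b`, `2a ≠ b`. -/
theorem family_bound {M s : ℕ} (e : Fin M → Module.End k V) (a b : k)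
    (ha : ∀ i, e i * e i = a • 1) (hb : ∀ i j, i ≠ j → e i * e j + e j * e i = b • 1)
    (hab : 2 * a - b ≠ 0)
    (hs : 2 * s + 1 ≤ M ∨ (2 * a - b + b * M ≠ 0 ∧ 2 * s ≤ M)) :
    2 ^ s ≤ finrank k V := by
  classical
  let φ : (Fin M → k) →ₗ[k] Module.End k V :=
    { toFun := fun c => ∑ i, c i • e i
      map_add' := fun c d => by simp [add_smul, Finset.sum_add_distrib]
      map_smul' := fun x c => by simp [Finset.smul_sum, mul_smul] }
  have hsq : ∀ c, ∃ q : k, φ c * φ c = q • 1 := fun c => sum_sq_scalar e a b ha hb _ c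
  have hrad : ∀ c ∈ cliffRad φ ⊤, ∀ j, c j * (2 * a - b) + b * ∑ i, c i = 0 := by
    intro c hc j
    have h0 := hc.2 (Pi.single j 1) Submodule.mem_top
    have hφj : φ (Pi.single j 1) = e j := by
      simp [φ, Pi.single_apply, ite_smul]
    rw [hφj] at h0
    have h1 : φ c * e j + e j * φ c = (c j * (2 * a - b) + b * ∑ i, c i) • (1 : Module.End k V) := by
      show (∑ i, c i • e i) * e j + e j * (∑ i, c i • e i) = _
      rw [Finset.sum_mul, Finset.mul_sum, ← Finset.sum_add_distrib]
      calc ∑ i, (c i • e i * e j + e j * (c i • e i))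
          = ∑ i, ((c i * b) • (1 : Module.End k V) +
              if i = j then (c i * (2 * a - b)) • (1 : Module.End k V) else 0) := by
            refine Finset.sum_congr rfl fun i _ => ?_
            rw [smul_mul_assoc, mul_smul_comm, ← smul_add]
            by_cases hij : i = j
            · rw [if_pos hij, hij, ha, ← add_smul, smul_smul, ← add_smul]
              congr 1; ring
            · rw [if_neg hij, hb i j hij, smul_smul, add_zero]
        _ = _ := by
            rw [Finset.sum_add_distrib, Finset.sum_ite_eq', if_pos (Finset.mem_univ j),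
              ← Finset.sum_smul, ← add_smul, ← Finset.sum_mul]
            congr 1; ring
    rw [h1] at h0
    by_contra hne
    obtain ⟨v, hv⟩ := exists_ne (0 : V)
    have := LinearMap.congr_fun h0 v
    rw [LinearMap.smul_apply, Module.End.one_apply, LinearMap.zero_apply] at this
    exact hv ((smul_eq_zero.mp this).resolve_left hne)
  have hle1 : ∀ j₀ : Fin M, finrank k (cliffRad φ ⊤) ≤ 1 := by
    intro j₀
    let ev : cliffRad φ ⊤ →ₗ[k] k :=
      { toFun := fun c => c.1 j₀, map_add' := fun _ _ => rfl, map_smul' := fun _ _ => rfl }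
    have hev : Function.Injective ev := by
      intro x x' h
      apply Subtype.ext
      funext i
      have e1 := hrad x.1 x.2 i
      have e2 := hrad x.1 x.2 j₀
      have e3 := hrad x'.1 x'.2 i
      have e4 := hrad x'.1 x'.2 j₀
      have h' : x.1 j₀ = x'.1 j₀ := h
      have : (x.1 i - x'.1 i) * (2 * a - b) = 0 := by
        linear_combination e1 - e2 - e3 + e4 + (2 * a - b) * h'
      exact sub_eq_zero.mp ((mul_eq_zero.mp this).resolve_right hab)
    have := LinearMap.finrank_le_finrank_of_injective hev
    rwa [Module.finrank_self] at this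
  have htop : finrank k (⊤ : Submodule k (Fin M → k)) = M := by simp
  have key := clifford_bound φ hsq s ⊤ ⊤ (fun _ _ _ _ => Submodule.mem_top) (top_ne_bot) ?_
  · simpa using key
  rw [htop]
  rcases hs with hs | ⟨hne, hs⟩
  · have := hle1 ⟨0, by omega⟩
    omega
  · have hbot : cliffRad φ ⊤ = ⊥ := by
      rw [Submodule.eq_bot_iff]
      intro c hc
      have h1 : (∑ j, c j) * (2 * a - b + b * M) = 0 := by
        have h2 : ∑ j, (c j * (2 * a - b) + b * ∑ i, c i) = 0 :=
          Finset.sum_eq_zero fun j _ => hrad c hc j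
        rw [Finset.sum_add_distrib, Finset.sum_const, ← Finset.sum_mul, Finset.card_univ,
          Fintype.card_fin, nsmul_eq_mul] at h2
        linear_combination h2
      have h3 := (mul_eq_zero.mp h1).resolve_right hne
      funext j
      have h4 := hrad c hc j
      rw [h3, mul_zero, add_zero] at h4
      exact (mul_eq_zero.mp h4).resolve_right hab
    rw [hbot, finrank_bot]
    omega

lemma pow_two_ge_aux (s : ℕ) (hs : 4 ≤ s) : 2 * s + 3 ≤ 2 ^ s := by
  induction s, hs using Nat.le_induction with
  | base => norm_num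
  | succ n hn ih => rw [pow_succ]; omega

namespace CycLift

variable {ρ : PRep r k V} (L : CycLift ρ)

/-- The relation between two quadratic canonical lifts sharing two points. -/
lemma rel_of_quadratic
    (hq : ∀ a b c, a ≠ b → a ≠ c → b ≠ c →
      (L.ξ a b c : Module.End k V) * (L.ξ a b c : Module.End k V) + (L.ξ a b c : Module.End k V) +
        1 = 0)
    {a b c d : Fin r} (hab : a ≠ b) (hac : a ≠ c) (had : a ≠ d) (hbc : b ≠ c) (hbd : b ≠ d)
    (hcd : c ≠ d) :
    (L.ξ a b c : Module.End k V) * (L.ξ a b d : Module.End k V) +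
      (L.ξ a b d : Module.End k V) * (L.ξ a b c : Module.End k V) +
      (L.ξ a b c : Module.End k V) + (L.ξ a b d : Module.End k V) + 1 = 0 := by
  set X := L.ξ a b c with hX
  set Y := L.ξ a b d with hY
  have hinv : ∀ Z : (Module.End k V)ˣ,
      (Z : Module.End k V) * (Z : Module.End k V) + (Z : Module.End k V) + 1 = 0 →
      ((Z⁻¹ : (Module.End k V)ˣ) : Module.End k V) = -(Z : Module.End k V) - 1 := by
    intro Z hZ
    apply Units.inv_eq_of_mul_eq_one_right
    rw [mul_sub, mul_neg, mul_one, ← sub_eq_zero]
    rw [← neg_eq_zero, ← hZ]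
    abel
  set x := (X : Module.End k V)
  set y := (Y : Module.End k V)
  obtain ⟨e, he⟩ := L.sq_scalar hab hac had hbc hbd hcd
  rw [← hX, ← hY] at he
  have he' : Y * X * (Y * X) = sc e := by
    calc Y * X * (Y * X) = X⁻¹ * (X * Y * (X * Y)) * X := by group
      _ = sc e := by rw [he, ← sc_comm, mul_assoc, inv_mul_cancel, mul_one]
  have h1 : x * y = (e : k) • (1 + x + y + y * x) := by
    have h : X * Y = sc e * (Y⁻¹ * X⁻¹) := by rw [← he]; group
    have h' := congrArg (fun Z : (Module.End k V)ˣ => (Z : Module.End k V)) h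
    simp only [Units.val_mul, sc_val, hinv X (hq a b c hab hac hbc),
      hinv Y (hq a b d hab had hbd), smul_mul_assoc, one_mul] at h'
    rw [h']
    congr 1
    simp only [sub_mul, mul_sub, neg_mul, mul_neg, one_mul, mul_one, neg_neg, x, y]
    abel
  have h2 : y * x = (e : k) • (1 + x + y + x * y) := by
    have h : Y * X = sc e * (X⁻¹ * Y⁻¹) := by rw [← he']; group
    have h' := congrArg (fun Z : (Module.End k V)ˣ => (Z : Module.End k V)) h
    simp only [Units.val_mul, sc_val, hinv X (hq a b c hab hac hbc),
      hinv Y (hq a b d hab had hbd), smul_mul_assoc, one_mul] at h'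
    rw [h']
    congr 1
    simp only [sub_mul, mul_sub, neg_mul, mul_neg, one_mul, mul_one, neg_neg, x, y]
    abel
  have hne : x * y ≠ y * x := fun h => L.not_commute hab hac had hbc hbd hcd (Units.ext h)
  have h3 : ((e : k) + 1) • (x * y - y * x) = 0 := by
    have hD : x * y - y * x = (e : k) • (-(x * y - y * x)) :=
      calc x * y - y * x = (e : k) • (1 + x + y + y * x) - (e : k) • (1 + x + y + x * y) :=
            congrArg₂ (· - ·) h1 h2
        _ = _ := by rw [← smul_sub]; congr 1; abel
    rw [add_smul, one_smul]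
    nth_rewrite 2 [hD]
    rw [smul_neg, add_neg_cancel]
  have he1 : (e : k) = -1 := by
    rcases smul_eq_zero.mp h3 with h | h
    · exact eq_neg_of_add_eq_zero_left h
    · exact absurd (sub_eq_zero.mp h) hne
  rw [he1, neg_smul, one_smul] at h1
  rw [h1]
  abel

/-- The degree bound when all 3-cycles satisfy `x ^ 2 + x + 1 = 0`. -/
theorem quadratic_bound (hr : 9 ≤ r)
    (hq : ∀ a b c, a ≠ b → a ≠ c → b ≠ c →
      (L.ξ a b c : Module.End k V) * (L.ξ a b c : Module.End k V) + (L.ξ a b c : Module.End k V) +
        1 = 0) : AltBound r k V := by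
  let p0 : Fin r := ⟨0, by omega⟩
  let p1 : Fin r := ⟨1, by omega⟩
  have h01 : p0 ≠ p1 := by simp [p0, p1, Fin.ext_iff]
  set σ : ℕ := (r - 3) / 2 with hσ
  suffices key : 2 ^ σ ≤ finrank k V ∧ (r = 10 → (r : k) ≠ 0 → 2 ^ 4 ≤ finrank k V) by
    obtain ⟨k1, k2⟩ := key
    rcases Nat.lt_or_ge r 11 with h | h
    · interval_cases r
      · norm_num [hσ] at k1
        exact ⟨by omega, fun _ => by omega⟩
      · norm_num [hσ] at k1
        exact ⟨by omega, fun h0 => by have := k2 rfl h0; norm_num at this; omega⟩
    · have h4 := pow_two_ge_aux σ (by omega)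
      exact altBound_of_le (n := 2 ^ σ) (by omega) k1
  by_cases h2 : (2 : k) = 0
  · let q : Fin (r - 3) → Fin r := fun i => ⟨i.1 + 3, by omega⟩
    let p2 : Fin r := ⟨2, by omega⟩
    let x : Fin r → Module.End k V := fun j => (L.ξ p0 p1 j : Module.End k V)
    have hx : ∀ i j : Fin r, 2 ≤ i.1 → 2 ≤ j.1 → i ≠ j →
        x i * x j + x j * x i + x i + x j + 1 = 0 := fun i j hi hj hij =>
      L.rel_of_quadratic hq h01 (by simp [p0, Fin.ext_iff]; omega) (by simp [p0, Fin.ext_iff]; omega)
        (by simp [p1, Fin.ext_iff]; omega) (by simp [p1, Fin.ext_iff]; omega) hij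
    have hxx : ∀ i : Fin r, 2 ≤ i.1 → x i * x i + x i + 1 = 0 := fun i hi =>
      hq p0 p1 i h01 (by simp [p0, Fin.ext_iff]; omega) (by simp [p1, Fin.ext_iff]; omega)
    have hd2 : 2 ≤ p2.1 := le_rfl
    have hqi : ∀ i, 2 ≤ (q i).1 := fun i => by simp [q]
    have hne : ∀ i, q i ≠ p2 := fun i => by simp [q, p2, Fin.ext_iff]
    have hqq : ∀ i j, i ≠ j → q i ≠ q j := fun i j h hij => h (by
      simpa [q, Fin.ext_iff] using hij)
    have two : ∀ z : Module.End k V, z + z = 0 := fun z => by
      rw [← two_smul k z, h2, zero_smul]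
    have ha : ∀ i, (x (q i) + x p2) * (x (q i) + x p2) = (1 : k) • (1 : Module.End k V) := by
      intro i
      calc (x (q i) + x p2) * (x (q i) + x p2)
          = (x (q i) * x (q i) + x (q i) + 1) + (x p2 * x p2 + x p2 + 1) +
              (x (q i) * x p2 + x p2 * x (q i) + x (q i) + x p2 + 1) -
              ((x (q i) + x (q i)) + (x p2 + x p2) + ((1 : Module.End k V) + 1)) +
              (-1 : Module.End k V) := by
            simp only [add_mul, mul_add]; abel
        _ = (1 : k) • (1 : Module.End k V) := by
            rw [hxx _ (hqi i), hxx _ hd2, hx _ _ (hqi i) hd2 (hne i), one_smul]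
            simp only [two]
            simp only [add_zero, sub_zero, zero_add]
            exact neg_eq_of_add_eq_zero_left (two 1)
    have hb : ∀ i j, i ≠ j → (x (q i) + x p2) * (x (q j) + x p2) +
        (x (q j) + x p2) * (x (q i) + x p2) = (1 : k) • (1 : Module.End k V) := by
      intro i j hij
      calc (x (q i) + x p2) * (x (q j) + x p2) + (x (q j) + x p2) * (x (q i) + x p2)
          = (x (q i) * x (q j) + x (q j) * x (q i) + x (q i) + x (q j) + 1) +
            (x (q i) * x p2 + x p2 * x (q i) + x (q i) + x p2 + 1) +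
            (x (q j) * x p2 + x p2 * x (q j) + x (q j) + x p2 + 1) +
            ((x p2 * x p2) + (x p2 * x p2)) -
            ((x (q i) + x (q i)) + (x (q j) + x (q j)) + (x p2 + x p2) +
              ((1 : Module.End k V) + 1)) + (-1 : Module.End k V) := by
            simp only [add_mul, mul_add]; abel
        _ = (1 : k) • (1 : Module.End k V) := by
            rw [hx _ _ (hqi i) (hqi j) (hqq i j hij), hx _ _ (hqi i) hd2 (hne i),
              hx _ _ (hqi j) hd2 (hne j), one_smul]
            simp only [two]
            simp only [add_zero, sub_zero, zero_add]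
            exact neg_eq_of_add_eq_zero_left (two 1)
    refine ⟨family_bound (fun i => x (q i) + x p2) 1 1 ha hb ?_ ?_, fun h h0 => ?_⟩
    · rw [h2, zero_mul, zero_sub]
      exact neg_ne_zero.mpr one_ne_zero
    · rcases Nat.even_or_odd r with ⟨t, ht⟩ | ⟨t, ht⟩
      · exact Or.inl (by omega)
      · refine Or.inr ⟨?_, by omega⟩
        have hM : ((r - 3 : ℕ) : k) = 0 := by
          rw [show r - 3 = 2 * (t - 1) by omega, Nat.cast_mul, Nat.cast_ofNat, h2, zero_mul]
        rw [hM, mul_zero, add_zero, h2, zero_mul, zero_sub]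
        exact neg_ne_zero.mpr one_ne_zero
    · exfalso
      apply h0
      rw [h, show (10 : ℕ) = 2 * 5 by norm_num, Nat.cast_mul, Nat.cast_ofNat, h2, zero_mul]
  · let q : Fin (r - 2) → Fin r := fun i => ⟨i.1 + 2, by omega⟩
    let x : Fin (r - 2) → Module.End k V := fun i => (L.ξ p0 p1 (q i) : Module.End k V)
    have h0q : ∀ i, p0 ≠ q i := fun i => by simp [p0, q, Fin.ext_iff]
    have h1q : ∀ i, p1 ≠ q i := fun i => by simp [p1, q, Fin.ext_iff]
    have hqq : ∀ i j, i ≠ j → q i ≠ q j := fun i j h hij => h (by
      simpa [q, Fin.ext_iff] using hij)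
    set half : k := (2 : k)⁻¹ with hhalf
    have hh : half + half = 1 := by rw [← two_mul, hhalf, mul_inv_cancel₀ h2]
    have ha : ∀ i, (x i + half • 1) * (x i + half • 1) =
        (half * half - 1) • (1 : Module.End k V) := by
      intro i
      calc (x i + half • 1) * (x i + half • 1)
          = (x i * x i + x i + 1) + ((half + half) • x i - x i) +
              ((half * half) • (1 : Module.End k V) - 1) := by
            simp only [add_mul, mul_add, smul_mul_assoc, mul_smul_comm, mul_one, one_mul,
              smul_smul, add_smul, smul_add]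
            abel
        _ = _ := by
            rw [hq p0 p1 (q i) h01 (h0q i) (h1q i), hh, one_smul, sub_self, add_zero, zero_add,
              sub_smul, one_smul]
    have hb : ∀ i j, i ≠ j → (x i + half • 1) * (x j + half • 1) +
        (x j + half • 1) * (x i + half • 1) =
        (half * half + half * half - 1) • (1 : Module.End k V) := by
      intro i j hij
      calc (x i + half • 1) * (x j + half • 1) + (x j + half • 1) * (x i + half • 1)
          = (x i * x j + x j * x i + x i + x j + 1) + ((half + half) • x i - x i) +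
              ((half + half) • x j - x j) +
              ((half * half + half * half) • (1 : Module.End k V) - 1) := by
            simp only [add_mul, mul_add, smul_mul_assoc, mul_smul_comm, mul_one, one_mul,
              smul_smul, add_smul, smul_add]
            abel
        _ = _ := by
            rw [L.rel_of_quadratic hq h01 (h0q i) (h0q j) (h1q i) (h1q j) (hqq i j hij), hh,
              one_smul, one_smul, sub_self, sub_self, add_zero, zero_add, sub_smul,
              one_smul]
            simp only [zero_add]
    have e1 : 2 * (half * half - 1) - (half * half + half * half - 1) = -1 := by ring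
    have hM : ((r - 2 : ℕ) : k) = (r : k) - 2 := by
      rw [Nat.cast_sub (by omega)]; simp
    have e2 : 2 * (half * half - 1) - (half * half + half * half - 1) +
        (half * half + half * half - 1) * ((r - 2 : ℕ) : k) = -(half * r) := by
      rw [e1, hM]
      linear_combination (half * ((r : k) - 2) + ((r : k) - 1)) * hh
    refine ⟨family_bound (fun i => x i + half • 1) _ _ ha hb ?_ (Or.inl (by omega)), fun h h0 => ?_⟩
    · rw [e1]
      exact neg_ne_zero.mpr one_ne_zero
    · refine family_bound (fun i => x i + half • 1) _ _ ha hb ?_ (Or.inr ⟨?_, by omega⟩)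
      · rw [e1]
        exact neg_ne_zero.mpr one_ne_zero
      · rw [e2]
        exact neg_ne_zero.mpr (mul_ne_zero (inv_ne_zero h2) h0)

end CycLift

end Cfsg.Agent.AltDeg
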