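import Cfsg.Agent.Lib.AltDeg.SectLayer

set_option autoImplicit false

/-!
# The minimal degree of a linear group with a section `Alt r`
-/

namespace Cfsg.Agent.AltDeg

open Module

universe u v w

variable {r : ℕ} {k : Type u} [Field k] [IsAlgClosed k]

/-- The restriction of a representation to an invariant subspace. -/
def restrictUnits {V : Type v} [AddCommGroup V] [Module k V] {H : Type w} [Group H]
    (ρ : H →* (Module.End k V)ˣ) (W : Submodule k V)
    (hW : ∀ h, ∀ x ∈ W, (ρ h : Module.End k V) x ∈ W) : H →* (Module.End k W)ˣ :=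
  MonoidHom.toHomUnits
    { toFun := fun h => (ρ h : Module.End k V).restrict (hW h)
      map_one' := by ext x; simp
      map_mul' := fun g h => by ext x; simp }

/-- The representation on the quotient by an invariant subspace. -/
def quotientUnits {V : Type v} [AddCommGroup V] [Module k V] {H : Type w} [Group H]
    (ρ : H →* (Module.End k V)ˣ) (W : Submodule k V)
    (hW : ∀ h, ∀ x ∈ W, (ρ h : Module.End k V) x ∈ W) : H →* (Module.End k (V ⧸ W))ˣ :=
  MonoidHom.toHomUnits
    { toFun := fun h => Submodule.mapQ W W (ρ h : Module.End k V) (hW h)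
      map_one' := by ext x; simp
      map_mul' := fun g h => by ext x; simp }

theorem bound_cover (hr : 9 ≤ r) {H : Type w} [Group H] [Finite H] :
    ∀ (n : ℕ) (V : Type v) [AddCommGroup V] [Module k V] [FiniteDimensional k V]
      (_ : Cover r k V H), finrank k V = n → (∀ d < n, SmallBound r d) → AltBound r k V := by
  intro n
  induction n using Nat.strong_induction_on with
  | _ n ih =>
  intro V _ _ _ C hn IH
  haveI : Nontrivial V := by
    by_contra hV
    haveI := not_nontrivial_iff_subsingleton.mp hV
    haveI : Subsingleton (Module.End k V) := ⟨fun f g => LinearMap.ext fun x => Subsingleton.elim _ _⟩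
    exact C.not_comm (by omega) fun x y => Units.ext (Subsingleton.elim _ _)
  by_cases hirr : C.Irr
  · by_cases hK : C.π.ker ≤ C.Nsc
    · exact C.bound_of_scalar hr hirr hK
    · exact C.bound_of_layer hr hirr hK (hn ▸ IH)
  simp only [Cover.Irr, not_forall, not_or] at hirr
  obtain ⟨W, hW, hW0, hW1⟩ := hirr
  have hlt : finrank k W < n := hn ▸ Submodule.finrank_lt hW1
  have hlt' : finrank k (V ⧸ W) < n := by
    have h1 := W.finrank_quotient_add_finrank
    have h2 : 0 < finrank k W := by
      rw [Nat.pos_iff_ne_zero]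
      exact fun h0 => hW0 (Submodule.finrank_eq_zero.mp h0)
    omega
  set ρ₁ := restrictUnits C.ρ W hW with hρ₁
  set ρ₂ := quotientUnits C.ρ W hW with hρ₂
  by_cases h1 : ρ₁.ker = ⊤
  swap
  · exact (ih _ hlt W ⟨C.π, C.surj, ρ₁, C.normal_le (by omega) _ h1, C.min⟩ rfl
      fun d hd => IH d (hd.trans hlt)).mono (Submodule.finrank_le W)
  by_cases h2 : ρ₂.ker = ⊤
  swap
  · exact (ih _ hlt' (V ⧸ W) ⟨C.π, C.surj, ρ₂, C.normal_le (by omega) _ h2, C.min⟩ rfl
      fun d hd => IH d (hd.trans hlt')).mono (Submodule.finrank_quotient_le W)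
  -- a unipotent action is abelian
  exfalso
  have hsub : ∀ h, ∀ x ∈ W, (C.ρ h : Module.End k V) x = x := fun h x hx => by
    have h3 := congrArg Units.val (MonoidHom.mem_ker.mp (h1 ▸ Subgroup.mem_top h : h ∈ ρ₁.ker))
    exact congrArg Subtype.val (LinearMap.congr_fun h3 ⟨x, hx⟩)
  have hquo : ∀ h x, (C.ρ h : Module.End k V) x - x ∈ W := fun h x => by
    have h3 := congrArg Units.val (MonoidHom.mem_ker.mp (h2 ▸ Subgroup.mem_top h : h ∈ ρ₂.ker))
    exact (Submodule.Quotient.eq W).mp (LinearMap.congr_fun h3 (Submodule.Quotient.mk x))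
  refine C.not_comm (by omega) fun g h => Units.ext (LinearMap.ext fun x => ?_)
  have e1 := hsub g _ (hquo h x)
  have e2 := hsub h _ (hquo g x)
  rw [map_sub, sub_eq_iff_eq_add] at e1 e2
  rw [mul_apply_units, mul_apply_units, e1, e2]
  abel

theorem reduce (hr : 9 ≤ r) {V : Type v} [AddCommGroup V] [Module k V] [FiniteDimensional k V]
    {H : Type w} [Group H] [Finite H] (π : H →* Alt r) (hπ : Function.Surjective π)
    (ρ : H →* (Module.End k V)ˣ) (hker : ρ.ker ≤ π.ker)
    (IH : ∀ d < finrank k V, SmallBound r d) : AltBound r k V := by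
  obtain ⟨L, hL, hmin⟩ := (Set.toFinite {L : Subgroup H | L.map π = ⊤}).exists_minimal
    ⟨⊤, Subgroup.map_top_of_surjective π hπ⟩
  have hL' : L.map π = ⊤ := hL
  refine bound_cover hr (finrank k V) V (H := L) ⟨π.comp L.subtype, ?_, ρ.comp L.subtype,
    fun x hx => hker hx, fun M hM => ?_⟩ rfl IH
  · intro g
    obtain ⟨x, hx, rfl⟩ := (hL' ▸ Subgroup.mem_top g : g ∈ L.map π)
    exact ⟨⟨x, hx⟩, rfl⟩
  · rw [← Subgroup.map_map] at hM
    have h1 := hmin hM (Subgroup.map_subtype_le M)
    exact eq_top_iff.mpr fun x _ => by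
      obtain ⟨y, hy, he⟩ := h1 x.2
      rwa [← Subtype.ext he]

/-- The base change of a linear group as a group of operators. -/
noncomputable def glToUnits {d : ℕ} {F : Type*} [Field F] (K : Type*) [Field K] (f : F →+* K) :
    GL (Fin d) F →* (Module.End K (Fin d → K))ˣ :=
  (Matrix.GeneralLinearGroup.toLin (n := Fin d) (R := K)).toMonoidHom.comp
    (Matrix.GeneralLinearGroup.map f)

lemma glToUnits_injective {d : ℕ} {F : Type*} [Field F] (K : Type*) [Field K] (f : F →+* K) :
    Function.Injective (glToUnits (d := d) K f) := by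
  intro a b h
  have h' := (Matrix.GeneralLinearGroup.toLin (n := Fin d) (R := K)).injective h
  ext i j
  exact f.injective (congrArg (fun g : GL (Fin d) K => (g : Matrix (Fin d) (Fin d) K) i j) h')

theorem smallBound (hr : 9 ≤ r) : ∀ d, SmallBound r d := by
  intro d
  induction d using Nat.strong_induction_on with
  | _ d ih =>
  intro s hs G π hπ
  haveI := hs
  let K := AlgebraicClosure (ZMod s)
  have h := reduce (k := K) (V := Fin d → K) hr π hπ
    ((glToUnits K (algebraMap (ZMod s) K)).comp G.subtype)
    (fun x hx => by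
      rw [MonoidHom.mem_ker, show x = 1 from Subtype.ext (glToUnits_injective K _
        (hx.trans (map_one _).symm)), map_one])
    (by rwa [Module.finrank_fin_fun])
  simpa [Module.finrank_fin_fun] using h.1

/-- A linear group over an algebraically closed field with a quotient `Alt r`, `r ≥ 9`, has degree
at least `r - 2`, and at least `r - 1` when `r` is non-zero in the field. -/
theorem altBound_of_section (hr : 9 ≤ r) {V : Type v} [AddCommGroup V] [Module k V]
    [FiniteDimensional k V] {H : Type w} [Group H] [Finite H] (π : H →* Alt r)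
    (hπ : Function.Surjective π) (ρ : H →* (Module.End k V)ˣ) (hker : ρ.ker ≤ π.ker) :
    AltBound r k V :=
  reduce hr π hπ ρ hker fun d _ => smallBound hr d

end Cfsg.Agent.AltDeg
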