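import Cfsg.Agent.Lib.AltDeg.Projective

set_option autoImplicit false

/-!
# Linear groups with a section isomorphic to an alternating group: minimal covers
-/

namespace Cfsg.Agent.AltDeg

open Module

universe u v w

variable {r : ℕ} {k : Type u} [Field k] {V : Type v} [AddCommGroup V] [Module k V]

lemma AltBound.mono {W : Type*} [AddCommGroup W] [Module k W] (h : AltBound r k W)
    (hle : finrank k W ≤ finrank k V) : AltBound r k V :=
  ⟨h.1.trans hle, fun h' => (h.2 h').trans hle⟩

/-- A linear group with a quotient `Alt r`, no proper subgroup of which covers the quotient. -/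
structure Cover (r : ℕ) (k : Type u) (V : Type v) (H : Type w) [Field k] [AddCommGroup V]
    [Module k V] [Group H] where
  π : H →* Alt r
  surj : Function.Surjective π
  ρ : H →* (Module.End k V)ˣ
  ker_le : ρ.ker ≤ π.ker
  min : ∀ L : Subgroup H, L.map π = ⊤ → L = ⊤

namespace Cover

variable {H : Type w} [Group H] (C : Cover r k V H)

lemma ker_ne_top (hr : 5 ≤ r) : C.π.ker ≠ ⊤ := by
  intro h
  have h1 : c3 (⟨0, by omega⟩ : Fin r) ⟨1, by omega⟩ ⟨2, by omega⟩ ≠ 1 :=
    c3_ne_one (by simp) (by simp) (by simp)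
  obtain ⟨x, hx⟩ := C.surj (c3 (⟨0, by omega⟩ : Fin r) ⟨1, by omega⟩ ⟨2, by omega⟩)
  apply h1
  rw [← hx]
  exact MonoidHom.mem_ker.mp (h ▸ Subgroup.mem_top x)

/-- Proper normal subgroups lie in the kernel. -/
lemma normal_le (hr : 5 ≤ r) (N : Subgroup H) [hN : N.Normal] (hne : N ≠ ⊤) : N ≤ C.π.ker := by
  haveI : IsSimpleGroup (Alt r) := alternatingGroup.isSimpleGroup (by simpa using hr)
  rcases (hN.map C.π C.surj).eq_bot_or_eq_top with h | h
  · exact (Subgroup.map_eq_bot_iff N).mp h
  · exact absurd (C.min N h) hne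

include C in
lemma perfect (hr : 5 ≤ r) : commutator H = ⊤ := by
  by_contra hne
  have hle := C.normal_le hr (commutator H) hne
  let a : Fin r := ⟨0, by omega⟩
  let b : Fin r := ⟨1, by omega⟩
  let c : Fin r := ⟨2, by omega⟩
  have hS : 5 ≤ (Finset.univ : Finset (Fin r)).card := by simpa using hr
  obtain ⟨p, -, q, -, he⟩ := c3_eq_commutator hS (Finset.mem_univ a) (Finset.mem_univ b)
    (Finset.mem_univ c) (by simp [a, b]) (by simp [a, c]) (by simp [b, c])
  obtain ⟨x, rfl⟩ := C.surj p
  obtain ⟨y, rfl⟩ := C.surj q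
  have h1 : x * y * x⁻¹ * y⁻¹ ∈ C.π.ker := hle (by
    rw [commutator_def, ← commutatorElement_def]
    exact Subgroup.commutator_mem_commutator (Subgroup.mem_top x) (Subgroup.mem_top y))
  rw [MonoidHom.mem_ker, _root_.map_mul, _root_.map_mul, _root_.map_mul, map_inv, map_inv] at h1
  exact c3_ne_one (by simp [a, b]) (by simp [a, c]) (by simp [b, c]) (he.trans h1)

/-- The image is not abelian. -/
lemma not_comm (hr : 5 ≤ r) : ¬ ∀ x y, Commute (C.ρ x) (C.ρ y) := by
  intro h
  refine C.ker_ne_top hr (top_le_iff.mp (le_trans ?_ C.ker_le))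
  rw [← C.perfect hr, commutator_def, Subgroup.commutator_le]
  intro x _ y _
  rw [MonoidHom.mem_ker, map_commutatorElement, commutatorElement_eq_one_iff_commute]
  exact h x y

/-- The elements acting as scalars. -/
def Nsc : Subgroup H := (sc (k := k) (V := V)).range.comap C.ρ

lemma mem_Nsc {x : H} : x ∈ C.Nsc ↔ ∃ c, sc c = C.ρ x := Iff.rfl

instance normal_Nsc : C.Nsc.Normal where
  conj_mem n hn g := by
    obtain ⟨c, hc⟩ := hn
    exact ⟨c, by rw [_root_.map_mul, _root_.map_mul, map_inv, ← hc, ← sc_comm]; group⟩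

lemma Nsc_le (hr : 5 ≤ r) : C.Nsc ≤ C.π.ker := by
  refine C.normal_le hr _ fun h => C.not_comm hr fun x y => ?_
  obtain ⟨c, hc⟩ := C.mem_Nsc.mp (h ▸ Subgroup.mem_top x)
  rw [← hc]
  exact (commute_sc c _).symm

/-- Irreducibility of the representation. -/
def Irr : Prop :=
  ∀ W : Submodule k V, (∀ h, ∀ w ∈ W, (C.ρ h : Module.End k V) w ∈ W) → W = ⊥ ∨ W = ⊤

/-- If all elements of the kernel are scalars we get a projective representation. -/
theorem bound_of_scalar [IsAlgClosed k] [FiniteDimensional k V] [Nontrivial V] (hr : 9 ≤ r)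
    (hirr : C.Irr) (hK : C.π.ker ≤ C.Nsc) : AltBound r k V := by
  have hs : ∀ g, C.π (Function.surjInv C.surj g) = g := Function.surjInv_eq C.surj
  refine PRep.altBound (r := r) (k := k) (V := V)
    { T := fun g => C.ρ (Function.surjInv C.surj g)
      map_mul := fun g h => ?_
      irred := fun W hW => ?_
      nonscalar := fun g hg c hc => ?_ } hr
  · have hmem : Function.surjInv C.surj g * Function.surjInv C.surj h *
        (Function.surjInv C.surj (g * h))⁻¹ ∈ C.π.ker := by
      rw [MonoidHom.mem_ker, _root_.map_mul, _root_.map_mul, map_inv, hs, hs, hs, mul_inv_cancel]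
    obtain ⟨c, hc⟩ := hK hmem
    refine ⟨c, ?_⟩
    rw [hc, ← _root_.map_mul, ← _root_.map_mul, inv_mul_cancel_right]
  · refine hirr W fun x w hw => ?_
    have hmem : x * (Function.surjInv C.surj (C.π x))⁻¹ ∈ C.π.ker := by
      rw [MonoidHom.mem_ker, _root_.map_mul, map_inv, hs, mul_inv_cancel]
    obtain ⟨c, hc⟩ := hK hmem
    rw [← inv_mul_cancel_right x (Function.surjInv C.surj (C.π x)), _root_.map_mul, ← hc,
      mul_apply_units, sc_apply]
    exact W.smul_mem _ (hW _ w hw)
  · have h1 := C.Nsc_le (by omega) (C.mem_Nsc.mpr ⟨c, hc.symm⟩)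
    rw [MonoidHom.mem_ker, hs] at h1
    exact hg h1

/-- A normal subgroup with commutative image is scalar, or gives a set of `r` weights. -/
theorem abelian_scalar [IsAlgClosed k] [FiniteDimensional k V] [Nontrivial V] [Finite H]
    (hr : 5 ≤ r) (hirr : C.Irr) (A : Subgroup H) [hA : A.Normal]
    (hc : ∀ a ∈ A, ∀ b ∈ A, Commute (C.ρ a) (C.ρ b)) : A ≤ C.Nsc ∨ r ≤ finrank k V := by
  classical
  obtain ⟨v₀, -, hv₀, μ, hμ⟩ := exists_joint_eigen (fun a : A => (C.ρ a.1 : Module.End k V))
    (fun a b => (hc a.1 a.2 b.1 b.2).map (Units.coeHom _)) ⊤ top_ne_bot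
    (fun _ _ _ => Submodule.mem_top)
  let cj : H → A → A := fun h a =>
    ⟨h⁻¹ * a.1 * h, by simpa using hA.conj_mem a.1 a.2 h⁻¹⟩
  let ev : H → A → k := fun h a => μ (cj h a)
  have hswap : ∀ (h : H) (a : A) (u : V), (C.ρ a.1 : Module.End k V)
      ((C.ρ h : Module.End k V) u) =
      (C.ρ h : Module.End k V) ((C.ρ (cj h a).1 : Module.End k V) u) := fun h a u => by
    rw [← mul_apply_units, ← mul_apply_units, ← _root_.map_mul, ← _root_.map_mul]
    congr 3
    simp only [cj]
    group
  have hev : ∀ (h : H) (a : A), (C.ρ a.1 : Module.End k V) ((C.ρ h : Module.End k V) v₀) =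
      ev h a • (C.ρ h : Module.End k V) v₀ := fun h a => by
    rw [hswap, hμ (cj h a), map_smul]
  have hcj : ∀ g h a, cj h (cj g a) = cj (g * h) a := fun g h a => Subtype.ext (by
    simp only [cj]; group)
  have hev_mul : ∀ g h a, ev (g * h) a = ev h (cj g a) := fun g h a => by
    simp only [ev, hcj]
  let St : Subgroup H :=
    { carrier := {h | ∀ a, ev h a = μ a}
      one_mem' := fun a => congrArg μ (Subtype.ext (by simp [cj]))
      mul_mem' := fun {g h} hg hh a => by rw [hev_mul, hh]; exact hg a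
      inv_mem' := fun {g} hg a => by
        have h1 := hg (cj g⁻¹ a)
        simp only [ev, hcj, inv_mul_cancel] at h1
        rw [show cj 1 a = a from Subtype.ext (by simp [cj])] at h1
        exact h1.symm }
  by_cases hSt : St = ⊤
  · left
    have hfix : ∀ h a, μ (cj h a) = μ a := fun h a => (hSt ▸ Subgroup.mem_top h : h ∈ St) a
    let W : Submodule k V := ⨅ a : A, Module.End.eigenspace (C.ρ a.1 : Module.End k V) (μ a)
    have hmemW : ∀ {x}, x ∈ W ↔ ∀ a : A, (C.ρ a.1 : Module.End k V) x = μ a • x := fun {x} => by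
      simp only [W, Submodule.mem_iInf, Module.End.mem_eigenspace_iff]
    have hW : W = ⊤ := (hirr W fun h w hw => hmemW.mpr fun a => by
      rw [hswap, hmemW.mp hw (cj h a), map_smul, hfix]).resolve_left fun hb =>
        hv₀ ((Submodule.eq_bot_iff _).mp hb v₀ (hmemW.mpr hμ))
    intro x hx
    have hall : ∀ u, (C.ρ x : Module.End k V) u = μ ⟨x, hx⟩ • u := fun u =>
      hmemW.mp (hW ▸ Submodule.mem_top) ⟨x, hx⟩
    have hne : μ ⟨x, hx⟩ ≠ 0 := fun h0 => hv₀ (by
      rw [← inv_apply_units (C.ρ x) v₀, hall, h0, zero_smul, map_zero])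
    exact C.mem_Nsc.mpr ⟨Units.mk0 _ hne, Units.ext (LinearMap.ext fun u => by
      rw [sc_apply, hall, Units.val_mk0])⟩
  · right
    have h1 : r ≤ (St.map C.π).index :=
      le_index_of_ne_top hr _ fun h => hSt (C.min St h)
    have h2 : (St.map C.π).index ≤ St.index :=
      Nat.le_of_dvd (Nat.pos_of_ne_zero Subgroup.index_ne_zero_of_finite)
        (Subgroup.index_map_dvd St C.surj)
    haveI := Fintype.ofFinite (H ⧸ St)
    have h3 : Fintype.card (H ⧸ St) ≤ finrank k V := by
      refine card_le_of_eigen (fun q : H ⧸ St => (C.ρ q.out : Module.End k V) v₀)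
        (fun a : A => (C.ρ a.1 : Module.End k V)) (fun q => ev q.out) (fun q a => hev _ a)
        (fun q h0 => hv₀ (by rw [← inv_apply_units (C.ρ q.out) v₀, h0, map_zero])) ?_
      intro q q' he
      rw [← q.out_eq', ← q'.out_eq', QuotientGroup.eq]
      intro a
      have he' : ev q.out = ev q'.out := he
      rw [hev_mul, ← congrFun he' (cj q.out⁻¹ a), ← hev_mul, inv_mul_cancel]
      exact congrArg μ (Subtype.ext (by simp [cj]))
    rw [← Nat.card_eq_fintype_card, ← Subgroup.index_eq_card] at h3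
    omega

/-- A minimal non-scalar normal subgroup in the kernel is a group of prime power order. -/
lemma exists_prime [Finite H] (R : Subgroup H) [R.Normal] (hRK : R ≤ C.π.ker)
    (hR : ¬ R ≤ C.Nsc) (hRmin : ∀ L : Subgroup H, L.Normal → L < R → L ≤ C.Nsc) :
    ∃ s, s.Prime ∧ IsPGroup s R := by
  by_contra hno
  push Not at hno
  apply hR
  have hdvd : Nat.card R ∣ Nat.card (C.Nsc.subgroupOf R) := by
    rw [Nat.dvd_iff_prime_pow_dvd_dvd]
    intro s e hs he
    haveI : Fact s.Prime := ⟨hs⟩
    let P : Sylow s R := default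
    have hN : Subgroup.normalizer ((P : Subgroup R).map R.subtype : Set H) = ⊤ := by
      refine C.min _ (top_le_iff.mp ?_)
      rw [← Subgroup.map_top_of_surjective C.π C.surj, ← Sylow.normalizer_sup_eq_top P,
        Subgroup.map_sup]
      refine sup_le le_rfl (le_trans ?_ bot_le)
      rw [le_bot_iff, Subgroup.map_eq_bot_iff]
      exact hRK
    have hnorm : ((P : Subgroup R).map R.subtype).Normal :=
      Subgroup.normalizer_eq_top_iff.mp hN
    have hlt : (P : Subgroup R).map R.subtype < R := by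
      refine lt_of_le_of_ne (Subgroup.map_subtype_le _) fun heq => hno s hs ?_
      have htop : (P : Subgroup R) = ⊤ := Subgroup.map_injective R.subtype_injective
        (by rw [heq, ← MonoidHom.range_eq_map, Subgroup.range_subtype])
      exact (htop ▸ P.isPGroup' : IsPGroup s (⊤ : Subgroup R)).of_equiv Subgroup.topEquiv
    have hle : (P : Subgroup R) ≤ C.Nsc.subgroupOf R := fun x hx =>
      hRmin _ hnorm hlt ⟨x, hx, rfl⟩
    refine (pow_dvd_pow s ?_).trans ((P.card_eq_multiplicity ▸ Subgroup.card_dvd_of_le hle))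
    exact (hs.pow_dvd_iff_le_factorization Nat.card_pos.ne').mp he
  have htop : C.Nsc.subgroupOf R = ⊤ :=
    Subgroup.eq_top_of_card_eq _ (Nat.dvd_antisymm (Subgroup.card_subgroup_dvd_card _) hdvd)
  exact Subgroup.subgroupOf_eq_top.mp htop

end Cover

end Cfsg.Agent.AltDeg
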