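import Cfsg.Agent.Lib.AltDeg.Sect

set_option autoImplicit false

/-!
# The non-scalar layer in the kernel of a minimal cover
-/

namespace Cfsg.Agent.AltDeg

open Module

universe u v w

variable {r : ℕ}

/-- A bound for sections `Alt r` of `GL_d` over a prime field. -/
def SmallBound (r d : ℕ) : Prop :=
  ∀ (s : ℕ) (_ : Fact s.Prime) (G : Subgroup (GL (Fin d) (ZMod s))) (π : G →* Alt r),
    Function.Surjective π → r - 2 ≤ d

lemma sq_lt_two_pow : ∀ m : ℕ, 5 ≤ m → m * m < 2 ^ m := by
  intro m hm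
  induction m, hm using Nat.le_induction with
  | base => norm_num
  | succ m hm ih => rw [pow_succ]; nlinarith

lemma card_alt_large (hr : 9 ≤ r) : 181440 ≤ Nat.card (Alt r) := by
  show 181440 ≤ Nat.card ↥(alternatingGroup (Fin r))
  haveI : Nontrivial (Fin r) := Fin.nontrivial_iff_two_le.mpr (by omega)
  have h := two_mul_nat_card_alternatingGroup (α := Fin r)
  rw [Nat.card_perm, Nat.card_fin] at h
  have h9 := Nat.factorial_le hr
  norm_num [Nat.factorial] at h9
  omega

namespace Cover

variable {k : Type u} [Field k] {V : Type v} [AddCommGroup V] [Module k V] {H : Type w} [Group H]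
  (C : Cover r k V H)

/-- The linear group over the prime field coming from the layer. -/
theorem exists_linear [IsAlgClosed k] [FiniteDimensional k V] [Nontrivial V] [Finite H]
    (hr : 5 ≤ r) (hirr : C.Irr) (hn : finrank k V < r) (hK : ¬ C.π.ker ≤ C.Nsc) :
    ∃ (s d : ℕ) (_ : Fact s.Prime) (ψ : H →* GL (Fin d) (ZMod s)),
      ψ.ker ≤ C.π.ker ∧ 1 ≤ d ∧ s ^ d ≤ finrank k V * finrank k V := by
  classical
  have hab : ∀ A : Subgroup H, A.Normal → (∀ a ∈ A, ∀ b ∈ A, Commute (C.ρ a) (C.ρ b)) →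
      A ≤ C.Nsc := fun A hA hc => by
    haveI := hA
    exact (C.abelian_scalar hr hirr A hc).resolve_right (by omega)
  -- the minimal non-scalar normal subgroup
  obtain ⟨R, ⟨hRn, hRK, hR⟩, hRmin'⟩ := (Set.toFinite {L : Subgroup H | L.Normal ∧
    L ≤ C.π.ker ∧ ¬ L ≤ C.Nsc}).exists_minimal ⟨C.π.ker, inferInstance, le_rfl, hK⟩
  haveI := hRn
  have hRmin : ∀ L : Subgroup H, L.Normal → L < R → L ≤ C.Nsc := fun L hL hlt => by
    by_contra hLn
    exact not_le_of_gt hlt (hRmin' ⟨hL, hlt.le.trans hRK, hLn⟩ hlt.le)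
  obtain ⟨s, hs, hsR⟩ := C.exists_prime R hRK hR hRmin
  haveI hsf : Fact s.Prime := ⟨hs⟩
  haveI : Nontrivial R := (Subgroup.nontrivial_iff_ne_bot R).mpr fun h => hR (h ▸ bot_le)
  haveI := hsR.isNilpotent
  set Z : Subgroup R := C.Nsc.subgroupOf R with hZ
  -- commutators are scalar
  have hcomm : commutator R ≤ Z := by
    have hlt : (commutator R).map R.subtype < R := by
      refine lt_of_le_of_ne (Subgroup.map_subtype_le _) fun heq => ?_
      refine (Group.IsSolvable.commutator_lt_top_of_nontrivial R).ne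
        (Subgroup.map_injective R.subtype_injective ?_)
      rw [heq, ← MonoidHom.range_eq_map, Subgroup.range_subtype]
    intro x hx
    exact hRmin _ ConjAct.normal_of_characteristic_of_normal hlt ⟨x, hx, rfl⟩
  haveI hZn : Z.Normal := by rw [hZ]; infer_instance
  let Q := R ⧸ Z
  letI : CommGroup Q :=
    { (inferInstance : Group (R ⧸ Z)) with
      mul_comm := fun a b => by
        induction a using QuotientGroup.induction_on with
        | H a =>
        induction b using QuotientGroup.induction_on with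
        | H b =>
        rw [← QuotientGroup.mk_mul, ← QuotientGroup.mk_mul, QuotientGroup.eq]
        refine hcomm ?_
        rw [show (a * b)⁻¹ * (b * a) = b⁻¹ * a⁻¹ * b⁻¹⁻¹ * a⁻¹⁻¹ by group, commutator_def,
          ← commutatorElement_def]
        exact Subgroup.commutator_mem_commutator (Subgroup.mem_top _) (Subgroup.mem_top _) }
  haveI : Nontrivial Q := by
    refine (QuotientGroup.nontrivial_iff).mpr fun htop => hR ?_
    exact Subgroup.subgroupOf_eq_top.mp htop
  let act : H → Q →* Q := fun h => QuotientGroup.map Z Z (MulAut.conjNormal h : MulAut R).toMonoidHom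
    (fun x hx => by
      rw [Subgroup.mem_comap, hZ, Subgroup.mem_subgroupOf]
      show ((MulAut.conjNormal h x : R) : H) ∈ C.Nsc
      rw [MulAut.conjNormal_apply]
      exact C.normal_Nsc.conj_mem _ (Subgroup.mem_subgroupOf.mp hx) h)
  have hact : ∀ (h : H) (x : R), act h (x : Q) = ((MulAut.conjNormal h x : R) : Q) := fun h x => rfl
  -- `s`-th powers are scalar
  have hpow : ∀ q : Q, q ^ s = 1 := by
    set P : Subgroup Q := (powMonoidHom s : Q →* Q).range with hP
    have hPne : P ≠ ⊤ := by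
      intro htop
      have hinj : Function.Injective (powMonoidHom s : Q →* Q) :=
        Finite.injective_iff_surjective.mpr (MonoidHom.range_eq_top.mp htop)
      obtain ⟨e, he⟩ := IsPGroup.iff_card.mp (hsR.to_quotient Z)
      have he0 : e ≠ 0 := fun h0 => by
        rw [h0, pow_zero] at he
        exact absurd he Finite.one_lt_card.ne'
      obtain ⟨x, hx⟩ := exists_prime_orderOf_dvd_card' (G := Q) s
        (he ▸ dvd_pow_self s he0)
      have h1 : x = 1 := hinj (by
        rw [powMonoidHom_apply, powMonoidHom_apply, one_pow, ← hx, pow_orderOf_eq_one])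
      rw [h1, orderOf_one] at hx
      exact hs.one_lt.ne hx
    set L : Subgroup H := (P.comap (QuotientGroup.mk' Z)).map R.subtype with hL
    have hLn : L.Normal := ⟨fun n hn g => by
      obtain ⟨x, hx, rfl⟩ := hn
      obtain ⟨y, hy⟩ := hx
      refine ⟨MulAut.conjNormal g x, ⟨act g y, ?_⟩, MulAut.conjNormal_apply g x⟩
      show (act g y) ^ s = _
      rw [← map_pow]
      show act g (powMonoidHom s y) = _
      rw [hy]
      rfl⟩
    have hlt : L < R := by
      refine lt_of_le_of_ne (Subgroup.map_subtype_le _) fun heq => hPne ?_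
      have htop : P.comap (QuotientGroup.mk' Z) = ⊤ := Subgroup.map_injective R.subtype_injective
        (by rw [← hL, heq, ← MonoidHom.range_eq_map, Subgroup.range_subtype])
      refine eq_top_iff.mpr fun q _ => ?_
      induction q using QuotientGroup.induction_on with
      | H x => exact (htop ▸ Subgroup.mem_top x : x ∈ P.comap (QuotientGroup.mk' Z))
    intro q
    obtain ⟨x, hx⟩ := QuotientGroup.mk_surjective (q ^ s)
    rw [← hx, QuotientGroup.eq_one_iff]
    refine Subgroup.mem_subgroupOf.mpr (hRmin L hLn hlt ⟨x, ?_, rfl⟩)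
    exact ⟨q, hx.symm⟩
  -- independent operators
  let CR : Subgroup H := R ⊓ (Subgroup.centralizer (R.map C.ρ : Set (Module.End k V)ˣ)).comap C.ρ
  have hCR : ∀ {w}, w ∈ CR ↔ w ∈ R ∧ ∀ x ∈ R, Commute (C.ρ x) (C.ρ w) := fun {w} => by
    simp [CR, Subgroup.mem_centralizer_iff, commute_iff_eq]
  have hCRsc : CR ≤ C.Nsc := by
    refine hab CR ⟨fun n hn g => ?_⟩ fun a ha b hb => (hCR.mp hb).2 a (hCR.mp ha).1
    obtain ⟨hnR, hn'⟩ := hCR.mp hn
    refine hCR.mpr ⟨hRn.conj_mem n hnR g, fun x hx => ?_⟩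
    have hx' : g⁻¹ * x * g ∈ R := by simpa using hRn.conj_mem x hx g⁻¹
    have h1 := (hn' _ hx').map (MulAut.conj (C.ρ g)).toMonoidHom
    simpa [_root_.map_mul, mul_assoc] using h1
  have hcardQ : Nat.card Q ≤ finrank k V * finrank k V := by
    have hscal : ∀ (x : R) (q : Q), ∃ c : kˣ,
        C.ρ x.1 * C.ρ q.out.1 * (C.ρ x.1)⁻¹ = sc c * C.ρ q.out.1 := fun x q => by
      have hz : x * q.out * x⁻¹ * q.out⁻¹ ∈ Z := hcomm (by
        rw [commutator_def, ← commutatorElement_def]
        exact Subgroup.commutator_mem_commutator (Subgroup.mem_top _) (Subgroup.mem_top _))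
      obtain ⟨c, hc⟩ := C.mem_Nsc.mp (Subgroup.mem_subgroupOf.mp hz)
      refine ⟨c, ?_⟩
      rw [hc]
      simp only [Subgroup.coe_mul, Subgroup.coe_inv, _root_.map_mul, map_inv]
      group
    choose c hc using hscal
    haveI := Fintype.ofFinite Q
    have h1 := card_le_of_eigen (k := k) (V := Module.End k V)
      (fun q : Q => (C.ρ q.out.1 : Module.End k V))
      (fun x : R => (LinearMap.mulLeft k (C.ρ x.1 : Module.End k V)).comp
        (LinearMap.mulRight k (((C.ρ x.1)⁻¹ : (Module.End k V)ˣ) : Module.End k V)))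
      (fun q x => (c x q : k))
      (fun q x => by
        have := congrArg Units.val (hc x q)
        simp only [Units.val_mul, sc_val, smul_mul_assoc, one_mul] at this
        rw [LinearMap.comp_apply, LinearMap.mulLeft_apply, LinearMap.mulRight_apply, ← mul_assoc]
        exact this)
      (fun q => Units.ne_zero _) (fun q q' he => by
        have hw : (q.out⁻¹ * q'.out : R).1 ∈ CR := by
          refine hCR.mpr ⟨(q.out⁻¹ * q'.out : R).2, fun x hx => ?_⟩
          have e1 := hc ⟨x, hx⟩ q
          have e2 := hc ⟨x, hx⟩ q'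
          rw [show c ⟨x, hx⟩ q' = c ⟨x, hx⟩ q from Units.ext (congrFun he ⟨x, hx⟩).symm] at e2
          rw [Subgroup.coe_mul, Subgroup.coe_inv, _root_.map_mul, map_inv]
          show C.ρ x * _ = _ * C.ρ x
          rw [← mul_inv_eq_iff_eq_mul]
          calc C.ρ x * ((C.ρ q.out.1)⁻¹ * C.ρ q'.out.1) * (C.ρ x)⁻¹
              = (C.ρ x * C.ρ q.out.1 * (C.ρ x)⁻¹)⁻¹ * (C.ρ x * C.ρ q'.out.1 * (C.ρ x)⁻¹) := by
                group
            _ = (C.ρ q.out.1)⁻¹ * C.ρ q'.out.1 := by rw [e1, e2]; group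
        rw [← q.out_eq', ← q'.out_eq', QuotientGroup.eq]
        exact Subgroup.mem_subgroupOf.mpr (hCRsc hw))
    rw [Module.finrank_linearMap, ← Nat.card_eq_fintype_card] at h1
    exact h1
  -- the action on the layer
  have instQ : Module (ZMod s) (Additive Q) :=
    AddCommGroup.zmodModule (fun x => by
      apply Additive.toMul.injective
      rw [toMul_nsmul, toMul_zero]
      exact hpow _)
  let f : H → Module.End (ZMod s) (Additive Q) := fun h =>
    (MonoidHom.toAdditive (act h)).toZModLinearMap s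
  have hf : ∀ (h : H) (x : R), f h (Additive.ofMul (x : Q)) =
      Additive.ofMul ((MulAut.conjNormal h x : R) : Q) := fun h x => rfl
  have hf1 : f 1 = 1 := LinearMap.ext fun x => by
    obtain ⟨y, rfl⟩ := Additive.ofMul.surjective x
    obtain ⟨y, rfl⟩ := QuotientGroup.mk_surjective y
    rw [hf, map_one, Module.End.one_apply]
    rfl
  have hfmul : ∀ g h, f (g * h) = f g * f h := fun g h => LinearMap.ext fun x => by
    obtain ⟨y, rfl⟩ := Additive.ofMul.surjective x
    obtain ⟨y, rfl⟩ := QuotientGroup.mk_surjective y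
    rw [hf, Module.End.mul_apply, hf, hf, _root_.map_mul]
    rfl
  let M : H →* Module.End (ZMod s) (Additive Q) :=
    { toFun := f, map_one' := hf1, map_mul' := hfmul }
  have hkerM : ∀ h, M h = 1 → ∀ x : R, h * x.1 * h⁻¹ * x.1⁻¹ ∈ C.Nsc := by
    intro h hh x
    have h1 : f h (Additive.ofMul (x : Q)) = Additive.ofMul (x : Q) :=
      LinearMap.congr_fun (hh : f h = 1) _
    rw [hf, Additive.ofMul.apply_eq_iff_eq, QuotientGroup.eq] at h1
    have h2 := C.normal_Nsc.conj_mem _ (Subgroup.mem_subgroupOf.mp (inv_mem h1)) x.1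
    simpa [mul_assoc] using h2
  set b := Module.finBasis (ZMod s) (Additive Q) with hb
  refine ⟨s, finrank (ZMod s) (Additive Q), hsf,
    MonoidHom.toHomUnits ((LinearMap.toMatrixAlgEquiv b).toMonoidHom.comp M), ?_,
    Module.finrank_pos, ?_⟩
  · set ψ := MonoidHom.toHomUnits ((LinearMap.toMatrixAlgEquiv b).toMonoidHom.comp M)
    refine C.normal_le hr ψ.ker fun htop => hR (fun x hx => hCRsc (hCR.mpr ⟨hx, fun y hy => ?_⟩))
    have hone : ∀ h, M h = 1 := fun h => by
      have h1 : ψ h = 1 := MonoidHom.mem_ker.mp (htop ▸ Subgroup.mem_top h)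
      exact (LinearMap.toMatrixAlgEquiv b).injective
        ((congrArg Units.val h1).trans (map_one _).symm)
    -- every element commutes with the image of `R` up to a scalar, hence exactly
    have hT : (⊤ : Subgroup H) ≤ (Subgroup.centralizer {C.ρ x}).comap C.ρ := by
      rw [← C.perfect hr, commutator_def, Subgroup.commutator_le]
      intro g _ h _
      obtain ⟨a, ha⟩ := C.mem_Nsc.mp (hkerM g (hone g) ⟨x, hx⟩)
      obtain ⟨b', hb'⟩ := C.mem_Nsc.mp (hkerM h (hone h) ⟨x, hx⟩)
      simp only [_root_.map_mul, map_inv] at ha hb'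
      have ga : C.ρ g * C.ρ x * (C.ρ g)⁻¹ = sc a * C.ρ x := by rw [ha]; group
      have hb2 : C.ρ h * C.ρ x * (C.ρ h)⁻¹ = sc b' * C.ρ x := by rw [hb']; group
      have gi : (C.ρ g)⁻¹ * C.ρ x * C.ρ g = sc a⁻¹ * C.ρ x := by
        calc (C.ρ g)⁻¹ * C.ρ x * C.ρ g
            = sc a⁻¹ * ((C.ρ g)⁻¹ * (sc a * C.ρ x) * C.ρ g) := by
              rw [← mul_assoc (C.ρ g)⁻¹, ← sc_comm, map_inv]; group
          _ = _ := by rw [← ga]; group
      have hi : (C.ρ h)⁻¹ * C.ρ x * C.ρ h = sc b'⁻¹ * C.ρ x := by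
        calc (C.ρ h)⁻¹ * C.ρ x * C.ρ h
            = sc b'⁻¹ * ((C.ρ h)⁻¹ * (sc b' * C.ρ x) * C.ρ h) := by
              rw [← mul_assoc (C.ρ h)⁻¹, ← sc_comm, map_inv]; group
          _ = _ := by rw [← hb2]; group
      rw [Subgroup.mem_comap, Subgroup.mem_centralizer_singleton_iff, commutatorElement_def,
        _root_.map_mul, _root_.map_mul, _root_.map_mul, map_inv, map_inv]
      have move : ∀ (A X : (Module.End k V)ˣ) (e : kˣ), A * (sc e * X) * A⁻¹ =
          sc e * (A * X * A⁻¹) := fun A X e => by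
        rw [← mul_assoc A, ← sc_comm]; group
      have move' : ∀ (A X : (Module.End k V)ˣ) (e : kˣ), A⁻¹ * (sc e * X) * A =
          sc e * (A⁻¹ * X * A) := fun A X e => by
        rw [← mul_assoc A⁻¹, ← sc_comm]; group
      have key : C.ρ g * C.ρ h * (C.ρ g)⁻¹ * (C.ρ h)⁻¹ * C.ρ x *
          (C.ρ g * C.ρ h * (C.ρ g)⁻¹ * (C.ρ h)⁻¹)⁻¹ = C.ρ x := by
        calc _ = C.ρ g * (C.ρ h * ((C.ρ g)⁻¹ * ((C.ρ h)⁻¹ * C.ρ x * C.ρ h) * C.ρ g) *
              (C.ρ h)⁻¹) * (C.ρ g)⁻¹ := by group
          _ = sc b'⁻¹ * (sc a⁻¹ * (sc b' * (sc a * C.ρ x))) := by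
              rw [hi, move', gi]; simp only [move, hb2, ga]
          _ = C.ρ x := by
              rw [← mul_assoc, ← mul_assoc, ← mul_assoc, ← _root_.map_mul, ← _root_.map_mul,
                ← _root_.map_mul]
              simp [mul_comm, mul_left_comm]
      exact mul_inv_eq_iff_eq_mul.mp key
    exact Subgroup.mem_centralizer_singleton_iff.mp (hT (Subgroup.mem_top y))
  · calc s ^ finrank (ZMod s) (Additive Q) = Nat.card (Additive Q) := by
          rw [Module.natCard_eq_pow_finrank (K := ZMod s), Nat.card_zmod]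
      _ = Nat.card Q := Nat.card_congr Additive.toMul
      _ ≤ _ := hcardQ

/-- The numerical conclusion of the layer. -/
theorem bound_of_layer [IsAlgClosed k] [FiniteDimensional k V] [Nontrivial V] [Finite H]
    (hr : 9 ≤ r) (hirr : C.Irr) (hK : ¬ C.π.ker ≤ C.Nsc)
    (IH : ∀ d < finrank k V, SmallBound r d) : AltBound r k V := by
  by_contra hb
  set n := finrank k V with hn
  have hn2 : n + 2 ≤ r := by
    by_contra h
    exact hb (altBound_of_le (n := n) (by omega) le_rfl)
  obtain ⟨s, d, hsf, ψ, hψ, hd1, hd⟩ := C.exists_linear (by omega) hirr (by omega) hK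
  haveI := hsf
  have hs2 : 2 ≤ s := hsf.out.two_le
  have h2d : 2 ^ d ≤ n * n := (Nat.pow_le_pow_left hs2 d).trans hd
  let π' : ψ.range →* Alt r :=
    (QuotientGroup.lift ψ.ker C.π hψ).comp (QuotientGroup.quotientKerEquivRange ψ).symm.toMonoidHom
  have hπ' : Function.Surjective π' := by
    intro g
    obtain ⟨x, rfl⟩ := C.surj g
    refine ⟨QuotientGroup.quotientKerEquivRange ψ (x : H ⧸ ψ.ker), ?_⟩
    show QuotientGroup.lift ψ.ker C.π hψ ((QuotientGroup.quotientKerEquivRange ψ).symm
      (QuotientGroup.quotientKerEquivRange ψ (x : H ⧸ ψ.ker))) = C.π x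
    rw [MulEquiv.symm_apply_apply]
    rfl
  by_cases hdn : d < n
  · have hrd : r - 2 ≤ d := IH d hdn s hsf ψ.range π' hπ'
    have := sq_lt_two_pow d (by omega)
    have : n * n ≤ d * d := Nat.mul_le_mul (by omega) (by omega)
    omega
  · push Not at hdn
    have hd4 : d ≤ 4 := by
      by_contra h
      have := sq_lt_two_pow d (by omega)
      have : n * n ≤ d * d := Nat.mul_le_mul hdn hdn
      omega
    have h16 : s ^ d ≤ 16 := hd.trans (Nat.mul_le_mul (by omega : n ≤ 4) (by omega : n ≤ 4))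
    have h1 : Nat.card (Alt r) ≤ Nat.card (GL (Fin d) (ZMod s)) :=
      (Nat.card_le_card_of_surjective π' hπ').trans (Subgroup.card_le_card_group _)
    have h2 : Nat.card (GL (Fin d) (ZMod s)) ≤ (s ^ d) ^ d := by
      refine (Nat.card_le_card_of_injective (fun g : GL (Fin d) (ZMod s) => fun i j =>
        (g : Matrix (Fin d) (Fin d) (ZMod s)) i j) ?_).trans ?_
      · intro g g' h
        exact Units.ext (Matrix.ext fun i j => congrFun (congrFun h i) j)
      · simp [Nat.card_fun, Nat.card_zmod]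
    have h3 : (s ^ d) ^ d ≤ 16 ^ 4 :=
      (Nat.pow_le_pow_left h16 d).trans (Nat.pow_le_pow_right (by norm_num) hd4)
    have h4 := card_alt_large hr
    norm_num at h3
    omega

end Cover

end Cfsg.Agent.AltDeg
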