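import Cfsg.Agent.Lib.AltDeg.Quadratic
import Cfsg.Agent.Lib.AltDeg.Involution

set_option autoImplicit false

/-!
# Characteristic three, anticommuting four-groups
-/

namespace Cfsg.Agent.AltDeg

open Module

universe u v

variable {r : ℕ} {k : Type u} [Field k] {V : Type v} [AddCommGroup V] [Module k V]

/-- Splitting of a module under an anticommuting pair of square roots of `-1`. -/
lemma anti_split [FiniteDimensional k V] (h2 : (2 : k) ≠ 0) {ι : k} (hι : ι * ι = -1)
    (X Y : Module.End k V) (hX : X * X = -1) (hY : Y * Y = -1) (hXY : X * Y = -(Y * X))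
    (W : Submodule k V) (hW : W ≠ ⊥) (hWX : ∀ w ∈ W, X w ∈ W) (hWY : ∀ w ∈ W, Y w ∈ W) :
    W ⊓ LinearMap.ker (X - ι • 1) ≠ ⊥ ∧
      2 * finrank k ↥(W ⊓ LinearMap.ker (X - ι • 1)) ≤ finrank k W ∧
      ∀ w ∈ W, ∃ m ∈ W ⊓ LinearMap.ker (X - ι • 1), ∃ m' ∈ W ⊓ LinearMap.ker (X - ι • 1),
        w = m + Y m' := by
  have hι0 : ι ≠ 0 := fun h => by simp [h] at hι
  have h2ι : ι + ι ≠ 0 := by rw [← two_mul]; exact mul_ne_zero h2 hι0
  have hX' : ∀ w, X (X w) = -w := fun w => by
    rw [← Module.End.mul_apply, hX]; rfl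
  have hY' : ∀ w, Y (Y w) = -w := fun w => by
    rw [← Module.End.mul_apply, hY]; rfl
  have hXY' : ∀ w, X (Y w) = -(Y (X w)) := fun w => by
    rw [← Module.End.mul_apply, hXY]; rfl
  set M := W ⊓ LinearMap.ker (X - ι • 1) with hM
  have hmem : ∀ w, w ∈ M ↔ w ∈ W ∧ X w = ι • w := fun w => by
    simp [hM, sub_eq_zero]
  have hplus : ∀ w ∈ W, X w + ι • w ∈ M := fun w hw => (hmem _).mpr
    ⟨W.add_mem (hWX w hw) (W.smul_mem _ hw), by
      rw [map_add, hX', map_smul, smul_add, smul_smul, hι, neg_smul, one_smul]; abel⟩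
  have hminus : ∀ w ∈ W, Y (X w - ι • w) ∈ M := fun w hw => (hmem _).mpr
    ⟨hWY _ (W.sub_mem (hWX w hw) (W.smul_mem _ hw)), by
      rw [hXY', ← map_neg, ← map_smul Y ι, map_sub, hX', map_smul, smul_sub, smul_smul, hι,
        neg_smul, one_smul]
      congr 1
      abel⟩
  refine ⟨?_, ?_, ?_⟩
  · obtain ⟨w, hw, hw0⟩ := Submodule.exists_mem_ne_zero_of_ne_bot hW
    rw [Submodule.ne_bot_iff]
    by_cases hp : X w + ι • w = 0
    · refine ⟨_, hminus w hw, fun h => hw0 ?_⟩
      have h1 : X w = -(ι • w) := eq_neg_of_add_eq_zero_left hp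
      rw [h1] at h
      have h3 : (ι + ι) • w = 0 := by
        have h4 := congrArg Y h
        rw [hY', map_zero, neg_eq_zero] at h4
        rw [add_smul, ← neg_eq_zero, ← h4]; abel
      exact (smul_eq_zero.mp h3).resolve_left h2ι
    · exact ⟨_, hplus w hw, hp⟩
  · have hdisj : M ⊓ M.map Y = ⊥ := by
      rw [Submodule.eq_bot_iff]
      rintro x ⟨hx, y, hy, rfl⟩
      have h1 := ((hmem _).mp hx).2
      rw [hXY', ((hmem y).mp hy).2, map_smul] at h1
      have h3 : (ι + ι) • Y y = 0 := by
        rw [add_smul]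
        nth_rewrite 2 [← h1]
        abel
      exact (smul_eq_zero.mp h3).resolve_left h2ι
    have hinj : finrank k (M.map Y) = finrank k M := by
      have hI : Function.Injective (Y.domRestrict M) := by
        rw [← LinearMap.ker_eq_bot, Submodule.eq_bot_iff]
        rintro ⟨y, hy⟩ hy'
        rw [LinearMap.mem_ker, LinearMap.domRestrict_apply] at hy'
        apply Subtype.ext
        show y = 0
        have hyy := hY' y
        rw [show Y y = 0 from hy', map_zero] at hyy
        exact neg_eq_zero.mp hyy.symm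
      rw [← LinearMap.range_domRestrict, LinearMap.finrank_range_of_inj hI]
    have hle : M ⊔ M.map Y ≤ W := by
      refine sup_le inf_le_left ?_
      rintro x ⟨y, hy, rfl⟩
      exact hWY y hy.1
    have := Submodule.finrank_sup_add_finrank_inf_eq M (M.map Y)
    rw [hdisj, finrank_bot, hinj] at this
    have := Submodule.finrank_mono hle
    omega
  · intro w hw
    refine ⟨(ι + ι)⁻¹ • (X w + ι • w), M.smul_mem _ (hplus w hw),
      (ι + ι)⁻¹ • Y (X w - ι • w), M.smul_mem _ (hminus w hw), ?_⟩
    rw [map_smul, hY', ← smul_add,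
      show X w + ι • w + -(X w - ι • w) = (ι + ι) • w by rw [add_smul]; abel, smul_smul,
      inv_mul_cancel₀ h2ι, one_smul]

namespace PRep

variable (ρ : PRep r k V)

/-- The four-groups lift to quaternion groups. -/
def Anti : Prop :=
  ∀ a b c d, Quad a b c d → ∀ X Y, ρ.IsLift (d2 a b c d) X → ρ.IsLift (d2 a c b d) Y →
    X * Y = sc (-1 : kˣ) * (Y * X)

lemma sc_neg_one_mul (Z : (Module.End k V)ˣ) :
    ((sc (-1 : kˣ) * Z : (Module.End k V)ˣ) : Module.End k V) = -(Z : Module.End k V) := by
  rw [Units.val_mul, sc_val]; simp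

lemma sc_neg_one_val : ((sc (-1 : kˣ) : (Module.End k V)ˣ) : Module.End k V) = -1 := by
  rw [sc_val]; simp

/-- Lifts of elements off four points centralise those of the double transposition on them. -/
lemma off_quad_commute (hr : 9 ≤ r) {a b c d : Fin r} (q : Quad a b c d) {S : Finset (Fin r)}
    (hS : ∀ x ∈ S, x ≠ a ∧ x ≠ b ∧ x ≠ c ∧ x ≠ d) {σ : Alt r} (hσ : σ ∈ suppIn S)
    {X Y : (Module.End k V)ˣ} (hX : ρ.IsLift (d2 a b c d) X) (hY : ρ.IsLift σ Y) :
    Commute X Y := by
  have hc : suppIn ({a, b, c, d} : Finset (Fin r))ᶜ ≤ ρ.centLift (d2 a b c d) X := by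
    refine ρ.suppIn_le_centLift ?_ hX fun h hh => ?_
    · rw [Finset.card_compl, Fintype.card_fin]
      have h4 : ({a, b, c, d} : Finset (Fin r)).card ≤ 4 := Finset.card_le_four
      omega
    · show d2 a b c d * h = h * d2 a b c d
      have h1 := d2_conj h q.hab q.hcd
      rw [hh a (by simp), hh b (by simp), hh c (by simp), hh d (by simp),
        mul_inv_eq_iff_eq_mul] at h1
      exact h1.symm
  refine (hc ?_).2 Y hY
  refine suppIn_mono (fun x hx => ?_) hσ
  obtain ⟨h1, h2, h3, h4⟩ := hS x hx
  simp [h1, h2, h3, h4]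

/-- Quaternion lifts force large invariant subspaces. -/
theorem spin_lower [IsAlgClosed k] [FiniteDimensional k V] [Nontrivial V] (L : CycLift ρ)
    (hr : 9 ≤ r) (hanti : ρ.Anti) (h3 : (3 : k) = 0) (h2 : (2 : k) ≠ 0) :
    ∀ (n : ℕ) (S : Finset (Fin r)) (W : Submodule k V), S.card = n → 4 ≤ n → W ≠ ⊥ →
      (∀ σ ∈ suppIn S, ∀ X, ρ.IsLift σ X → ∀ w ∈ W, (X : Module.End k V) w ∈ W) →
      2 ^ ((n + 1) / 4) ≤ finrank k W := by
  intro n
  induction n using Nat.strong_induction_on with
  | _ n ih =>
    intro S W hS hn hW hinv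
    obtain ⟨ι, hι⟩ := IsAlgClosed.exists_pow_nat_eq (-1 : k) (show 0 < 2 by omega)
    rw [sq] at hι
    obtain ⟨F, hF, hF4⟩ := Finset.exists_subset_card_eq (show 4 ≤ S.card by omega)
    obtain ⟨a, b, c, d, hab, hac, had, hbc, hbd, hcd, rfl⟩ := Finset.card_eq_four.mp hF4
    have q : Quad a b c d := ⟨hab, hac, had, hbc, hbd, hcd⟩
    have ha : a ∈ S := hF (by simp)
    have hb : b ∈ S := hF (by simp)
    have hc : c ∈ S := hF (by simp)
    have hd : d ∈ S := hF (by simp)
    obtain ⟨X, hX, hX2⟩ := ρ.exists_lift_sq q.mul_self (-1 : kˣ)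
    obtain ⟨Y, hY, hY2⟩ := ρ.exists_lift_sq q.perm_acbd.mul_self (-1 : kˣ)
    have hXv : (X : Module.End k V) * (X : Module.End k V) = -1 := by
      rw [← Units.val_mul, hX2, sc_neg_one_val]
    have hYv : (Y : Module.End k V) * (Y : Module.End k V) = -1 := by
      rw [← Units.val_mul, hY2, sc_neg_one_val]
    have hXYv : (X : Module.End k V) * (Y : Module.End k V) =
        -((Y : Module.End k V) * (X : Module.End k V)) := by
      rw [← Units.val_mul, hanti a b c d q X Y hX hY, sc_neg_one_mul, Units.val_mul]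
    have hXW := hinv _ (d2_mem_suppIn hab hcd ha hb hc hd) X hX
    have hYW := hinv _ (d2_mem_suppIn hac hbd ha hc hb hd) Y hY
    obtain ⟨hM, hdim, hdec⟩ := anti_split h2 hι _ _ hXv hYv hXYv W hW hXW hYW
    set M := W ⊓ LinearMap.ker ((X : Module.End k V) - ι • 1) with hMdef
    have hMpos : 1 ≤ finrank k M := by
      rw [Nat.one_le_iff_ne_zero]
      exact fun h => hM (Submodule.finrank_eq_zero.mp h)
    rcases Nat.lt_or_ge n 7 with h7 | h7
    · rw [show (n + 1) / 4 = 1 by omega, pow_one]; omega
    have hS'c : (S \ {a, b, c, d}).card = n - 4 := by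
      rw [Finset.card_sdiff_of_subset hF, hS, hF4]
    set S' := S \ {a, b, c, d} with hS'
    have hoff : ∀ x ∈ S', x ≠ a ∧ x ≠ b ∧ x ≠ c ∧ x ≠ d := by
      intro x hx
      simp only [hS', Finset.mem_sdiff, Finset.mem_insert, Finset.mem_singleton, not_or] at hx
      exact hx.2
    have hMinv : ∀ σ ∈ suppIn S', ∀ Z, ρ.IsLift σ Z → ∀ m ∈ M, (Z : Module.End k V) m ∈ M := by
      rintro σ hσ Z hZ m ⟨hmW, hm⟩
      refine ⟨hinv σ (suppIn_mono Finset.sdiff_subset hσ) Z hZ m hmW, ?_⟩
      simp only [SetLike.mem_coe, LinearMap.mem_ker, LinearMap.sub_apply, LinearMap.smul_apply,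
        Module.End.one_apply, sub_eq_zero] at hm ⊢
      rw [← mul_apply_units, (ρ.off_quad_commute hr q hoff hσ hX hZ).eq, mul_apply_units, hm,
        map_smul]
    by_cases h8 : n = 7
    · subst h8
      rw [show (7 + 1) / 4 = 2 by rfl]
      by_contra hlt
      have hM1 : finrank k M = 1 := by omega
      obtain ⟨e, f, g, hef, heg, hfg, hefg⟩ := Finset.card_eq_three.mp hS'c
      have he : e ∈ S' := hefg ▸ by simp
      have hf : f ∈ S' := hefg ▸ by simp
      have hg : g ∈ S' := hefg ▸ by simp
      set Z := L.ξ e f g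
      have hZl := L.lift e f g hef heg hfg
      have hZS : c3 e f g ∈ suppIn S' := c3_mem_suppIn hef hfg he hf hg
      have hfixM : ∀ m ∈ M, (Z : Module.End k V) m = m := by
        intro m hm
        by_cases hm0 : m = 0
        · rw [hm0, map_zero]
        have hZm := hMinv _ hZS Z hZl m hm
        obtain ⟨t, ht⟩ := (finrank_eq_one_iff_of_nonzero' (⟨m, hm⟩ : M)
          (fun h => hm0 (congrArg Subtype.val h))).mp hM1 ⟨_, hZm⟩
        have ht' : (Z : Module.End k V) m = t • m := (congrArg Subtype.val ht).symm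
        have hcube : t ^ 3 = 1 := by
          have h1 := congrArg (fun A : (Module.End k V)ˣ => (A : Module.End k V) m)
            (L.cube e f g hef heg hfg)
          rw [pow_three', mul_apply_units, mul_apply_units, ht', map_smul, ht', map_smul,
            map_smul, ht', smul_smul, smul_smul] at h1
          exact smul_left_injective k hm0 (by rw [show t ^ 3 = t * t * t by ring]; simpa using h1)
        have ht1 : t = 1 := by
          have h0 : (t - 1) ^ 3 = 0 := by linear_combination hcube - (t * t - t) * h3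
          exact sub_eq_zero.mp (eq_zero_of_pow_eq_zero h0)
        rw [ht', ht1, one_smul]
      have hfixW : ∀ w ∈ W, (Z : Module.End k V) w = w := by
        intro w hw
        obtain ⟨m, hm, m', hm', rfl⟩ := hdec w hw
        have hcY : Commute Y Z := ρ.off_quad_commute hr q.perm_acbd
          (fun x hx => ⟨(hoff x hx).1, (hoff x hx).2.2.1, (hoff x hx).2.1, (hoff x hx).2.2.2⟩)
          hZS hY hZl
        rw [map_add, hfixM m hm, ← mul_apply_units, ← hcY.eq, mul_apply_units, hfixM m' hm']
      have hall : ∀ x y z, x ∈ S → y ∈ S → z ∈ S → x ≠ y → x ≠ z → y ≠ z →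
          ∀ w ∈ W, (L.ξ x y z : Module.End k V) w = w := by
        intro x y z hx hy hz hxy hxz hyz w hw
        obtain ⟨τ, hτ, hτv⟩ := exists_alt_map_fix Sᶜ ![e, f, g] ![x, y, z]
          (injective_triple hef heg hfg) (injective_triple hxy hxz hyz)
          (by
            have hsub : ∀ t ∈ S', t ∉ Sᶜ := fun t ht => by simp [Finset.sdiff_subset ht]
            intro i; fin_cases i <;> simp [hsub _ he, hsub _ hf, hsub _ hg] <;>
              exact Finset.sdiff_subset ‹_›)
          (by intro i; fin_cases i <;> simp [hx, hy, hz])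
          (by rw [Finset.card_compl, Fintype.card_fin]; omega)
        rw [compl_compl] at hτ
        have t0 : (τ : Equiv.Perm (Fin r)) e = x := hτv 0
        have t1 : (τ : Equiv.Perm (Fin r)) f = y := hτv 1
        have t2 : (τ : Equiv.Perm (Fin r)) g = z := hτv 2
        have hcj := L.conj e f g hef heg hfg τ _ (ρ.lift_T τ)
        rw [t0, t1, t2] at hcj
        rw [← hcj, mul_apply_units, mul_apply_units,
          hfixW _ (hinv _ ((suppIn S).inv_mem hτ) _ (ρ.lift_inv (ρ.lift_T τ)) w hw),
          apply_inv_units]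
      obtain ⟨w₀, hw₀, hw₀0⟩ := Submodule.exists_mem_ne_zero_of_ne_bot hW
      let K : Subgroup (Alt r) :=
        { carrier := {σ | ∀ A, ρ.IsLift σ A → ∃ t : k, ∀ w ∈ W, (A : Module.End k V) w = t • w}
          one_mem' := fun A hA => by
            obtain ⟨s, rfl⟩ := ρ.lift_unique ρ.lift_one hA
            exact ⟨s, fun w _ => by rw [mul_one, sc_apply]⟩
          mul_mem' := fun {p p'} hp hp' A hA => by
            obtain ⟨s, rfl⟩ := ρ.lift_unique (ρ.lift_mul (ρ.lift_T p) (ρ.lift_T p')) hA
            obtain ⟨t, ht⟩ := hp _ (ρ.lift_T p)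
            obtain ⟨t', ht'⟩ := hp' _ (ρ.lift_T p')
            exact ⟨s * (t' * t), fun w hw => by
              rw [mul_apply_units, mul_apply_units, sc_apply, ht' w hw, map_smul, ht w hw,
                smul_smul, smul_smul, mul_assoc]⟩
          inv_mem' := fun {p} hp A hA => by
            have h1 := ρ.lift_inv hA
            rw [inv_inv] at h1
            obtain ⟨t, ht⟩ := hp _ h1
            refine ⟨t⁻¹, fun w hw => ?_⟩
            have hw' := ht w hw
            have ht0 : t ≠ 0 := fun h0 => hw₀0 (by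
              rw [← apply_inv_units A w₀, ht w₀ hw₀, h0, zero_smul, map_zero])
            have := congrArg (fun x => (A : Module.End k V) x) hw'
            simp only [apply_inv_units, map_smul] at this
            nth_rewrite 2 [this]
            rw [smul_smul, inv_mul_cancel₀ ht0, one_smul] }
      have hSK : suppIn S ≤ K := suppIn_le_of_c3 S K fun x y z hx hy hz hxy hxz hyz A hA => by
        obtain ⟨s, rfl⟩ := ρ.lift_unique (L.lift x y z hxy hxz hyz) hA
        exact ⟨s, fun w hw => by rw [mul_apply_units, sc_apply, hall x y z hx hy hz hxy hxz hyz w hw]⟩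
      obtain ⟨α, hα⟩ := hSK (d2_mem_suppIn hab hcd ha hb hc hd) X hX
      obtain ⟨β, hβ⟩ := hSK (d2_mem_suppIn hac hbd ha hc hb hd) Y hY
      have h := LinearMap.congr_fun hXYv w₀
      rw [Module.End.mul_apply, LinearMap.neg_apply, Module.End.mul_apply, hα w₀ hw₀, hβ w₀ hw₀,
        map_smul, map_smul, hα w₀ hw₀, hβ w₀ hw₀, smul_smul, smul_smul, ← neg_smul] at h
      have h' := smul_left_injective k hw₀0 h
      have hαβ : α * β ≠ 0 := by
        have e1 := hX2
        have e2 := congrArg (fun A : (Module.End k V)ˣ => (A : Module.End k V) w₀) e1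
        simp only [mul_apply_units, sc_neg_one_val, LinearMap.neg_apply, Module.End.one_apply,
          hα w₀ hw₀, map_smul, smul_smul, ← neg_one_smul k w₀] at e2
        have e3 := congrArg (fun A : (Module.End k V)ˣ => (A : Module.End k V) w₀) hY2
        simp only [mul_apply_units, sc_neg_one_val, LinearMap.neg_apply, Module.End.one_apply,
          hβ w₀ hw₀, map_smul, smul_smul, ← neg_one_smul k w₀] at e3
        have e2' := smul_left_injective k hw₀0 e2
        have e3' := smul_left_injective k hw₀0 e3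
        intro h0
        rcases mul_eq_zero.mp h0 with h0 | h0
        · rw [h0, mul_zero] at e2'; exact neg_ne_zero.mpr one_ne_zero e2'.symm
        · rw [h0, mul_zero] at e3'; exact neg_ne_zero.mpr one_ne_zero e3'.symm
      exact mul_ne_zero h2 hαβ (by linear_combination h')
    · have hrec := ih (n - 4) (by omega) S' M hS'c (by omega) hM hMinv
      rw [show (n + 1) / 4 = (n - 4 + 1) / 4 + 1 by omega, pow_succ]
      omega

/-- Characteristic three with quaternion four-groups. -/
theorem bound_spin [IsAlgClosed k] [FiniteDimensional k V] [Nontrivial V] (L : CycLift ρ)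
    (hr : 9 ≤ r) (hanti : ρ.Anti) (h3 : (3 : k) = 0) (h2 : (2 : k) ≠ 0) : AltBound r k V := by
  let p : Fin 4 → Fin r := fun i => ⟨i.1, by omega⟩
  have hp : ∀ i j, i ≠ j → p i ≠ p j := fun i j h hij => h (by simpa [p, Fin.ext_iff] using hij)
  set a := p 0
  set b := p 1
  set c := p 2
  set d := p 3
  have q : Quad a b c d := ⟨hp 0 1 (by decide), hp 0 2 (by decide), hp 0 3 (by decide),
    hp 1 2 (by decide), hp 1 3 (by decide), hp 2 3 (by decide)⟩
  set x := L.ξ a b c with hxdef
  have hxl : ρ.IsLift (c3 a b c) x := L.lift a b c q.hab q.hac q.hbc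
  obtain ⟨U₀, hU₀, hU₀2⟩ := ρ.exists_lift_sq q.mul_self (-1 : kˣ)
  have hg1 : c3 a b c * d2 a b c d * (c3 a b c)⁻¹ = d2 b c a d := by
    rw [d2_conj _ q.hab q.hcd, c3_apply_a q.hab q.hac q.hbc, c3_apply_b q.hab q.hac q.hbc,
      c3_apply_c q.hab q.hac q.hbc, c3_apply_ne q.hab q.hbc q.had.symm q.hbd.symm q.hcd.symm]
  have q1 : Quad b c a d := ⟨q.hbc, q.hab.symm, q.hbd, q.hac.symm, q.hcd, q.had⟩
  have hg2 : c3 a b c * d2 b c a d * (c3 a b c)⁻¹ = d2 c a b d := by
    rw [d2_conj _ q.hbc q.had, c3_apply_a q.hab q.hac q.hbc, c3_apply_b q.hab q.hac q.hbc,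
      c3_apply_c q.hab q.hac q.hbc, c3_apply_ne q.hab q.hbc q.had.symm q.hbd.symm q.hcd.symm]
  have hprod : d2 a b c d * d2 b c a d = d2 c a b d := by
    have q2 : Quad c a b d := ⟨q.hac.symm, q.hbc.symm, q.hcd, q.hab, q.had, q.hbd⟩
    apply alt_ext
    intro y
    rw [alt_mul_apply]
    by_cases ha : y = a
    · subst ha; rw [q1.apply_c, q.apply_d, q2.apply_b]
    by_cases hb : y = b
    · subst hb; rw [q1.apply_a, q.apply_c, q2.apply_c]
    by_cases hc : y = c
    · subst hc; rw [q1.apply_b, q.apply_b, q2.apply_a]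
    by_cases hd : y = d
    · subst hd; rw [q1.apply_d, q.apply_a, q2.apply_d]
    rw [q1.apply_ne hb hc ha hd, q.apply_ne ha hb hc hd, q2.apply_ne hc ha hb hd]
  -- choose the sign so that `I * J = K`
  obtain ⟨U, hU, hU2, hIJ⟩ : ∃ U, ρ.IsLift (d2 a b c d) U ∧ U * U = sc (-1 : kˣ) ∧
      U * (x * U * x⁻¹) = x * (x * U * x⁻¹) * x⁻¹ := by
    have hJ := ρ.lift_conj hxl hU₀
    rw [hg1] at hJ
    have hK := ρ.lift_conj hxl hJ
    rw [hg2] at hK
    have hP := ρ.lift_mul hU₀ hJ
    rw [hprod] at hP
    obtain ⟨s, hs⟩ := ρ.lift_unique hK hP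
    set J := x * U₀ * x⁻¹ with hJdef
    set K := x * J * x⁻¹ with hKdef
    have hJ2 : J * J = sc (-1 : kˣ) := by
      calc J * J = x * (U₀ * U₀) * x⁻¹ := by rw [hJdef]; group
        _ = _ := by rw [hU₀2, ← sc_comm, mul_inv_cancel_right]
    have hK2 : K * K = sc (-1 : kˣ) := by
      calc K * K = x * (J * J) * x⁻¹ := by rw [hKdef]; group
        _ = _ := by rw [hJ2, ← sc_comm, mul_inv_cancel_right]
    have hanti' : U₀ * J = sc (-1 : kˣ) * (J * U₀) := by
      have h0 : d2 b c a d = d2 a d b c := (q1.d2_cdab).symm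
      rw [h0] at hJ
      exact hanti a b d c q.perm_abdc U₀ J (q.d2_abdc ▸ hU₀) hJ
    have hsq : (U₀ * J) * (U₀ * J) = sc (-1 : kˣ) := by
      calc (U₀ * J) * (U₀ * J) = U₀ * J * (sc (-1 : kˣ) * (J * U₀)) := by rw [← hanti']
        _ = sc (-1 : kˣ) * (U₀ * (J * J) * U₀) := by
            rw [← mul_assoc (U₀ * J) (sc (-1 : kˣ)), ← sc_comm]; group
        _ = sc (-1 : kˣ) * (sc (-1 : kˣ) * (U₀ * U₀)) := by
            rw [hJ2, ← sc_comm]; group
        _ = sc (-1 : kˣ) := by rw [hU₀2, ← _root_.map_mul, neg_one_mul, neg_neg, map_one, mul_one]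
    have hs2 : (sc (s * s) : (Module.End k V)ˣ) = sc 1 := by
      have h1 : (sc s * K) * (sc s * K) = sc (s * s) * (K * K) := by
        calc (sc s * K) * (sc s * K) = sc s * (K * sc s) * K := by group
          _ = _ := by rw [← sc_comm, _root_.map_mul]; group
      rw [hs] at hsq
      rw [h1, hK2] at hsq
      rw [map_one]
      exact mul_eq_right.mp hsq
    refine ⟨sc s * U₀, ρ.lift_sc_mul hU₀ s, ?_, ?_⟩
    · calc sc s * U₀ * (sc s * U₀) = sc s * (U₀ * sc s) * U₀ := by group
        _ = sc (s * s) * (U₀ * U₀) := by rw [← sc_comm, _root_.map_mul]; group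
        _ = _ := by rw [hs2, map_one, one_mul, hU₀2]
    · have e1 : x * (sc s * U₀) * x⁻¹ = sc s * J := by
        rw [hJdef, ← mul_assoc x (sc s), ← sc_comm]; group
      have e2 : x * (sc s * J) * x⁻¹ = sc s * K := by
        rw [hKdef, ← mul_assoc x (sc s), ← sc_comm]; group
      rw [e1, e2]
      calc sc s * U₀ * (sc s * J) = sc s * (U₀ * sc s) * J := by group
        _ = sc (s * s) * (U₀ * J) := by rw [← sc_comm, _root_.map_mul]; group
        _ = sc s * K := by rw [hs2, map_one, one_mul, hs]
  -- endomorphisms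
  set Ju := x * U * x⁻¹ with hJu
  set Ku := x * Ju * x⁻¹ with hKu
  have hJl : ρ.IsLift (d2 b c a d) Ju := hg1 ▸ ρ.lift_conj hxl hU
  have hKl : ρ.IsLift (d2 c a b d) Ku := hg2 ▸ ρ.lift_conj hxl hJl
  have hJu2 : Ju * Ju = sc (-1 : kˣ) := by
    calc Ju * Ju = x * (U * U) * x⁻¹ := by rw [hJu]; group
      _ = _ := by rw [hU2, ← sc_comm, mul_inv_cancel_right]
  have hKu2 : Ku * Ku = sc (-1 : kˣ) := by
    calc Ku * Ku = x * (Ju * Ju) * x⁻¹ := by rw [hKu]; group
      _ = _ := by rw [hJu2, ← sc_comm, mul_inv_cancel_right]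
  set I := (U : Module.End k V)
  set J := (Ju : Module.End k V)
  set K := (Ku : Module.End k V)
  set X := (x : Module.End k V)
  have hII : I * I = -1 := by rw [← Units.val_mul, hU2, sc_neg_one_val]
  have hJJ : J * J = -1 := by rw [← Units.val_mul, hJu2, sc_neg_one_val]
  have hKK : K * K = -1 := by rw [← Units.val_mul, hKu2, sc_neg_one_val]
  have hIJ' : I * J = K := by rw [← Units.val_mul, hIJ]
  have hJI : J * I = -K := by
    have h0 : d2 b c a d = d2 a d b c := (q1.d2_cdab).symm
    have h1 := hanti a b d c q.perm_abdc U Ju (q.d2_abdc ▸ hU) (h0 ▸ hJl)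
    have h2' : I * J = -(J * I) := by
      have h3' := congrArg Units.val h1
      rw [sc_neg_one_mul] at h3'
      exact h3'
    rw [← hIJ', h2', neg_neg]
  have hJK : J * K = I := by
    rw [← hIJ', ← mul_assoc, hJI, neg_mul, ← hIJ', mul_assoc, hJJ, mul_neg, mul_one, neg_neg]
  have hKI : K * I = J := by
    rw [← hIJ', mul_assoc, hJI, mul_neg, ← hIJ', ← mul_assoc, hII, neg_mul, one_mul, neg_neg]
  have hIK : I * K = -J := by rw [← hIJ', ← mul_assoc, hII, neg_mul, one_mul]
  have hKJ : K * J = -I := by rw [← hIJ', mul_assoc, hJJ, mul_neg, mul_one]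
  have three : ∀ z : Module.End k V, z + z + z = 0 := fun z => by
    rw [show z + z + z = (3 : k) • z by module, h3, zero_smul]
  set S := I + J + K with hSdef
  have hS2 : S * S = 0 := by
    have : S * S = -((1 : Module.End k V) + 1 + 1) := by
      simp only [hSdef, add_mul, mul_add, hII, hJJ, hKK, hIJ', hJI, hJK, hKJ, hKI, hIK]
      abel
    rw [this, three, neg_zero]
  have hX3 : x * x * x = 1 := by rw [← pow_three', L.cube a b c q.hab q.hac q.hbc]
  have hKx : x * Ku * x⁻¹ = U := by
    calc x * Ku * x⁻¹ = (x * x * x) * U * (x * x * x)⁻¹ := by rw [hKu, hJu]; group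
      _ = U := by rw [hX3]; group
  have hxI : X * I = J * X := by
    show ((x * U : (Module.End k V)ˣ) : Module.End k V) = ((Ju * x : (Module.End k V)ˣ) : Module.End k V)
    rw [hJu, inv_mul_cancel_right]
  have hxJ : X * J = K * X := by
    show ((x * Ju : (Module.End k V)ˣ) : Module.End k V) = ((Ku * x : (Module.End k V)ˣ) : Module.End k V)
    rw [hKu, inv_mul_cancel_right]
  have hxK : X * K = I * X := by
    show ((x * Ku : (Module.End k V)ˣ) : Module.End k V) = ((U * x : (Module.End k V)ˣ) : Module.End k V)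
    rw [← hKx, inv_mul_cancel_right]
  have hxS : X * S = S * X := by
    simp only [hSdef, mul_add, add_mul, hxI, hxJ, hxK]; abel
  -- `1 + S` rotates `I → J → K`
  have hQI : (1 + S) * I = J * (1 + S) := by
    rw [← sub_eq_zero]
    have : (1 + S) * I - J * (1 + S) = 0 + (I - I) + (J - J) - (K - K) := by
      simp only [hSdef, add_mul, mul_add, one_mul, mul_one, hII, hJI, hKI, hJJ, hJK]
      abel
    rw [this]; abel
  have hQJ : (1 + S) * J = K * (1 + S) := by
    rw [← sub_eq_zero]
    have : (1 + S) * J - K * (1 + S) = 0 + (J - J) + (K - K) - (I - I) := by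
      simp only [hSdef, add_mul, mul_add, one_mul, mul_one, hJJ, hIJ', hKJ, hKI, hKK]
      abel
    rw [this]; abel
  set ν := (1 - S) * X - 1 with hν
  have hcm : (1 - S) * (1 + S) = 1 := by rw [mul_add, mul_one, sub_mul, one_mul, hS2, sub_zero]; abel
  have hcm' : (1 + S) * (1 - S) = 1 := by
    rw [mul_sub, mul_one, add_mul, one_mul, hS2, add_zero]; abel
  have hmove : ∀ {A B : Module.End k V}, (1 + S) * A = B * (1 + S) → (1 - S) * B = A * (1 - S) := by
    intro A B h
    calc (1 - S) * B = (1 - S) * (B * (1 + S)) * (1 - S) := by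
          rw [mul_assoc, mul_assoc B, hcm', mul_one]
      _ = A * (1 - S) := by rw [← h, ← mul_assoc (1 - S), hcm, one_mul]
  have hνI : ν * I = I * ν := by
    rw [hν, sub_mul, mul_sub, one_mul, mul_one, mul_assoc, hxI, ← mul_assoc, hmove hQI, mul_assoc]
  have hνJ : ν * J = J * ν := by
    rw [hν, sub_mul, mul_sub, one_mul, mul_one, mul_assoc, hxJ, ← mul_assoc, hmove hQJ, mul_assoc]
  have hνS : ν * S = S * ν := by
    have hνK : ν * K = K * ν := by
      rw [← hIJ', ← mul_assoc, hνI, mul_assoc, hνJ, mul_assoc]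
    simp only [hSdef, mul_add, add_mul, hνI, hνJ, hνK]
  have hXν : X = (1 + S) * (1 + ν) := by
    rw [hν, add_sub_cancel, ← mul_assoc, hcm', one_mul]
  have hXcube : X * X * X = 1 := by
    show ((x * x * x : (Module.End k V)ˣ) : Module.End k V) = 1
    rw [hX3, Units.val_one]
  have hν3 : ν * (ν * ν) = 0 := by
    have hc : Commute (1 + S) (1 + ν) := (Commute.one_left _).add_left
      ((Commute.one_right S).add_right hνS.symm)
    have h1 : (1 + S) * (1 + S) * (1 + S) = 1 := by
      have : (1 + S) * (1 + S) * (1 + S) = 1 + (S + S + S) + (S * S + S * S + S * S) + S * S * S := by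
        simp only [add_mul, mul_add, one_mul, mul_one]; abel
      rw [this, three, three, hS2, zero_mul]; simp
    have h4 : (1 + ν) * (1 + ν) * (1 + ν) = 1 := by
      have e := hc.mul_pow 3
      rw [pow_three', pow_three', pow_three', h1, one_mul, ← hXν, hXcube] at e
      exact e.symm
    have : (1 + ν) * (1 + ν) * (1 + ν) =
        1 + (ν + ν + ν) + (ν * ν + ν * ν + ν * ν) + ν * (ν * ν) := by
      simp only [add_mul, mul_add, one_mul, mul_one, mul_assoc]; abel
    rw [this, three, three, add_zero, add_zero] at h4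
    simpa using h4
  by_cases hν0 : ν = 0
  · refine L.quadratic_bound hr fun a' b' c' hab hac hbc => ?_
    have hA : X * X + X + 1 = 0 := by
      rw [hXν, hν0, add_zero, mul_one]
      have : (1 + S) * (1 + S) + (1 + S) + 1 = ((1 : Module.End k V) + 1 + 1) + (S + S + S) + S * S := by
        simp only [add_mul, mul_add, one_mul, mul_one]; abel
      rw [this, three, three, hS2]; simp
    obtain ⟨σ, hσ⟩ := exists_alt_map ![a, b, c] ![a', b', c']
      (injective_triple q.hab q.hac q.hbc) (injective_triple hab hac hbc) (by simp; omega)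
    have h1 : ρ.T σ * x * (ρ.T σ)⁻¹ = L.ξ a' b' c' := by
      rw [hxdef, L.conj a b c q.hab q.hac q.hbc σ _ (ρ.lift_T σ),
        show (σ : Equiv.Perm (Fin r)) a = a' from hσ 0,
        show (σ : Equiv.Perm (Fin r)) b = b' from hσ 1,
        show (σ : Equiv.Perm (Fin r)) c = c' from hσ 2]
    refine LinearMap.ext fun y => ?_
    have := congrArg (fun z => (ρ.T σ : Module.End k V) z)
      (LinearMap.congr_fun hA (((ρ.T σ)⁻¹ : (Module.End k V)ˣ).val y))
    simp only [LinearMap.add_apply, Module.End.mul_apply, Module.End.one_apply,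
      LinearMap.zero_apply, map_add, map_zero, apply_inv_units] at this
    rw [← h1]
    simp only [LinearMap.add_apply, Module.End.mul_apply, Module.End.one_apply,
      mul_apply_units, inv_apply_units, LinearMap.zero_apply]
    exact this
  -- ranks of powers of `ν`
  have hrn : ∀ (A : Module.End k V) (P : Submodule k V), P ≤ LinearMap.ker A →
      finrank k P + finrank k (LinearMap.range A) ≤ finrank k V := fun A P hP => by
    have := LinearMap.finrank_range_add_finrank_ker A
    have := Submodule.finrank_mono hP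
    omega
  have hXx : ∀ {σ : Alt r}, σ ∈ suppIn ({a, b, c} : Finset (Fin r))ᶜ → ∀ {Y}, ρ.IsLift σ Y →
      Commute (x : (Module.End k V)ˣ) Y := by
    intro σ hσ Y hY
    have h := L.conj a b c q.hab q.hac q.hbc σ Y hY
    rw [hσ a (by simp), hσ b (by simp), hσ c (by simp), mul_inv_eq_iff_eq_mul, ← hxdef] at h
    exact h.symm
  by_cases hν2 : ν * ν = 0
  · set A := X * X + X + 1 with hA
    have hAeq : A = -(S * ν) := by
      have e : A = ((1 : Module.End k V) + 1 + 1) + (S + S + S) + (ν + ν + ν) +
          ((S * ν + S * ν + S * ν) + (S * ν + S * ν + S * ν)) + S * S * (1 + ν + ν + ν * ν) +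
          (ν * ν) + (S * (ν * ν) + S * (ν * ν)) - S * ν := by
        rw [hA, hXν]
        have hh : (1 + S) * (1 + ν) * ((1 + S) * (1 + ν)) = (1 + S) * (1 + S) * ((1 + ν) * (1 + ν)) := by
          rw [mul_assoc (1 + S), ← mul_assoc (1 + ν) (1 + S), show (1 + ν) * (1 + S) = (1 + S) * (1 + ν) by
            simp only [add_mul, mul_add, one_mul, mul_one, hνS]; abel, mul_assoc, ← mul_assoc]
        rw [hh]
        simp only [add_mul, mul_add, one_mul, mul_one, mul_assoc]
        abel
      rw [e]
      simp only [three, hS2, hν2]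
      simp
    have hSν : S * ν ≠ 0 := by
      intro h0
      apply hν0
      have hanti' : S * I + I * S = 1 := by
        have : S * I + I * S = -((1 : Module.End k V) + 1 + 1) + 1 := by
          simp only [hSdef, add_mul, mul_add, hII, hJI, hKI, hIJ', hIK]; abel
        rw [this, three]; simp
      calc ν = (S * I + I * S) * ν := by rw [hanti', one_mul]
        _ = S * (I * ν) + I * (S * ν) := by rw [add_mul, mul_assoc, mul_assoc]
        _ = 0 := by rw [← hνI, ← mul_assoc, h0, zero_mul, mul_zero, add_zero]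
    set P := LinearMap.range A with hP
    have hP0 : P ≠ ⊥ := fun h => hSν (by
      rw [← neg_eq_zero, ← hAeq]; exact LinearMap.range_eq_bot.mp h)
    have hlow := ρ.spin_lower L hr hanti h3 h2 _ ({a, b, c} : Finset (Fin r))ᶜ P rfl
      (by rw [Finset.card_compl, Fintype.card_fin]
          have h0 : ({a, b, c} : Finset (Fin r)).card ≤ 3 := Finset.card_le_three
          omega)
      hP0 (by
        rintro σ hσ Y hY w ⟨y, rfl⟩
        refine ⟨(Y : Module.End k V) y, ?_⟩
        have hc : X * (Y : Module.End k V) = (Y : Module.End k V) * X :=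
          (Commute.units_val (hXx hσ hY)).eq
        rw [← Module.End.mul_apply, ← Module.End.mul_apply]
        congr 1
        simp only [hA, add_mul, mul_add, one_mul, mul_one, mul_assoc, hc]
        rw [← mul_assoc, hc, mul_assoc])
    have hR1 : finrank k (LinearMap.range ν) + finrank k (LinearMap.range ν) ≤ finrank k V :=
      hrn ν _ (by
        rintro w ⟨y, rfl⟩
        rw [LinearMap.mem_ker, ← Module.End.mul_apply, hν2, LinearMap.zero_apply])
    have hR2 : finrank k P + finrank k P ≤ finrank k (LinearMap.range ν) := by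
      set R := LinearMap.range ν with hR
      set SR := S.domRestrict R with hSR
      have hPR : P = LinearMap.range SR := by
        rw [hP, hAeq, hSR, LinearMap.range_domRestrict, hR, ← LinearMap.range_comp,
          ← Module.End.mul_eq_comp]
        ext w
        constructor
        · rintro ⟨y, rfl⟩; exact ⟨-y, by simp⟩
        · rintro ⟨y, rfl⟩; exact ⟨-y, by simp⟩
      have hrk := LinearMap.finrank_range_add_finrank_ker SR
      have hPle : P ≤ R := by
        rw [hP, hAeq]
        rintro w ⟨y, rfl⟩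
        exact ⟨-(S y), by
          rw [map_neg, LinearMap.neg_apply, Module.End.mul_apply, ← Module.End.mul_apply ν S, hνS,
            Module.End.mul_apply]⟩
      have hker : finrank k P ≤ finrank k (LinearMap.ker SR) := by
        let f : P →ₗ[k] LinearMap.ker SR :=
          LinearMap.codRestrict _ (Submodule.inclusion hPle) (fun w => by
            rw [LinearMap.mem_ker]
            show S (w : V) = 0
            obtain ⟨y, hy⟩ := w.2
            rw [← hy, hAeq, LinearMap.neg_apply, map_neg, Module.End.mul_apply,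
              ← Module.End.mul_apply S, hS2, LinearMap.zero_apply, neg_zero])
        exact LinearMap.finrank_le_finrank_of_injective (f := f) (fun w w' h =>
          Subtype.ext (congrArg (fun z : LinearMap.ker SR => ((z.1 : R) : V)) h))
      rw [← hPR] at hrk
      omega
    have hcard : r - 3 ≤ ({a, b, c} : Finset (Fin r))ᶜ.card := by
      rw [Finset.card_compl, Fintype.card_fin]
      have h0 : ({a, b, c} : Finset (Fin r)).card ≤ 3 := Finset.card_le_three
      omega
    have hpow : 2 ^ ((r - 2) / 4) ≤ finrank k P :=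
      le_trans (Nat.pow_le_pow_right (by omega) (by omega)) hlow
    refine altBound_of_le (n := 4 * finrank k P) ?_ (by omega)
    rcases Nat.lt_or_ge r 10 with h | h
    · have : r = 9 := by omega
      subst this
      norm_num at hpow
      omega
    · have h4 := Nat.lt_two_pow_self (n := (r - 2) / 4)
      omega
  · set P := LinearMap.range (ν * ν) with hP
    obtain ⟨ι, hι⟩ := IsAlgClosed.exists_pow_nat_eq (-1 : k) (show 0 < 2 by omega)
    rw [sq] at hι
    have hIJa : I * J = -(J * I) := by rw [hJI, neg_neg, hIJ']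
    have hPc : ∀ (Y : Module.End k V), ν * Y = Y * ν → ∀ w ∈ P, Y w ∈ P := by
      rintro Y hY w ⟨y, rfl⟩
      refine ⟨Y y, ?_⟩
      rw [← Module.End.mul_apply, ← Module.End.mul_apply, mul_assoc, hY, ← mul_assoc, hY, mul_assoc]
    obtain ⟨hM, hdim, -⟩ := anti_split h2 hι I J hII hJJ hIJa P
      (fun h => hν2 (LinearMap.range_eq_bot.mp h)) (hPc I hνI) (hPc J hνJ)
    have hlow := ρ.spin_lower L hr hanti h3 h2 _ ({a, b, c, d} : Finset (Fin r))ᶜ _ rfl
      (by rw [Finset.card_compl, Fintype.card_fin]
          have h0 : ({a, b, c, d} : Finset (Fin r)).card ≤ 4 := Finset.card_le_four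
          omega)
      hM (by
        rintro σ hσ Y hY w ⟨hwP, hwI⟩
        have hoff : ∀ t ∈ ({a, b, c, d} : Finset (Fin r))ᶜ, t ≠ a ∧ t ≠ b ∧ t ≠ c ∧ t ≠ d := by
          intro t ht
          simpa [not_or] using ht
        have cI := (Commute.units_val (ρ.off_quad_commute hr q hoff hσ hU hY)).eq
        have cJ := (Commute.units_val (ρ.off_quad_commute hr q1 (fun t ht =>
          ⟨(hoff t ht).2.1, (hoff t ht).2.2.1, (hoff t ht).1, (hoff t ht).2.2.2⟩) hσ hJl hY)).eq
        have cX := (Commute.units_val (hXx (suppIn_mono (fun t ht => by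
          obtain ⟨h1, h2, h3, -⟩ := hoff t ht; simp [h1, h2, h3]) hσ) hY)).eq
        change I * (Y : Module.End k V) = (Y : Module.End k V) * I at cI
        change J * (Y : Module.End k V) = (Y : Module.End k V) * J at cJ
        change X * (Y : Module.End k V) = (Y : Module.End k V) * X at cX
        have cK : K * (Y : Module.End k V) = (Y : Module.End k V) * K := by
          rw [← hIJ', mul_assoc, cJ, ← mul_assoc, cI, mul_assoc]
        have cS : S * (Y : Module.End k V) = (Y : Module.End k V) * S := by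
          simp only [hSdef, add_mul, mul_add, cI, cJ, cK]
        have cν : ν * (Y : Module.End k V) = (Y : Module.End k V) * ν := by
          have h1 : (1 - S) * (Y : Module.End k V) = (Y : Module.End k V) * (1 - S) := by
            rw [sub_mul, mul_sub, one_mul, mul_one, cS]
          rw [hν, sub_mul, mul_sub, one_mul, mul_one, mul_assoc, cX, ← mul_assoc, h1, mul_assoc]
        refine ⟨hPc _ cν w hwP, ?_⟩
        simp only [SetLike.mem_coe, LinearMap.mem_ker, LinearMap.sub_apply, LinearMap.smul_apply,
          Module.End.one_apply, sub_eq_zero] at hwI ⊢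
        rw [← Module.End.mul_apply, cI, Module.End.mul_apply, hwI, map_smul])
    have hR : 3 * finrank k P ≤ finrank k V := by
      have h1 := hrn ν P (by
        rintro w ⟨y, rfl⟩
        rw [LinearMap.mem_ker, ← Module.End.mul_apply, hν3, LinearMap.zero_apply])
      -- `ν` maps `range ν` onto `range ν²`, killing `range ν²`
      set R := LinearMap.range ν with hR
      have hPR : P ≤ R := by
        rintro w ⟨y, rfl⟩
        exact ⟨ν y, rfl⟩
      set N := ν.domRestrict R with hN
      have hrange : LinearMap.range N = P := by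
        rw [hN, LinearMap.range_domRestrict, hR, ← LinearMap.range_comp, ← Module.End.mul_eq_comp]
      have hrk := LinearMap.finrank_range_add_finrank_ker N
      have hker : finrank k P ≤ finrank k (LinearMap.ker N) := by
        let f : P →ₗ[k] LinearMap.ker N :=
          LinearMap.codRestrict _ (Submodule.inclusion hPR) (fun w => by
            rw [LinearMap.mem_ker]
            show ν (w : V) = 0
            obtain ⟨y, hy⟩ := w.2
            rw [← hy, ← Module.End.mul_apply, hν3, LinearMap.zero_apply])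
        exact LinearMap.finrank_le_finrank_of_injective (f := f) (fun w w' h =>
          Subtype.ext (congrArg (fun z : LinearMap.ker N => ((z.1 : R) : V)) h))
      rw [hrange] at hrk
      omega
    have hpow : 2 ^ ((r - 3) / 4) ≤ finrank k ↥(P ⊓ LinearMap.ker (I - ι • 1)) :=
      le_trans (Nat.pow_le_pow_right (by omega) (by
        rw [Finset.card_compl, Fintype.card_fin]
        have h0 : ({a, b, c, d} : Finset (Fin r)).card ≤ 4 := Finset.card_le_four
        omega)) hlow
    refine altBound_of_le (n := 6 * finrank k ↥(P ⊓ LinearMap.ker (I - ι • 1))) ?_ (by omega)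
    have h4 := Nat.lt_two_pow_self (n := (r - 3) / 4)
    omega

end PRep

end Cfsg.Agent.AltDeg
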